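import Cfsg.Agent.Lib.HNRecog.Amal.Defs

/-! The second stage. -/

set_option autoImplicit false
set_option maxRecDepth 100000
set_option maxHeartbeats 0
set_option Elab.async false

namespace Cfsg.Agent.HNRecog.Amal

open Cfsg.Agent.HN

theorem z_ok1 : allLo (fun j => okZ (Nat.add 5120 j)) 5120 = true := by decide +kernel

end Cfsg.Agent.HNRecog.Amal
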