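import Cfsg.Agent.Lib.HNRecog.Amal.Lists
import Cfsg.Agent.Lib.HN.ChainSplit
import Cfsg.Agent.Lib.HNRecog.Amal.CheckSq0
import Cfsg.Agent.Lib.HNRecog.Amal.CheckSq1
import Cfsg.Agent.Lib.HNRecog.Amal.CheckSq2
import Cfsg.Agent.Lib.HNRecog.Amal.CheckSq3
import Cfsg.Agent.Lib.HNRecog.Amal.CheckSq4
import Cfsg.Agent.Lib.HNRecog.Amal.CheckSq5
import Cfsg.Agent.Lib.HNRecog.Amal.CheckSq6
import Cfsg.Agent.Lib.HNRecog.Amal.CheckSq7
import Cfsg.Agent.Lib.HNRecog.Amal.CheckS0
import Cfsg.Agent.Lib.HNRecog.Amal.CheckS1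
import Cfsg.Agent.Lib.HNRecog.Amal.CheckS2
import Cfsg.Agent.Lib.HNRecog.Amal.CheckS3
import Cfsg.Agent.Lib.HNRecog.Amal.CheckS4
import Cfsg.Agent.Lib.HNRecog.Amal.CheckS5
import Cfsg.Agent.Lib.HNRecog.Amal.CheckZ0
import Cfsg.Agent.Lib.HNRecog.Amal.CheckZ1
import Cfsg.Agent.Lib.HNRecog.Amal.CheckZ2
import Cfsg.Agent.Lib.HNRecog.Amal.CheckZ3
import Cfsg.Agent.Lib.HNRecog.Amal.CheckZ4
import Cfsg.Agent.Lib.HNRecog.Amal.CheckZ5
import Cfsg.Agent.Lib.HNRecog.Amal.CheckQ00
import Cfsg.Agent.Lib.HNRecog.Amal.CheckQ01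
import Cfsg.Agent.Lib.HNRecog.Amal.CheckQ02
import Cfsg.Agent.Lib.HNRecog.Amal.CheckQ10
import Cfsg.Agent.Lib.HNRecog.Amal.CheckQ11
import Cfsg.Agent.Lib.HNRecog.Amal.CheckQ12

/-!
What the scans say about an involution commuting with `u` that satisfies the relations, and about an element of
order five inverted by `u`.
-/

set_option autoImplicit false
set_option maxRecDepth 100000

namespace Cfsg.Agent.HNRecog.Amal

open Cfsg.Agent.HN

attribute [local irreducible] Dat.cwT Dat.rwT Dat.clsT Dat.corder Dat.twoBits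

noncomputable section

theorem el_sub (L : List (List ℕ)) (w : List ℕ) : el (sub L w) = wv (fun l => el (L.getD l [])) w := by
  induction w with
  | nil => rfl
  | cons l w ih =>
    show el (L.getD l [] ++ sub L w) = _
    rw [el_append, ih, wv_cons]

theorem el_zero : el [0, 0] = hx ^ 2 := by simp [el, wv, g5, sq]

theorem square_ok {c : ℕ} (hc : c < 30720) : okSquare c = true := by
  rcases Nat.lt_or_ge c 3840 with h | h
  · exact chunk sq_ok0 (by omega) (by omega)
  rcases Nat.lt_or_ge c 7680 with h | h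
  · exact chunk sq_ok1 (by omega) (by omega)
  rcases Nat.lt_or_ge c 11520 with h | h
  · exact chunk sq_ok2 (by omega) (by omega)
  rcases Nat.lt_or_ge c 15360 with h | h
  · exact chunk sq_ok3 (by omega) (by omega)
  rcases Nat.lt_or_ge c 19200 with h | h
  · exact chunk sq_ok4 (by omega) (by omega)
  rcases Nat.lt_or_ge c 23040 with h | h
  · exact chunk sq_ok5 (by omega) (by omega)
  rcases Nat.lt_or_ge c 26880 with h | h
  · exact chunk sq_ok6 (by omega) (by omega)
  · exact chunk sq_ok7 (by omega) (by omega)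

theorem stageS_ok {c : ℕ} (hc : c < 30720) : okS c = true := by
  rcases Nat.lt_or_ge c 5120 with h | h
  · exact chunk s_ok0 (by omega) (by omega)
  rcases Nat.lt_or_ge c 10240 with h | h
  · exact chunk s_ok1 (by omega) (by omega)
  rcases Nat.lt_or_ge c 15360 with h | h
  · exact chunk s_ok2 (by omega) (by omega)
  rcases Nat.lt_or_ge c 20480 with h | h
  · exact chunk s_ok3 (by omega) (by omega)
  rcases Nat.lt_or_ge c 25600 with h | h
  · exact chunk s_ok4 (by omega) (by omega)
  exact chunk s_ok5 (by omega) (by omega)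

theorem stageZ_ok {c : ℕ} (hc : c < 30720) : okZ c = true := by
  rcases Nat.lt_or_ge c 5120 with h | h
  · exact chunk z_ok0 (by omega) (by omega)
  rcases Nat.lt_or_ge c 10240 with h | h
  · exact chunk z_ok1 (by omega) (by omega)
  rcases Nat.lt_or_ge c 15360 with h | h
  · exact chunk z_ok2 (by omega) (by omega)
  rcases Nat.lt_or_ge c 20480 with h | h
  · exact chunk z_ok3 (by omega) (by omega)
  rcases Nat.lt_or_ge c 25600 with h | h
  · exact chunk z_ok4 (by omega) (by omega)
  exact chunk z_ok5 (by omega) (by omega)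

theorem marked {a : H0} (ha : Commute a uE) (h2 : a * a = 1) :
    a = 1 ∨ ∃ c < 30720, eT c = a ∧ bitTwo c = true := by
  obtain ⟨c, hc, rfl⟩ := both_lists.1 a ha
  have hl := (tw_spec hc).1
  have h := square_ok hc
  simp only [okSquare, Bool.or_eq_true, Bool.not_eq_true', Nat.beq_eq] at h
  rcases h with (h | h) | h
  · exact Or.inr ⟨c, hc, rfl, h⟩
  · subst h
    left
    have e : eT 0 * eT 0 = 1 := h2
    by_contra hne
    have h0 : eqK (tw 0) [] = true := by decide +kernel
    exact hne ((eqK_spec h0).trans el_nil)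
  · exfalso
    have e : el (tw c ++ tw c) = el [] := by rw [el_append, el_nil]; exact h2
    have hk := (keyW_eq_iff (letOK_cat hl hl) (v := []) rfl).2 e
    have h0 : big.actW (tw c ++ tw c) 0 = 0 := by
      have e0 : big.actW (tw c ++ tw c) (base6.getD 0 0) = big.actW [] (base6.getD 0 0) := by
        rw [← fld_pack6 (small_images (letOK_cat hl hl)) (show 0 < 6 by norm_num),
          ← fld_pack6 (small_images (w := []) rfl) (show 0 < 6 by norm_num)]
        exact congrArg (fun k => fld k 0) hk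
      exact e0
    rw [h0, hk] at h
    simp at h

theorem fW_ok : letOK 5 Dat.fW = true := by decide +kernel

theorem sub_letOK {L : List (List ℕ)} (hL : ∀ w ∈ L, letOK 5 w = true) (w : List ℕ) :
    letOK 5 (sub L w) = true := by
  simp only [letOK, sub, List.all_flatMap, List.all_eq_true] at *
  intro l _
  rcases Nat.lt_or_ge l L.length with h | h
  · rw [List.getD_eq_getElem _ _ h]; exact hL _ (List.getElem_mem h)
  · rw [List.getD_eq_default _ _ h]; intro x hx; exact absurd hx List.not_mem_nil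

/-- **The first stage.** -/
theorem stageS {s : H0} (hs : Commute s uE) (hs2 : s * s = 1) (hne : s ≠ 1)
    (hw : wv (fun l => [el Dat.fW, s].getD l 1) Dat.wu = hx ^ 2) :
    ∃ d : H0, Commute d uE ∧ d * el Dat.fW = el Dat.fW * d ∧
      (d * s * d⁻¹ = eT Dat.sGood ∨ d * s * d⁻¹ = eT Dat.sBad) := by
  obtain ⟨c, hc, rfl, hb⟩ := (marked hs hs2).resolve_left hne
  have h := stageS_ok hc
  simp only [okS, hb, Bool.not_true, Bool.false_or, Bool.or_eq_true, Bool.not_eq_true', List.any_eq_true,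
    Bool.and_eq_true, Nat.beq_eq, Nat.blt_eq] at h
  rcases h with h | ⟨⟨c', d, r⟩, -, ⟨⟨⟨⟨rfl, hd⟩, hr⟩, hf⟩, he⟩⟩
  · exfalso
    have e : el (sub [Dat.fW, tw c] Dat.wu) = el [0, 0] := by
      rw [el_sub, el_zero, ← hw]
      refine wv_congr _ fun l _ => ?_
      match l with
      | 0 => rfl
      | 1 => rfl
      | _ + 2 => simp [el_nil]
    have hl : letOK 5 (sub [Dat.fW, tw c] Dat.wu) = true := sub_letOK (by
      simp only [List.mem_cons, List.not_mem_nil, or_false]
      rintro w (rfl | rfl)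
      exacts [fW_ok, (tw_spec hc).1]) _
    rw [(keyW_eq_iff hl (v := [0, 0]) rfl).2 e] at h
    simp at h
  · refine ⟨eT d, (tw_spec hd).2, (comK_spec hf).2.2.eq, ?_⟩
    have e := eqK_spec he
    rw [el_append, el_append] at e
    have e' : eT d * eT c' * (eT d)⁻¹ = eT (Dat.reps.getD r 0) := by
      rw [eT, eT, eT, e, mul_inv_cancel_right]
    have hlen : Dat.reps.length = 2 := by decide +kernel
    have hrep : ∀ c ∈ Dat.reps, c = Dat.sGood ∨ c = Dat.sBad := by decide +kernel
    rw [e']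
    have hmem : Dat.reps.getD r 0 ∈ Dat.reps := by
      rw [List.getD_eq_getElem _ _ (show r < Dat.reps.length by rw [hlen]; exact hr)]; exact List.getElem_mem _
    rcases hrep _ hmem with h | h
    · exact Or.inl (by rw [h])
    · exact Or.inr (by rw [h])

/-- The images of the generators. -/
def imE (z' : H0) (l : ℕ) : H0 := [el Dat.fW, eT Dat.sGood, z', uE].getD l 1

theorem el_imgs (c : ℕ) (l : ℕ) : el ((imgs c).getD l []) = imE (eT c) l := by
  match l with
  | 0 | 1 | 2 | 3 => rfl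
  | _ + 4 => simp [imgs, imE, el_nil]

theorem imgs_letOK {c : ℕ} (hc : c < 30720) : ∀ w ∈ imgs c, letOK 5 w = true := by
  have hg : Dat.sGood < 30720 := by decide +kernel
  simp only [imgs, List.mem_cons, List.not_mem_nil, or_false]
  rintro w (rfl | rfl | rfl | rfl)
  exacts [fW_ok, (tw_spec hg).1, (tw_spec hc).1, uW_ok]

/-- **The second stage.** -/
theorem stageZ {z' : H0} (hz : Commute z' uE) (hz2 : z' * z' = 1) (hne : z' ≠ 1)
    (hrel : ∀ r ∈ Dat.relZ, wv (imE z') r.1 = wv (imE z') r.2) :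
    (∃ i < 2, z' = eT (Dat.zGood.getD i 0)) ∨
      ∃ h : H0, z' = h⁻¹ * (uE * hx ^ 2) * h := by
  obtain ⟨c, hc, rfl, hb⟩ := (marked hz hz2).resolve_left hne
  have h := stageZ_ok hc
  simp only [okZ, hb, Bool.not_true, Bool.false_or, Bool.or_eq_true, List.any_eq_true, Bool.not_eq_true',
    Bool.and_eq_true, Nat.beq_eq] at h
  rcases h with (⟨r, hr, h⟩ | ⟨e, he, rfl⟩) | ⟨e, -, rfl, h⟩
  · exfalso
    have e : el (sub (imgs c) r.1) = el (sub (imgs c) r.2) := by
      rw [el_sub, el_sub, wv_congr _ fun l _ => el_imgs c l, wv_congr (w := r.2) _ fun l _ => el_imgs c l]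
      exact hrel r hr
    rw [(keyW_eq_iff (sub_letOK (imgs_letOK hc) _) (sub_letOK (imgs_letOK hc) _)).2 e] at h
    simp at h
  · left
    obtain ⟨i, hi, e'⟩ := List.mem_iff_getElem.1 he
    have hlen : Dat.zGood.length = 2 := by decide +kernel
    exact ⟨i, hlen ▸ hi, by rw [List.getD_eq_getElem _ _ hi, e']⟩
  · right
    refine ⟨el e.2, ?_⟩
    have e' := eqK_spec h
    rw [el_append, el_append, el_append, el_winv, el_zero] at e'
    exact e'

/-- **The elements of order five.** -/
theorem stageQ {i : ℕ} (hi : i < 2) {q : H0} (h5 : q ^ 5 = 1) (hinv : uE * q * uE = q⁻¹)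
    (hcom : ∀ j < 3, Commute q (el (sub [Dat.fW, tw Dat.sGood] (Dat.wgW.getD j []))))
    (hconj : el (sub (imgs (Dat.zGood.getD i 0)) Dat.n2T) * q = q * q * el (sub (imgs (Dat.zGood.getD i 0)) Dat.n2T)) :
    ∃ e < 5, q = el (Dat.pW.getD i []) ^ e := by
  have hu2 : uE * uE = 1 := by
    have h : eqK (Dat.uW ++ Dat.uW) [] = true := by decide +kernel
    have e := eqK_spec h
    rwa [el_append, el_nil] at e
  have hr : IsConj uE (uE * q) := by
    refine isConj_iff.2 ⟨q⁻¹ ^ 3, ?_⟩
    have hq : ∀ n : ℕ, uE * q ^ n = q⁻¹ ^ n * uE := by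
      intro n
      have hc : SemiconjBy uE q q⁻¹ := by
        show uE * q = q⁻¹ * uE
        rw [← hinv, mul_assoc _ uE uE, hu2, mul_one]
      exact hc.pow_right n
    have h6 : q⁻¹ ^ 6 = q⁻¹ := by rw [pow_succ, inv_pow, h5, inv_one, one_mul]
    rw [← inv_pow, inv_inv, mul_assoc, hq, ← mul_assoc, ← pow_add, h6, show uE * q = uE * q ^ 1 by rw [pow_one],
      hq, pow_one]
  obtain ⟨k, hk, ek⟩ := both_lists.2.1 _ hr
  set zc := Dat.zGood.getD i 0 with hzc
  set p := Dat.pW.getD i [] with hp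
  have hz : zc < 30720 := by
    have h : allLo (fun i => Nat.blt (Dat.zGood.getD i 0) 30720) 2 = true := by decide +kernel
    have h3 := allLo_spec h hi
    simp only [Nat.blt_eq] at h3
    exact h3
  have hpl : letOK 5 p = true := by
    have h : allLo (fun i => letOK 5 (Dat.pW.getD i [])) 2 = true := by decide +kernel
    exact allLo_spec h hi
  have hql : letOK 5 (Dat.uW ++ uk k) = true := letOK_cat uW_ok (cls_spec hk).1
  have eq : el (Dat.uW ++ uk k) = q := by
    rw [el_append]; show uE * eU k = q; rw [ek, ← mul_assoc, hu2, one_mul]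
  have hS : ∀ j, letOK 5 (sub [Dat.fW, tw Dat.sGood] (Dat.wgW.getD j [])) = true := fun j => sub_letOK (by
    have hg : Dat.sGood < 30720 := by decide +kernel
    simp only [List.mem_cons, List.not_mem_nil, or_false]
    rintro w (rfl | rfl)
    exacts [fW_ok, (tw_spec hg).1]) _
  have hn := sub_letOK (imgs_letOK hz) Dat.n2T
  have key : ∀ {a b : List ℕ}, letOK 5 a = true → letOK 5 b = true → el a = el b →
      Nat.beq (keyW a) (keyW b) = true := fun ha hb e => by rw [Nat.beq_eq]; exact (keyW_eq_iff ha hb).2 e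
  have c3 : ∀ j < 3, Nat.beq (keyW (Dat.uW ++ uk k ++ sub [Dat.fW, tw Dat.sGood] (Dat.wgW.getD j [])))
      (keyW (sub [Dat.fW, tw Dat.sGood] (Dat.wgW.getD j []) ++ (Dat.uW ++ uk k))) = true := fun j hj =>
    key (letOK_cat hql (hS j)) (letOK_cat (hS j) hql) (by
      rw [el_append (Dat.uW ++ uk k), el_append (sub _ _), eq]; exact (hcom j hj).eq)
  have c0 : Nat.beq (big.actW (Dat.uW ++ uk k ++ sub [Dat.fW, tw Dat.sGood] (Dat.wgW.getD 1 [])) 0)
      (big.actW (sub [Dat.fW, tw Dat.sGood] (Dat.wgW.getD 1 []) ++ (Dat.uW ++ uk k)) 0) = true := by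
    rw [Nat.beq_eq]
    have e := congrArg (fun v => fld v 0) (Nat.eq_of_beq_eq_true (c3 1 (by norm_num)))
    simp only [keyW] at e
    rwa [fld_pack6 (small_images (letOK_cat hql (hS 1))) (by norm_num),
      fld_pack6 (small_images (letOK_cat (hS 1) hql)) (by norm_num)] at e
  have c5 : Nat.beq (keyW (Dat.uW ++ uk k ++ (Dat.uW ++ uk k) ++ (Dat.uW ++ uk k) ++ (Dat.uW ++ uk k) ++
      (Dat.uW ++ uk k))) (keyW []) = true :=
    key (letOK_cat (letOK_cat (letOK_cat (letOK_cat hql hql) hql) hql) hql) rfl (by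
      rw [el_append, el_append, el_append, el_append (Dat.uW ++ uk k), eq, el_nil, ← h5]
      simp [pow_succ])
  have cn : Nat.beq (keyW (sub (imgs zc) Dat.n2T ++ (Dat.uW ++ uk k)))
      (keyW (Dat.uW ++ uk k ++ (Dat.uW ++ uk k) ++ sub (imgs zc) Dat.n2T)) = true :=
    key (letOK_cat hn hql) (letOK_cat (letOK_cat hql hql) hn) (by
      rw [el_append, el_append (Dat.uW ++ uk k ++ _), el_append (Dat.uW ++ uk k), eq]; exact hconj)
  have h : okQ i k = true := by
    rcases (show i = 0 ∨ i = 1 by omega) with rfl | rfl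
    · rcases Nat.lt_or_ge k 1925 with h | h
      · exact chunk q_ok00 (by omega) (by omega)
      rcases Nat.lt_or_ge k 3850 with h | h
      · exact chunk q_ok01 (by omega) (by omega)
      exact chunk q_ok02 (by omega) (by omega)
    · rcases Nat.lt_or_ge k 1925 with h | h
      · exact chunk q_ok10 (by omega) (by omega)
      rcases Nat.lt_or_ge k 3850 with h | h
      · exact chunk q_ok11 (by omega) (by omega)
      exact chunk q_ok12 (by omega) (by omega)
  have hall : allLo (fun j => Nat.beq (keyW (Dat.uW ++ uk k ++ sub [Dat.fW, tw Dat.sGood] (Dat.wgW.getD j [])))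
      (keyW (sub [Dat.fW, tw Dat.sGood] (Dat.wgW.getD j []) ++ (Dat.uW ++ uk k)))) 3 = true :=
    allLo_of_forall c3
  simp only [okQ, ← hzc, ← hp, hall, c0, c5, cn, Bool.not_true, Bool.false_or, Bool.or_eq_true, Nat.beq_eq] at h
  have pw' : ∀ {w : List ℕ} {e : ℕ}, letOK 5 w = true → el w = el p ^ e →
      keyW (Dat.uW ++ uk k) = keyW w → q = el p ^ e := fun hw he hk' => by
    rw [← eq, (keyW_eq_iff hql hw).1 hk', he]
  rcases h with (((h | h) | h) | h) | h
  · exact ⟨0, by norm_num, pw' rfl (by rw [el_nil, pow_zero]) h⟩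
  · exact ⟨1, by norm_num, pw' hpl (pow_one _).symm h⟩
  · exact ⟨2, by norm_num, pw' (letOK_cat hpl hpl) (by rw [el_append, pow_two]) h⟩
  · exact ⟨3, by norm_num, pw' (letOK_cat (letOK_cat hpl hpl) hpl) (by simp [el_append, pow_succ, mul_assoc]) h⟩
  · exact ⟨4, by norm_num, pw' (letOK_cat (letOK_cat (letOK_cat hpl hpl) hpl) hpl) (by simp [el_append, pow_succ, mul_assoc]) h⟩

end

end Cfsg.Agent.HNRecog.Amal
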