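import Cfsg.Agent.Lib.HN.Word

/-! The data of the amalgam: words for a centraliser, a class and the witnesses. -/

set_option autoImplicit false
set_option maxRecDepth 100000
set_option maxHeartbeats 0

namespace Cfsg.Agent.HNRecog.Amal.Dat

noncomputable section

/-- data -/
def uW : List ℕ :=
  [2, 0, 2, 2, 2, 1, 3]

/-- data -/
def aW : List ℕ :=
  [0, 2, 4, 3, 3, 0, 2, 0, 2, 1, 2, 1, 3, 3, 3, 4, 3, 1]

/-- data -/
def fW : List ℕ :=
  [0, 3, 0, 3, 3, 0, 2, 2, 0, 3, 3, 0, 3, 0, 2, 2, 0, 2, 0, 2, 2, 2]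

/-- data -/
def vW : List ℕ :=
  [3, 0, 2, 2, 2, 1, 2]

/-- data -/
def aH : List ℕ :=
  [3, 0, 3, 4, 2, 2, 4, 3]

/-- data -/
def vH : List ℕ :=
  [2, 2]

/-- data -/
def cwT : Cfsg.Agent.HN.Trie :=
  (.node (.node (.node (.node (.node (.node (.node (.node (.leaf 0x0) (.leaf 0x6ba5d6618996ec861)) (.node (.leaf 0x616da6cb659) (.leaf 0x190b6cb66190c2d9))) (.node (.node (.leaf 0x15badd6ec4cb) (.leaf 0x75b65bb0b65bae9)) (.node (.leaf 0x1218596cc30b2d9) (.leaf 0xb2574b6eb75a6eb)))) (.node (.node (.node (.leaf 0x2b75badd) (.leaf 0x95b74b2d96ec865)) (.node (.leaf 0x65bacc899964b25) (.leaf 0xcb2cb30b6cc2d9))) (.node (.node (.leaf 0xacb6cbadd6ec30b) (.leaf 0x6594c3296dd96292b)) (.node (.leaf 0x598642d96a18596d9) (.leaf 0x0))))) (.node (.node (.node (.node (.leaf 0x8596cb6cc) (.leaf 0xdb30c89b661864)) (.node (.leaf 0x15bad36cbadd) (.leaf 0x252e97598a16d992b))) (.node (.node (.leaf 0x15badd69b65d) (.leaf 0x5d30b65b7626eb6eb))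 (.node (.leaf 0x12b6eb65badbacc) (.leaf 0x113a5b36575bb25)))) (.node (.node (.node (.leaf 0x30c8a432185b) (.leaf 0x2cb66430b6616d9)) (.node (.leaf 0x30b2cb66430c864) (.leaf 0x2cb66430c3216d9))) (.node (.node (.leaf 0xadd6eb31366590c) (.leaf 0x2db2d96596cc861)) (.node (.leaf 0x5bb2175b75b32cb25) (.leaf 0x0)))))) (.node (.node (.node (.node (.node (.leaf 0x2290b) (.leaf 0x596cc3216996cc861)) (.node (.leaf 0x859764b2585b665) (.leaf 0x330c30b2d965b2db))) (.node (.node (.leaf 0x1132ec964b25) (.leaf 0x1596ec3216d332c2ec)) (.node (.leaf 0x3aeba6192cb1494c) (.leaf 0x15badb35d96530b)))) (.node (.node (.node (.leaf 0x42cb69b6642cb) (.leaf 0x1b6596cc3216cc861)) (.node (.leaf 0x190c89b2cb664) (.leaf 0x95b75b2dd6dd90c))) (.node (.node (.leaf 0x5b6a42cc861) (.leaf 0xb6eb764365864b25)) (.node (.leaf 0x5b6616598a42d9661) (.leaf 0x0))))) (.node (.node (.node (.node (.leaf 0xdb4db2db) (.leaf 0x6643226cb30c)) (.node (.leaf 0x6191485b659)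 (.leaf 0x4a5b65b322965329))) (.node (.node (.leaf 0x1616da964b25) (.leaf 0xccadbb2192b6eb)) (.node (.leaf 0x1975d2d975d2cb75d) (.leaf 0xadd6dd2ecb2b)))) (.node (.node (.node (.leaf 0x42cb69b66430b) (.leaf 0x598642cb30c85b)) (.node (.leaf 0x15996432294b6eb) (.leaf 0x1d2db2cb362929961))) (.node (.node (.leaf 0x596d42d96d9) (.leaf 0x10c94b6eb65badbacc)) (.node (.leaf 0x15baeb2ebadd30c85b) (.leaf 0x0))))))) (.node (.node (.node (.node (.node (.node (.leaf 0x450b) (.leaf 0x1296cb75b75d4dd92c)) (.node (.leaf 0xcb3226cb30c) (.leaf 0xaeb2db2dd964aeb))) (.node (.node (.leaf 0x12592c96285d) (.leaf 0x616598619136cb2d9)) (.node (.leaf 0x332cb2591375baeb) (.leaf 0xc86190c2cb661)))) (.node (.node (.node (.leaf 0x15badd6ec50b) (.leaf 0xd96596da6cb2db)) (.node (.leaf 0x12b6cb2da75d665) (.leaf 0x3aeb65992cb2c95a))) (.node (.node (.leaf 0x6190c86430b2cb) (.leaf 0x365965b32186430c)) (.node (.leaf 0x1216cba64b2c52cb25) (.leaf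 0x0))))) (.node (.node (.node (.node (.leaf 0x42d96cb6cc) (.leaf 0x4aec365753acb)) (.node (.leaf 0x86175bacb6cbadd) (.leaf 0x594cb0c3228596ec))) (.node (.node (.leaf 0x89b2eb75badd) (.leaf 0x5bb2175b75d7616dd)) (.node (.leaf 0x1d65badd6d48616dd) (.leaf 0x24b256ebb296eb)))) (.node (.node (.node (.leaf 0x2db3142d965b) (.leaf 0xa6590c89d90b6ec)) (.node (.leaf 0x6656eb75bb0c321) (.leaf 0xd990c321859659))) (.node (.node (.leaf 0x165b30c321859) (.leaf 0xb75badb31375b665)) (.node (.leaf 0x36616cc3216cc321) (.leaf 0x0)))))) (.node (.node (.node (.node (.node (.leaf 0xd36cc) (.leaf 0x2c56575d95b)) (.node (.leaf 0xdb30b6a430b2db) (.leaf 0x12c36574bb29))) (.node (.node (.leaf 0x1142ec964b25) (.leaf 0x33216cb321664321)) (.node (.leaf 0x3aeb75bacb325329) (.leaf 0x365b3136cb321)))) (.node (.node (.node (.leaf 0x430c89b65b2cb) (.leaf 0x42cb6643216cb30c)) (.node (.leaf 0x6cb6596cc861859) (.leaf 0xcb6cc96435d75bb25))) (.node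 (.node (.leaf 0xdb30b2da90b2db) (.leaf 0xb65986185b2cc)) (.node (.leaf 0x1216d96d96d9) (.leaf 0x0))))) (.node (.node (.node (.node (.leaf 0x32db3216cb) (.leaf 0x596cc2cb32285b2cc)) (.node (.leaf 0x33219136596cc) (.leaf 0x2b75b2eb35bb256d9))) (.node (.node (.leaf 0xb0b2dbb2592b2cb) (.leaf 0x565bb2191374b6eb)) (.node (.leaf 0x643296ebad3aeb75b) (.leaf 0x89ba5b36575bb25)))) (.node (.node (.node (.leaf 0x430c89b65b30b) (.leaf 0x6430b2cc86165b)) (.node (.leaf 0x16dd9643226cb75d) (.leaf 0xbae96cb36285b74c))) (.node (.node (.leaf 0x366431485b2d9) (.leaf 0x190b2d96642db2d9)) (.node (.leaf 0x596ec861659965329) (.leaf 0x0)))))))) (.node (.node (.node (.node (.node (.node (.node (.leaf 0x44cb) (.leaf 0x4adb30cb0c94cb0c)) (.node (.leaf 0x2d99136cb30c) (.leaf 0xcc2cb6616cc30c))) (.node (.node (.leaf 0x164b2592c4cb) (.leaf 0x3acb7643226e96dd)) (.node (.leaf 0x1216cb30c2d9661) (.leaf 0xb3218596cb2d9)))) (.node (.node (.node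 (.leaf 0x2c964b25) (.leaf 0x4adba642d96ec865)) (.node (.leaf 0x32dd664322964b25) (.leaf 0x185b2cc3216cb664))) (.node (.node (.leaf 0xadd65b65d6ec30b) (.leaf 0x3b2b6cc3626d992b)) (.node (.leaf 0x1d96586435baebaec) (.leaf 0x0))))) (.node (.node (.node (.node (.leaf 0x8616cb6cc) (.leaf 0x2db2cc8596cc861)) (.node (.leaf 0x8596cb3216cb30c) (.leaf 0x296cc86430ba5badd))) (.node (.node (.leaf 0x1142eb75badd) (.leaf 0xdd2ebaeb2dd864b0c)) (.node (.leaf 0x1965b32186430b65b) (.leaf 0x95b56575bb25)))) (.node (.node (.node (.leaf 0x90b2da6cb659) (.leaf 0x165b32186165b65b)) (.node (.leaf 0x8596cb32185b321) (.leaf 0xcb2cc30b6d42cb30c))) (.node (.node (.leaf 0x56eb7596d366590c) (.leaf 0xcbadd75965d664b2c)) (.node (.leaf 0x2cc321699861859) (.leaf 0x0)))))) (.node (.node (.node (.node (.node (.leaf 0x1136cb) (.leaf 0x16d96618642d965b)) (.node (.leaf 0x859764b0b6ccb25) (.leaf 0xb2995d75365d))) (.node (.node (.leaf 0x8a42ec964b25)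 (.leaf 0x32cc3216cb66430b)) (.node (.leaf 0x2b6cb2d992c96452c) (.leaf 0x2d965b2cc321664)))) (.node (.node (.node (.leaf 0x430b69b6642cb) (.leaf 0x5d74b764b2585ba64)) (.node (.leaf 0xb2585b66592c2cb) (.leaf 0x2cadd32b6eb75b))) (.node (.node (.leaf 0x10c30b2d96cb659) (.leaf 0x2430c85b32185b2cc)) (.node (.leaf 0x5b65b65b65b) (.leaf 0x0))))) (.node (.node (.node (.node (.leaf 0x65b66430b) (.leaf 0x6598a42d96cc)) (.node (.leaf 0x6cc2d365b321) (.leaf 0x56d965b2eb75b4ec))) (.node (.node (.leaf 0x164b2589b665) (.leaf 0xacb76432294b6eb)) (.node (.leaf 0x16cb3216cb321664) (.leaf 0x2592976592b75b)))) (.node (.node (.node (.leaf 0x430b69b66430b) (.leaf 0xe96ebacb32c4dd75b)) (.node (.leaf 0xaccb2191374b6eb) (.leaf 0x52ebad9753acb74c))) (.node (.node (.leaf 0x18596cb2cc861) (.leaf 0x56ec2db32cb2a6eb)) (.node (.leaf 0x3ae965b2dbadd6d9) (.leaf 0x0))))))) (.node (.node (.node (.node (.node (.node (.leaf 0x226cb) (.leaf 0x4b2c9642dd6ebad4))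 (.node (.leaf 0x33218a42d96cc) (.leaf 0x6cb6596cb30c859))) (.node (.node (.leaf 0x1132eb75badd) (.leaf 0x32cb6596cc861864)) (.node (.leaf 0xeb764a656dd90c94b) (.leaf 0xadd92cb296eb)))) (.node (.node (.node (.leaf 0xadd6eb7626cb) (.leaf 0x485b2cc2d96cc861)) (.node (.leaf 0x95b74c85b2dd665) (.leaf 0x195baebad9864b2c))) (.node (.node (.leaf 0x12165b2da6d985b) (.leaf 0x1d6cb6cb2d375d2e9)) (.node (.leaf 0xb66190c3216cb2db) (.leaf 0x0))))) (.node (.node (.node (.node (.leaf 0x43216cb6cc) (.leaf 0x2575d94cadd)) (.node (.leaf 0x164b136ccb25) (.leaf 0x375975b2dd94b75d))) (.node (.node (.leaf 0x1596da75badd) (.leaf 0x2994cb218a16d992c)) (.node (.leaf 0x2194c964b2996432c) (.leaf 0x14b2e9964b2c525)))) (.node (.node (.node (.leaf 0x90c3226596d9) (.leaf 0x56dd3216cb76432c)) (.node (.leaf 0x3b2c85b2ebaeb761) (.leaf 0x198642cb2cc321))) (.node (.node (.leaf 0x12165b6a432185b) (.leaf 0x3a6432c36192cb29)) (.node (.leaf 0x2432165b2cb66430c)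 (.leaf 0x0)))))) (.node (.node (.node (.node (.node (.leaf 0x65b6642cb) (.leaf 0x595d76585d)) (.node (.leaf 0x1764b2cb1485baec) (.leaf 0x256cb6cb2d4b252e9))) (.node (.node (.leaf 0xb2592c96290b) (.leaf 0xb2d990b65990c2db)) (.node (.leaf 0x52e96cc32c964b2c) (.leaf 0x96455d75bb25)))) (.node (.node (.node (.leaf 0x42cc89b65b2cb) (.leaf 0x16cb6616cc3216cc)) (.node (.leaf 0x6596cb321664321) (.leaf 0x96432c95b74cadd))) (.node (.node (.leaf 0x65990c2d990c30b) (.leaf 0x6186165b2cb664)) (.node (.leaf 0x59643216d375d6d9) (.leaf 0x0))))) (.node (.node (.node (.node (.leaf 0x32db32190b) (.leaf 0x486190b65b30b2d9)) (.node (.leaf 0xcb32285b321) (.leaf 0x198642cb6642d965b))) (.node (.node (.leaf 0x86175badd6ec30b) (.leaf 0x1d65bae975badd2cb)) (.node (.leaf 0x4ad96d97532dbaec) (.leaf 0x642d36cc2d9)))) (.node (.node (.node (.leaf 0x185b2d36cc85b) (.leaf 0x16dd92b6d486532c)) (.node (.leaf 0x30b2cb3142d9661) (.leaf 0x24b256ebae992b)))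 (.node (.node (.leaf 0x7616cb32c964ad4) (.leaf 0x4b252ebadd89b665)) (.node (.leaf 0x32eba5b2eb2cb6eb) (.leaf 0x0)))))))))

/-- data -/
def corder : Cfsg.Agent.HN.Trie :=
  (.node (.node (.node (.node (.node (.node (.node (.node (.leaf 0xc6) (.leaf 0xb0)) (.node (.leaf 0x2) (.leaf 0xbb))) (.node (.node (.leaf 0x23) (.leaf 0x71)) (.node (.leaf 0x9) (.leaf 0x48)))) (.node (.node (.node (.leaf 0x18) (.leaf 0x6f)) (.node (.leaf 0x25) (.leaf 0xba))) (.node (.node (.leaf 0x3) (.leaf 0xe8)) (.node (.leaf 0xae) (.leaf 0x0))))) (.node (.node (.node (.node (.leaf 0x2e) (.leaf 0x3d)) (.node (.leaf 0x85) (.leaf 0xb6))) (.node (.node (.leaf 0xed) (.leaf 0x7b)) (.node (.leaf 0x7e) (.leaf 0x51)))) (.node (.node (.node (.leaf 0x7a) (.leaf 0x44)) (.node (.leaf 0x24) (.leaf 0x39))) (.node (.node (.leaf 0x57) (.leaf 0xa3)) (.node (.leaf 0x8a) (.leaf 0x0)))))) (.node (.node (.node (.node (.node (.leaf 0x2f) (.leaf 0x4)) (.node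 (.leaf 0x3c) (.leaf 0x3f))) (.node (.node (.leaf 0x95) (.leaf 0x45)) (.node (.leaf 0x34) (.leaf 0x6a)))) (.node (.node (.node (.leaf 0xeb) (.leaf 0x4a)) (.node (.leaf 0x5e) (.leaf 0x43))) (.node (.node (.leaf 0xa5) (.leaf 0x89)) (.node (.leaf 0xb3) (.leaf 0x0))))) (.node (.node (.node (.node (.leaf 0xcc) (.leaf 0xbd)) (.node (.leaf 0x96) (.leaf 0x9f))) (.node (.node (.leaf 0x4e) (.leaf 0x2a)) (.node (.leaf 0x75) (.leaf 0xc4)))) (.node (.node (.node (.leaf 0x7d) (.leaf 0x8f)) (.node (.leaf 0xef) (.leaf 0xbc))) (.node (.node (.leaf 0x55) (.leaf 0xe5)) (.node (.leaf 0x77) (.leaf 0x0))))))) (.node (.node (.node (.node (.node (.node (.leaf 0x0) (.leaf 0xe3)) (.node (.leaf 0xaf) (.leaf 0xa7))) (.node (.node (.leaf 0x7c) (.leaf 0xa9)) (.node (.leaf 0x4d) (.leaf 0xb5)))) (.node (.node (.node (.leaf 0x16) (.leaf 0x69)) (.node (.leaf 0x9c) (.leaf 0xa8))) (.node (.node (.leaf 0xdf) (.leaf 0x8c)) (.node (.leaf 0x6) (.leaf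 0x0))))) (.node (.node (.node (.node (.leaf 0xc5) (.leaf 0x7)) (.node (.leaf 0x73) (.leaf 0x72))) (.node (.node (.leaf 0xce) (.leaf 0x93)) (.node (.leaf 0xa1) (.leaf 0x6e)))) (.node (.node (.node (.leaf 0xcf) (.leaf 0xc0)) (.node (.leaf 0x28) (.leaf 0x6d))) (.node (.node (.leaf 0x21) (.leaf 0x11)) (.node (.leaf 0x12) (.leaf 0x0)))))) (.node (.node (.node (.node (.node (.leaf 0xd4) (.leaf 0x8b)) (.node (.leaf 0x17) (.leaf 0xc3))) (.node (.node (.leaf 0xd0) (.leaf 0xd3)) (.node (.leaf 0x33) (.leaf 0xde)))) (.node (.node (.node (.leaf 0xcd) (.leaf 0xbf)) (.node (.leaf 0x92) (.leaf 0xd6))) (.node (.node (.leaf 0x86) (.leaf 0xe7)) (.node (.leaf 0xad) (.leaf 0x0))))) (.node (.node (.node (.node (.leaf 0x5) (.leaf 0x31)) (.node (.leaf 0xd7) (.leaf 0x65))) (.node (.node (.leaf 0xda) (.leaf 0x29)) (.node (.leaf 0xa4) (.leaf 0x38)))) (.node (.node (.node (.leaf 0x94) (.leaf 0x6c)) (.node (.leaf 0x5f) (.leaf 0x46))) (.node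 (.node (.leaf 0x87) (.leaf 0xa2)) (.node (.leaf 0x1) (.leaf 0x0)))))))) (.node (.node (.node (.node (.node (.node (.node (.leaf 0x19) (.leaf 0xe4)) (.node (.leaf 0xd) (.leaf 0x2d))) (.node (.node (.leaf 0x4f) (.leaf 0x8e)) (.node (.leaf 0x76) (.leaf 0xc1)))) (.node (.node (.node (.leaf 0x15) (.leaf 0x49)) (.node (.leaf 0xab) (.leaf 0x4b))) (.node (.node (.leaf 0xe) (.leaf 0x9a)) (.node (.leaf 0x63) (.leaf 0x0))))) (.node (.node (.node (.node (.leaf 0x5c) (.leaf 0xf)) (.node (.leaf 0xee) (.leaf 0x47))) (.node (.node (.leaf 0xdb) (.leaf 0x2c)) (.node (.leaf 0xa0) (.leaf 0xdc)))) (.node (.node (.node (.leaf 0xd1) (.leaf 0xb9)) (.node (.leaf 0xaa) (.leaf 0xe1))) (.node (.node (.leaf 0x27) (.leaf 0x81)) (.node (.leaf 0x41) (.leaf 0x0)))))) (.node (.node (.node (.node (.node (.leaf 0x5d) (.leaf 0x1d)) (.node (.leaf 0x14) (.leaf 0xb7))) (.node (.node (.leaf 0xea) (.leaf 0x68)) (.node (.leaf 0xb) (.leaf 0xb4)))) (.node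 (.node (.node (.leaf 0xc7) (.leaf 0x6b)) (.node (.leaf 0x90) (.leaf 0xc2))) (.node (.node (.leaf 0x37) (.leaf 0x61)) (.node (.leaf 0xac) (.leaf 0x0))))) (.node (.node (.node (.node (.leaf 0x53) (.leaf 0x79)) (.node (.leaf 0xd5) (.leaf 0xca))) (.node (.node (.leaf 0x22) (.leaf 0x59)) (.node (.leaf 0xa) (.leaf 0x2b)))) (.node (.node (.node (.leaf 0x26) (.leaf 0x64)) (.node (.leaf 0x84) (.leaf 0x3e))) (.node (.node (.leaf 0xa6) (.leaf 0x8d)) (.node (.leaf 0xbe) (.leaf 0x0))))))) (.node (.node (.node (.node (.node (.node (.leaf 0x1c) (.leaf 0xb2)) (.node (.leaf 0xe0) (.leaf 0x5a))) (.node (.node (.leaf 0x20) (.leaf 0x98)) (.node (.leaf 0xc) (.leaf 0x66)))) (.node (.node (.node (.leaf 0x1b) (.leaf 0x99)) (.node (.leaf 0x10) (.leaf 0x5b))) (.node (.node (.leaf 0xb1) (.leaf 0xe6)) (.node (.leaf 0x4c) (.leaf 0x0))))) (.node (.node (.node (.node (.leaf 0x1a) (.leaf 0x3a)) (.node (.leaf 0x88) (.leaf 0xcb))) (.node (.node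 (.leaf 0x36) (.leaf 0x60)) (.node (.leaf 0x7f) (.leaf 0xc9)))) (.node (.node (.node (.leaf 0x54) (.leaf 0x83)) (.node (.leaf 0x9e) (.leaf 0xdd))) (.node (.node (.leaf 0x56) (.leaf 0x9d)) (.node (.leaf 0x30) (.leaf 0x0)))))) (.node (.node (.node (.node (.node (.leaf 0xc8) (.leaf 0x40)) (.node (.leaf 0x3b) (.leaf 0x42))) (.node (.node (.leaf 0x78) (.leaf 0x70)) (.node (.leaf 0x8) (.leaf 0x50)))) (.node (.node (.node (.leaf 0x52) (.leaf 0x82)) (.node (.leaf 0x74) (.leaf 0x67))) (.node (.node (.leaf 0x35) (.leaf 0x9b)) (.node (.leaf 0x62) (.leaf 0x0))))) (.node (.node (.node (.node (.leaf 0x1f) (.leaf 0x13)) (.node (.leaf 0x97) (.leaf 0xd8))) (.node (.node (.leaf 0xec) (.leaf 0x58)) (.node (.leaf 0xd9) (.leaf 0xe2)))) (.node (.node (.node (.leaf 0xe9) (.leaf 0xd2)) (.node (.leaf 0x91) (.leaf 0xb8))) (.node (.node (.leaf 0x32) (.leaf 0x80)) (.node (.leaf 0x1e) (.leaf 0x0)))))))))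

/-- data -/
def rwT : Cfsg.Agent.HN.Trie :=
  (.node (.node (.node (.node (.node (.node (.node (.leaf 0x0) (.leaf 0x5d94c95b)) (.node (.leaf 0x256dd764add) (.leaf 0x592b749))) (.node (.node (.leaf 0x16185b764) (.leaf 0x164add)) (.node (.leaf 0x595b75d) (.leaf 0x176295b75d)))) (.node (.node (.node (.leaf 0xdd6d965d) (.leaf 0x92b749)) (.node (.leaf 0x430b35d94b764) (.leaf 0xb0c2eb764))) (.node (.node (.leaf 0x1bb21761) (.leaf 0x430badd92a761)) (.node (.leaf 0x2cadbac9) (.leaf 0x12b65d94b))))) (.node (.node (.node (.node (.leaf 0x5) (.leaf 0x495965b764)) (.node (.leaf 0x2cb2cb765964) (.leaf 0xdd929761))) (.node (.node (.leaf 0x4adbac9) (.leaf 0x15bb2595b75d)) (.node (.leaf 0x164ad9761) (.leaf 0x2c95b)))) (.node (.node (.node (.leaf 0xec35bb252ec) (.leaf 0x35d95495b)) (.node (.leaf 0x2a761) (.leaf 0x10c2eb764))) (.node (.node (.leaf 0x495b) (.leaf 0x85974bb29)) (.node (.leaf 0xb256ea761) (.leaf 0x12b69d94b))))))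 (.node (.node (.node (.node (.node (.leaf 0xaec35bb252ec) (.leaf 0x565bacc)) (.node (.leaf 0x2976295b75d) (.leaf 0x1142eb764))) (.node (.node (.leaf 0x3764) (.leaf 0x430b35d953764)) (.node (.leaf 0x2452ba5b) (.leaf 0x2c95965b764)))) (.node (.node (.node (.leaf 0x2285b764) (.leaf 0xb256e9761)) (.node (.leaf 0x42cbadd92a761) (.leaf 0x153b29))) (.node (.node (.leaf 0x2185b764) (.leaf 0x14bb29)) (.node (.leaf 0xb0b35b75b764) (.leaf 0x36eb529964))))) (.node (.node (.node (.node (.leaf 0x6eb6eb6eb) (.leaf 0x24ad9761)) (.node (.leaf 0x176195b75d) (.leaf 0x2165b764))) (.node (.node (.leaf 0x16294b6eb) (.leaf 0xadd929761)) (.node (.leaf 0x569bacc) (.leaf 0x16165b764)))) (.node (.node (.node (.leaf 0x1761) (.leaf 0x164ada761)) (.node (.leaf 0x15bb22761) (.leaf 0xadd6d965b764))) (.node (.node (.leaf 0x2265b764) (.leaf 0x2ecaa4add)) (.node (.leaf 0x4adbaeb764) (.leaf 0x256dd749))))))) (.node (.node (.node (.node (.node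 (.node (.leaf 0x375b32b2eb6eb) (.leaf 0x95b75d)) (.node (.leaf 0x495974b6eb) (.leaf 0x5d94b764))) (.node (.node (.leaf 0x16194b6eb) (.leaf 0x24add)) (.node (.leaf 0x69bacc) (.leaf 0x1256ea761)))) (.node (.node (.node (.leaf 0x2194b6eb) (.leaf 0x16185d)) (.node (.leaf 0x11335b75b764) (.leaf 0x132b6ecadd))) (.node (.node (.leaf 0x2294b6eb) (.leaf 0x495a74b6eb)) (.node (.leaf 0x35d953764) (.leaf 0x1256e9761))))) (.node (.node (.node (.node (.leaf 0xec35bb254ec) (.leaf 0x16265b764)) (.node (.leaf 0x1656dd749) (.leaf 0x9d94b764))) (.node (.node (.leaf 0x16285b764) (.leaf 0x15bb21761)) (.node (.leaf 0x495a65b764) (.leaf 0x12b6ecadd)))) (.node (.node (.node (.leaf 0x149) (.leaf 0xbb29)) (.node (.leaf 0xadd92a761) (.leaf 0x92b753b29))) (.node (.node (.leaf 0x65bacc) (.leaf 0x92b74bb29)) (.node (.leaf 0x196da92b6eb) (.leaf 0x2cadbaeb764)))))) (.node (.node (.node (.node (.node (.leaf 0x9) (.leaf 0x2b6eb529964)) (.node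 (.leaf 0x6ecb2ba61) (.leaf 0x35d94b764))) (.node (.node (.leaf 0x56ecb2baa1) (.leaf 0x2432ba5b)) (.node (.leaf 0x12566195b) (.leaf 0x2b764)))) (.node (.node (.node (.leaf 0x2ec52b6eb) (.leaf 0xdd6d965b764)) (.node (.leaf 0x29761) (.leaf 0xadd909))) (.node (.node (.leaf 0x2ec32b6eb) (.leaf 0xdd92a761)) (.node (.leaf 0x6ecb2baa1) (.leaf 0x2c95a65b764))))) (.node (.node (.node (.node (.leaf 0x2761) (.leaf 0xb2b6eb)) (.node (.leaf 0x2185d) (.leaf 0xb142eb764))) (.node (.node (.leaf 0xdd909) (.leaf 0x2eca64add)) (.node (.leaf 0x13b29) (.leaf 0x9d94c95b)))) (.node (.node (.node (.leaf 0x12b6eb) (.leaf 0x89974bb29)) (.node (.leaf 0x1bb2595b75d) (.leaf 0x86175bb22761))) (.node (.node (.leaf 0x10b35b75b764) (.leaf 0x35d94c95b)) (.node (.leaf 0x1596da92b6eb) (.leaf 0x86175bb21761))))))))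

/-- data -/
def imgR : List ℕ :=
  [0, 1, 2, 3, 4, 5, 7, 11, 17, 23, 36, 42, 44, 45, 46, 53, 59, 72, 78, 80, 85, 91, 104, 110, 114, 120, 133, 139, 140, 142, 150, 156, 158, 166, 173, 182, 204, 215, 219, 220, 225, 230, 257, 259, 268, 273, 278, 285, 295, 304, 327, 356, 376, 383, 387, 392, 408, 414, 416, 422, 446, 453, 460, 518, 525, 543, 561, 577, 602, 604, 636, 653, 658, 660, 661, 662, 672, 694, 697, 715, 717, 718, 736, 743, 745, 775, 778, 783, 789, 795, 798, 799, 803, 810, 827, 831, 840, 841, 877, 928, 943, 945, 947, 950, 956, 967, 987, 1016, 1042, 1072, 1075, 1078, 1095, 1116, 1120, 1174, 1177, 1212, 1274, 1276, 1279, 1291, 1293, 1295, 1350, 1358, 1359, 1386]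

/-- data -/
def clsT0 : Cfsg.Agent.HN.Trie :=
  (.node (.node (.node (.node (.node (.node (.node (.node (.node (.leaf 0x1656cb321) (.leaf 0x6194b)) (.node (.leaf 0x375b659) (.leaf 0x0))) (.node (.node (.leaf 0xdb321) (.leaf 0xbacc32c)) (.node (.leaf 0xba5d6d9) (.leaf 0x0)))) (.node (.node (.node (.leaf 0x2592ba59) (.leaf 0x32cbad9)) (.node (.leaf 0x24ad9664) (.leaf 0x0))) (.node (.node (.leaf 0x1b2ccb21) (.leaf 0x4ad9659)) (.node (.leaf 0x929659) (.leaf 0x0))))) (.node (.node (.node (.node (.leaf 0x2e9664) (.leaf 0x10bb256d9)) (.node (.leaf 0x32595d759) (.leaf 0x0))) (.node (.node (.leaf 0x3ae96e9659) (.leaf 0x6eb659)) (.node (.leaf 0x192c94c) (.leaf 0x0)))) (.node (.node (.node (.leaf 0x65859) (.leaf 0x12530c)) (.node (.leaf 0xbae96d9) (.leaf 0x0))) (.node (.node (.leaf 0x10c2eba59) (.leaf 0x0)) (.node (.leaf 0x1d75b2eb) (.leaf 0x0)))))) (.node (.node (.node (.node (.node (.leaf 0xd965d2d9) (.leaf 0x964321))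 (.node (.leaf 0xa5d664) (.leaf 0x0))) (.node (.node (.leaf 0xcb2cad9) (.leaf 0x5bb2c321)) (.node (.leaf 0xa61759) (.leaf 0x0)))) (.node (.node (.node (.leaf 0x185b661) (.leaf 0x90c94b659)) (.node (.leaf 0xe96e9659) (.leaf 0x0))) (.node (.node (.leaf 0x375b2eb) (.leaf 0x3a6585b)) (.node (.leaf 0x52cbad9) (.leaf 0x0))))) (.node (.node (.node (.node (.leaf 0x332b659) (.leaf 0x15992c2d9)) (.node (.leaf 0x594c32c) (.leaf 0x0))) (.node (.node (.leaf 0xcbaeb2d9) (.leaf 0x56d965b)) (.node (.leaf 0xa59861) (.leaf 0x0)))) (.node (.node (.node (.leaf 0x65b321) (.leaf 0x4864b29659)) (.node (.leaf 0x185badb) (.leaf 0x0))) (.node (.node (.leaf 0x2b665321) (.leaf 0x0)) (.node (.leaf 0x3a5b2eb) (.leaf 0x0))))))) (.node (.node (.node (.node (.node (.node (.leaf 0x12195b2d9) (.leaf 0x15995b759)) (.node (.leaf 0x216dd759) (.leaf 0x0))) (.node (.node (.leaf 0x196dd321) (.leaf 0x6ebb25859)) (.node (.leaf 0x1974b659) (.leaf 0x0))))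 (.node (.node (.node (.leaf 0x15d92c321) (.leaf 0x2c965659)) (.node (.leaf 0x2cb0c2d9) (.leaf 0x0))) (.node (.node (.leaf 0x24a5bad9) (.leaf 0xacc94c)) (.node (.leaf 0x65bb21) (.leaf 0x0))))) (.node (.node (.node (.node (.leaf 0x1864b21) (.leaf 0x374c2d9)) (.node (.leaf 0x61759661) (.leaf 0x0))) (.node (.node (.leaf 0x32c85b) (.leaf 0x2b66530c)) (.node (.leaf 0x3a5d659) (.leaf 0x0)))) (.node (.node (.node (.leaf 0xeb6eb74c) (.leaf 0x2192b321)) (.node (.leaf 0x10bb21) (.leaf 0x0))) (.node (.node (.leaf 0x4961959) (.leaf 0x0)) (.node (.leaf 0x1d6656d9) (.leaf 0x0)))))) (.node (.node (.node (.node (.node (.leaf 0x2db321) (.leaf 0x12c9616d9)) (.node (.leaf 0x21759) (.leaf 0x0))) (.node (.node (.leaf 0x2992ba59) (.leaf 0x3a618642d9)) (.node (.leaf 0x929959) (.leaf 0x0)))) (.node (.node (.node (.leaf 0x2b30b6ec) (.leaf 0x1b2dd659)) (.node (.leaf 0xcb759) (.leaf 0x0))) (.node (.node (.leaf 0x2cacb2d9) (.leaf 0x0))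 (.node (.leaf 0xad976432c) (.leaf 0x0))))) (.node (.node (.node (.node (.leaf 0x594c861) (.leaf 0x21759659)) (.node (.leaf 0x1219652d9) (.leaf 0x0))) (.node (.node (.leaf 0x52cb661) (.leaf 0x14cb0b659)) (.node (.leaf 0x121865959) (.leaf 0x0)))) (.node (.node (.node (.leaf 0x259596ec) (.leaf 0x32dd759)) (.node (.leaf 0x586585b) (.leaf 0x0))) (.node (.node (.leaf 0x125959659) (.leaf 0x0)) (.node (.leaf 0xdbb2b659) (.leaf 0x0)))))))) (.node (.node (.node (.node (.node (.node (.node (.leaf 0x30c) (.leaf 0x4a64b2c)) (.node (.leaf 0xa64b2c) (.leaf 0x0))) (.node (.node (.leaf 0x575d90b2d9) (.leaf 0x32ccb21)) (.node (.leaf 0x5992cad9) (.leaf 0x0)))) (.node (.node (.node (.leaf 0x2c964aeb) (.leaf 0x1d92c)) (.node (.leaf 0x1bb2c85b) (.leaf 0x0))) (.node (.node (.leaf 0x52eb6ec) (.leaf 0x4b0b74c)) (.node (.leaf 0x56dd6d9) (.leaf 0x0))))) (.node (.node (.node (.node (.leaf 0x1b65d2d9) (.leaf 0x14cb0c94b)) (.node (.leaf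 0x12185badb) (.leaf 0x0))) (.node (.node (.leaf 0x32594c859) (.leaf 0xc95d2d9)) (.node (.leaf 0x3759659) (.leaf 0x0)))) (.node (.node (.node (.leaf 0x6dd90b2d9) (.leaf 0x66594c)) (.node (.leaf 0x14b32c859) (.leaf 0x0))) (.node (.node (.leaf 0x61964adb) (.leaf 0x0)) (.node (.leaf 0x6ec321) (.leaf 0x0)))))) (.node (.node (.node (.node (.node (.leaf 0x90cb21) (.leaf 0x12c32c2d9)) (.node (.leaf 0x12596594b) (.leaf 0x0))) (.node (.node (.leaf 0x1252d9) (.leaf 0x90c94b)) (.node (.leaf 0x30c321) (.leaf 0x0)))) (.node (.node (.node (.leaf 0x594cb21) (.leaf 0x52e9759)) (.node (.leaf 0x1975d2d9) (.leaf 0x0))) (.node (.node (.leaf 0x256eb759) (.leaf 0x0)) (.node (.leaf 0x75965b) (.leaf 0x0))))) (.node (.node (.node (.node (.leaf 0x1d75b2d9) (.leaf 0x2cb25664)) (.node (.leaf 0x14c95b759) (.leaf 0x0))) (.node (.node (.leaf 0x90b74c) (.leaf 0x3b2c2d9)) (.node (.leaf 0x195ba59) (.leaf 0x0)))) (.node (.node (.node (.leaf 0xca5b2d9)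 (.leaf 0x3acc2d9)) (.node (.leaf 0xae990b659) (.leaf 0x0))) (.node (.node (.leaf 0x1d92cad9) (.leaf 0x0)) (.node (.leaf 0x296ec859) (.leaf 0x0))))))) (.node (.node (.node (.node (.node (.node (.leaf 0xc2d9) (.leaf 0x2c965859)) (.node (.leaf 0x6eb74b) (.leaf 0x0))) (.node (.node (.leaf 0x16190c859) (.leaf 0x164321)) (.node (.leaf 0x19929759) (.leaf 0x0)))) (.node (.node (.node (.leaf 0x16185d659) (.leaf 0x14bb216d9)) (.node (.leaf 0x195d659) (.leaf 0x0))) (.node (.node (.leaf 0x10cb2b659) (.leaf 0x4b0b659)) (.node (.leaf 0x129929659) (.leaf 0x0))))) (.node (.node (.node (.node (.leaf 0x1994c) (.leaf 0x12995b759)) (.node (.leaf 0x30ca5b2d9) (.leaf 0x0))) (.node (.node (.leaf 0x5b661) (.leaf 0x42eb661)) (.node (.leaf 0x6596e9659) (.leaf 0x0)))) (.node (.node (.node (.leaf 0x15bb2c321) (.leaf 0xdd92c)) (.node (.leaf 0x10c2eb6ec) (.leaf 0x0))) (.node (.node (.leaf 0xcc321) (.leaf 0x0)) (.node (.leaf 0x1656cba59)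 (.leaf 0x0)))))) (.node (.node (.node (.node (.node (.leaf 0x15bb0c) (.leaf 0x1d75b32c)) (.node (.leaf 0x2dd859) (.leaf 0x0))) (.node (.node (.leaf 0x1baec864) (.leaf 0x2e992c861)) (.node (.leaf 0x330c2d9) (.leaf 0x0)))) (.node (.node (.node (.leaf 0x85b2d9659) (.leaf 0x14c861759)) (.node (.leaf 0x56dd959) (.leaf 0x0))) (.node (.node (.leaf 0x32cb21) (.leaf 0x0)) (.node (.leaf 0x430badbad9) (.leaf 0x0))))) (.node (.node (.node (.node (.leaf 0x2cb0c) (.leaf 0x5965bb21)) (.node (.leaf 0x6e9664) (.leaf 0x0))) (.node (.node (.leaf 0x2dd6ec) (.leaf 0x2caeb664)) (.node (.leaf 0x14cb2194c) (.leaf 0x0)))) (.node (.node (.node (.leaf 0x532bad9) (.leaf 0x195d6d9)) (.node (.leaf 0x42ebadb) (.leaf 0x0))) (.node (.node (.leaf 0x2c85b) (.leaf 0x0)) (.node (.leaf 0x2c964a59) (.leaf 0x0))))))))) (.node (.node (.node (.node (.node (.node (.node (.node (.leaf 0x16d9864) (.leaf 0xd96eba59)) (.node (.leaf 0x2b761659) (.leaf 0x0)))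 (.node (.node (.leaf 0x2cb661) (.leaf 0x90b759)) (.node (.leaf 0xa596ec) (.leaf 0x0)))) (.node (.node (.node (.leaf 0x95992c) (.leaf 0xdbb2c85b)) (.node (.leaf 0x12b761659) (.leaf 0x0))) (.node (.node (.leaf 0x6190ba59) (.leaf 0x74c94c)) (.node (.leaf 0x6590c861) (.leaf 0x0))))) (.node (.node (.node (.node (.leaf 0x332c) (.leaf 0x196eb2cc)) (.node (.leaf 0x4a596d9) (.leaf 0x0))) (.node (.node (.leaf 0x64b2c321) (.leaf 0x2cc959)) (.node (.leaf 0x1b2dd6d9) (.leaf 0x0)))) (.node (.node (.node (.leaf 0x861759661) (.leaf 0xcb0b6ec)) (.node (.leaf 0x6ec85b) (.leaf 0x0))) (.node (.node (.leaf 0x252d9664) (.leaf 0x0)) (.node (.leaf 0x1bb296ec) (.leaf 0x0)))))) (.node (.node (.node (.node (.node (.leaf 0x864) (.leaf 0x596cc32c)) (.node (.leaf 0xba5ba59) (.leaf 0x0))) (.node (.node (.leaf 0x64b296d9) (.leaf 0x590c85b)) (.node (.leaf 0x56eba59) (.leaf 0x0)))) (.node (.node (.node (.leaf 0x16cc861) (.leaf 0x12baebad9))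 (.node (.leaf 0xb0b2d9) (.leaf 0x0))) (.node (.node (.leaf 0x16cb321) (.leaf 0x0)) (.node (.leaf 0x4adb321) (.leaf 0x0))))) (.node (.node (.node (.node (.leaf 0x90cb0b2d9) (.leaf 0xb74b)) (.node (.leaf 0xc85bad9) (.leaf 0x0))) (.node (.node (.leaf 0xb2c959) (.leaf 0x4aeb)) (.node (.leaf 0x575d85b) (.leaf 0x0)))) (.node (.node (.node (.leaf 0x642cb2d9) (.leaf 0x14cb0b2d9)) (.node (.leaf 0x15d30b659) (.leaf 0x0))) (.node (.node (.leaf 0xa5b75b2cc) (.leaf 0x0)) (.node (.leaf 0x5765321) (.leaf 0x0))))))) (.node (.node (.node (.node (.node (.node (.leaf 0x6d9664) (.leaf 0x216d9)) (.node (.leaf 0x2bacb759) (.leaf 0x0))) (.node (.node (.leaf 0x8616d9) (.leaf 0x664b2c)) (.node (.leaf 0x2b759) (.leaf 0x0)))) (.node (.node (.node (.leaf 0x366532c) (.leaf 0xe992c)) (.node (.leaf 0x15d8656d9) (.leaf 0x0))) (.node (.node (.leaf 0x2185d659) (.leaf 0x12cb25959)) (.node (.leaf 0x12cb2c321) (.leaf 0x0))))) (.node (.node (.node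 (.node (.leaf 0x159759) (.leaf 0xaeb74b659)) (.node (.leaf 0x2b6eb664) (.leaf 0x0))) (.node (.node (.leaf 0xa64ad9664) (.leaf 0x2c32c2d9)) (.node (.leaf 0x48596ec) (.leaf 0x0)))) (.node (.node (.node (.leaf 0xcb2b6ec) (.leaf 0xcc94c2d9)) (.node (.leaf 0x1d6dd859) (.leaf 0x0))) (.node (.node (.leaf 0x10b65b) (.leaf 0x0)) (.node (.leaf 0x1996532c) (.leaf 0x0)))))) (.node (.node (.node (.node (.node (.leaf 0xeb2eb2d9) (.leaf 0x9596d9)) (.node (.leaf 0xb252db) (.leaf 0x0))) (.node (.node (.leaf 0x64a5b659) (.leaf 0x36eb2cc)) (.node (.leaf 0x1bae96d9) (.leaf 0x0)))) (.node (.node (.node (.leaf 0x530c32c) (.leaf 0x2194c861)) (.node (.leaf 0x2965d664) (.leaf 0x0))) (.node (.node (.leaf 0x432cb2c) (.leaf 0x0)) (.node (.leaf 0x12990c94b) (.leaf 0x0))))) (.node (.node (.node (.node (.leaf 0x1994b2d9) (.leaf 0x56ebad9)) (.node (.leaf 0x65b759) (.leaf 0x0))) (.node (.node (.leaf 0x2ca656d9) (.leaf 0x1d6dd6ec)) (.node (.leaf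 0xeb6ec94c) (.leaf 0x0)))) (.node (.node (.node (.leaf 0x485d929659) (.leaf 0x1d964ad9)) (.node (.leaf 0xc2e96ec) (.leaf 0x0))) (.node (.node (.leaf 0xa64a59) (.leaf 0x0)) (.node (.leaf 0x2dd6d9) (.leaf 0x0)))))))) (.node (.node (.node (.node (.node (.node (.node (.leaf 0x574b321) (.leaf 0x2cb0bad9)) (.node (.leaf 0x2ccb0c) (.leaf 0x0))) (.node (.node (.leaf 0xba64b21) (.leaf 0x65b75b2cc)) (.node (.leaf 0xaec864ad9) (.leaf 0x0)))) (.node (.node (.node (.leaf 0x2badd664) (.leaf 0x3b256d9)) (.node (.leaf 0x3296d9) (.leaf 0x0))) (.node (.node (.leaf 0x2baeb321) (.leaf 0x296ec)) (.node (.leaf 0x3b2c) (.leaf 0x0))))) (.node (.node (.node (.node (.leaf 0xcca59659) (.leaf 0x2192c94c)) (.node (.leaf 0xeb2cc) (.leaf 0x0))) (.node (.node (.leaf 0x1b) (.leaf 0x32b661)) (.node (.leaf 0x5bad9664) (.leaf 0x0)))) (.node (.node (.node (.leaf 0x10b6e9659) (.leaf 0x15ba65659)) (.node (.leaf 0x2965d2d9) (.leaf 0x0))) (.node (.node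 (.leaf 0x24ad9) (.leaf 0x0)) (.node (.leaf 0x42d9759) (.leaf 0x0)))))) (.node (.node (.node (.node (.node (.leaf 0x19861) (.leaf 0xe975b659)) (.node (.leaf 0x574bad9) (.leaf 0x0))) (.node (.node (.leaf 0x64adb321) (.leaf 0x19964b2c)) (.node (.leaf 0xba5d6ec) (.leaf 0x0)))) (.node (.node (.node (.leaf 0x216eb664) (.leaf 0x1b32c32c)) (.node (.leaf 0x2b2cb2d9) (.leaf 0x0))) (.node (.node (.leaf 0x2594b6ec) (.leaf 0x0)) (.node (.leaf 0x10c94c2d9) (.leaf 0x0))))) (.node (.node (.node (.node (.leaf 0xccb0c) (.leaf 0xae9659)) (.node (.leaf 0x85b74bad9) (.leaf 0x0))) (.node (.node (.leaf 0x2b2db) (.leaf 0xbad994c)) (.node (.leaf 0x2992cad9) (.leaf 0x0)))) (.node (.node (.node (.leaf 0xadd6d9) (.leaf 0x2cba59)) (.node (.leaf 0x14bad9659) (.leaf 0x0))) (.node (.node (.leaf 0x42dd864) (.leaf 0x0)) (.node (.leaf 0xc964aeb) (.leaf 0x0))))))) (.node (.node (.node (.node (.node (.node (.leaf 0x19659864) (.leaf 0x12b6eb659))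 (.node (.leaf 0x12cb0c2d9) (.leaf 0x0))) (.node (.node (.leaf 0x10baeb2d9) (.leaf 0xb6ebad9)) (.node (.leaf 0x24a5b659) (.leaf 0x0)))) (.node (.node (.node (.leaf 0x575d6d9) (.leaf 0x5964adb)) (.node (.leaf 0x164ad9664) (.leaf 0x0))) (.node (.node (.leaf 0x52eb2d9) (.leaf 0xb0bb0c)) (.node (.leaf 0xcb0cb21) (.leaf 0x0))))) (.node (.node (.node (.node (.leaf 0x5d30c864) (.leaf 0xb2dba59)) (.node (.leaf 0x3665321) (.leaf 0x0))) (.node (.node (.leaf 0x12165d2d9) (.leaf 0x4a6594c)) (.node (.leaf 0x14b659) (.leaf 0x0)))) (.node (.node (.node (.leaf 0xd96e96ec) (.leaf 0x12192c)) (.node (.leaf 0xa6592c) (.leaf 0x0))) (.node (.node (.leaf 0x10b2dbad9) (.leaf 0x0)) (.node (.leaf 0x1d32b661) (.leaf 0x0)))))) (.node (.node (.node (.node (.node (.leaf 0x5d2db30c) (.leaf 0x2195b659)) (.node (.leaf 0xbb2c859) (.leaf 0x0))) (.node (.node (.leaf 0x129861) (.leaf 0xcb0c)) (.node (.leaf 0xbacbad9) (.leaf 0x0)))) (.node (.node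 (.node (.leaf 0x1d90bb21) (.leaf 0x1d2d9659)) (.node (.leaf 0x6e975d759) (.leaf 0x0))) (.node (.node (.leaf 0x565b659) (.leaf 0x0)) (.node (.leaf 0x532585b) (.leaf 0x0))))) (.node (.node (.node (.node (.leaf 0xbacc321) (.leaf 0x1d6cba59)) (.node (.leaf 0x1656dd759) (.leaf 0x0))) (.node (.node (.leaf 0x10b321664) (.leaf 0x2175ba59)) (.node (.leaf 0x10b2dbb2c) (.leaf 0x0)))) (.node (.node (.node (.leaf 0x5d2eba59) (.leaf 0x252d9)) (.node (.leaf 0x430c959) (.leaf 0x0))) (.node (.node (.leaf 0x12c30c) (.leaf 0x0)) (.node (.leaf 0x5659) (.leaf 0x0))))))))))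

/-- data -/
def clsT1 : Cfsg.Agent.HN.Trie :=
  (.node (.node (.node (.node (.node (.node (.node (.node (.node (.leaf 0x665929959) (.leaf 0xaebaccad9)) (.node (.leaf 0x665861759) (.leaf 0x0))) (.node (.node (.leaf 0x1b30c864) (.leaf 0x574b65b)) (.node (.leaf 0x165b759) (.leaf 0x0)))) (.node (.node (.node (.leaf 0x36cba59) (.leaf 0x195b659)) (.node (.leaf 0x14c325759) (.leaf 0x0))) (.node (.node (.leaf 0x36596d9) (.leaf 0x15b65bb21)) (.node (.leaf 0x1b329659) (.leaf 0x0))))) (.node (.node (.node (.node (.leaf 0x2dbb21) (.leaf 0xdd859)) (.node (.leaf 0x5964ad9) (.leaf 0x0))) (.node (.node (.leaf 0x5d6eb74c) (.leaf 0x12b659)) (.node (.leaf 0x10b6ec) (.leaf 0x0)))) (.node (.node (.node (.leaf 0x296e9659) (.leaf 0xb0cb2194c)) (.node (.leaf 0x3a59) (.leaf 0x0))) (.node (.node (.leaf 0x5761659) (.leaf 0x0)) (.node (.leaf 0xc32c864) (.leaf 0x0)))))) (.node (.node (.node (.node (.node (.leaf 0x1d6ccb0c) (.leaf 0xa656d9))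 (.node (.leaf 0xc865321) (.leaf 0x0))) (.node (.node (.leaf 0x332592c) (.leaf 0x575d759)) (.node (.leaf 0x4a5b659) (.leaf 0x0)))) (.node (.node (.node (.leaf 0x596594b) (.leaf 0xdb3256d9)) (.node (.leaf 0x6ec30b659) (.leaf 0x0))) (.node (.node (.leaf 0x59596ec) (.leaf 0x575b759)) (.node (.leaf 0xd976432c) (.leaf 0x0))))) (.node (.node (.node (.node (.leaf 0x10b2eb659) (.leaf 0x374b2cc)) (.node (.leaf 0x3b296d9) (.leaf 0x0))) (.node (.node (.leaf 0x1d8596ec) (.leaf 0x94c85d659)) (.node (.leaf 0xa5994c) (.leaf 0x0)))) (.node (.node (.node (.leaf 0xeb75d861) (.leaf 0x59865321)) (.node (.leaf 0x592c94c) (.leaf 0x0))) (.node (.node (.leaf 0x565d2db) (.leaf 0x0)) (.node (.leaf 0x74b2cc) (.leaf 0x0))))))) (.node (.node (.node (.node (.node (.node (.leaf 0x16590c861) (.leaf 0x65861759)) (.node (.leaf 0xb6cc959) (.leaf 0x0))) (.node (.node (.leaf 0x32db321) (.leaf 0x56ecad9)) (.node (.leaf 0x174b6ec) (.leaf 0x0))))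 (.node (.node (.node (.leaf 0x485992cad9) (.leaf 0x2994c)) (.node (.leaf 0x10ca596d9) (.leaf 0x0))) (.node (.node (.leaf 0x2b74b2d9) (.leaf 0x9656d9)) (.node (.leaf 0x24ad96d9) (.leaf 0x0))))) (.node (.node (.node (.node (.leaf 0x4a65864) (.leaf 0x432ba59)) (.node (.leaf 0x14b2d9) (.leaf 0x0))) (.node (.node (.leaf 0x18642d9) (.leaf 0x90b6ec)) (.node (.leaf 0x375d6eb659) (.leaf 0x0)))) (.node (.node (.node (.leaf 0x76530b659) (.leaf 0x485992c)) (.node (.leaf 0x4adba59) (.leaf 0x0))) (.node (.node (.leaf 0xa5d6cb759) (.leaf 0x0)) (.node (.leaf 0x12bacb2d9) (.leaf 0x0)))))) (.node (.node (.node (.node (.node (.leaf 0x5929759) (.leaf 0x192ba59)) (.node (.leaf 0x4b2c94b) (.leaf 0x0))) (.node (.node (.leaf 0x616e9759) (.leaf 0x1618616d9)) (.node (.leaf 0x12c321) (.leaf 0x0)))) (.node (.node (.node (.leaf 0x21864) (.leaf 0x3add6d9)) (.node (.leaf 0x36ec94c) (.leaf 0x0))) (.node (.node (.leaf 0x1656cb65b) (.leaf 0x0))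 (.node (.leaf 0x75d65bb21) (.leaf 0x0))))) (.node (.node (.node (.node (.leaf 0x658652d9) (.leaf 0x296eb2d9)) (.node (.leaf 0x592b74b659) (.leaf 0x0))) (.node (.node (.leaf 0xb2c85b) (.leaf 0x12595d759)) (.node (.leaf 0x92b2d9) (.leaf 0x0)))) (.node (.node (.node (.leaf 0x4a59661) (.leaf 0x5d74b2d9)) (.node (.leaf 0xeb65d2db) (.leaf 0x0))) (.node (.node (.leaf 0x1216eb759) (.leaf 0x0)) (.node (.leaf 0x3a616d9) (.leaf 0x0)))))))) (.node (.node (.node (.node (.node (.node (.node (.leaf 0x6652d9) (.leaf 0xcb2dd659)) (.node (.leaf 0x530c85b) (.leaf 0x0))) (.node (.node (.leaf 0x2b6ecad9) (.leaf 0xec32b659)) (.node (.leaf 0x6ccad9) (.leaf 0x0)))) (.node (.node (.node (.leaf 0xca5bad9) (.leaf 0xecb21)) (.node (.leaf 0x15d74b321) (.leaf 0x0))) (.node (.node (.leaf 0xacbadb) (.leaf 0x2585992c)) (.node (.leaf 0xbb2c) (.leaf 0x0))))) (.node (.node (.node (.node (.leaf 0x33296d9) (.leaf 0x92b74b)) (.node (.leaf 0x12c325759)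 (.leaf 0x0))) (.node (.node (.leaf 0x32d9664) (.leaf 0xacb65b)) (.node (.leaf 0x15b75b2cc) (.leaf 0x0)))) (.node (.node (.node (.leaf 0xdd66192c) (.leaf 0x432992c)) (.node (.leaf 0x592c321) (.leaf 0x0))) (.node (.node (.leaf 0x14b6eb664) (.leaf 0x0)) (.node (.leaf 0x2c32b659) (.leaf 0x0)))))) (.node (.node (.node (.node (.node (.leaf 0x2ca5b659) (.leaf 0x10b6ebad9)) (.node (.leaf 0xacb665859) (.leaf 0x0))) (.node (.node (.leaf 0x56eb2d9) (.leaf 0xc94c)) (.node (.leaf 0x3a59659) (.leaf 0x0)))) (.node (.node (.node (.leaf 0x1d665659) (.leaf 0x14c861)) (.node (.leaf 0x296cb2d9) (.leaf 0x0))) (.node (.node (.leaf 0x24321659) (.leaf 0x0)) (.node (.leaf 0x965959) (.leaf 0x0))))) (.node (.node (.node (.node (.leaf 0x12594c) (.leaf 0x1298656d9)) (.node (.leaf 0x15b65b) (.leaf 0x0))) (.node (.node (.leaf 0x121759) (.leaf 0x12585d6d9)) (.node (.leaf 0x5d759) (.leaf 0x0)))) (.node (.node (.node (.leaf 0x296ec2d9) (.leaf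 0x3b29659)) (.node (.leaf 0x2dd32b659) (.leaf 0x0))) (.node (.node (.leaf 0x56d9659) (.leaf 0x0)) (.node (.leaf 0x325664) (.leaf 0x0))))))) (.node (.node (.node (.node (.node (.node (.leaf 0x59929759) (.leaf 0x4b0b6ec)) (.node (.leaf 0x1975965b) (.leaf 0x0))) (.node (.node (.leaf 0x2c95b659) (.leaf 0x6eb75b2cc)) (.node (.leaf 0xec864) (.leaf 0x0)))) (.node (.node (.node (.leaf 0x2c2eb2d9) (.leaf 0x2b6cba59)) (.node (.leaf 0x12c30b659) (.leaf 0x0))) (.node (.node (.leaf 0x36cc959) (.leaf 0x12b75b2cc)) (.node (.leaf 0x52cba59) (.leaf 0x0))))) (.node (.node (.node (.node (.leaf 0x174b65b) (.leaf 0x36ecad9)) (.node (.leaf 0x24b0bad9) (.leaf 0x0))) (.node (.node (.leaf 0x66592cad9) (.leaf 0x12965ba59)) (.node (.leaf 0x2175d6ec) (.leaf 0x0)))) (.node (.node (.node (.leaf 0x9652d9) (.leaf 0x2174c859)) (.node (.leaf 0xdd74bad9) (.leaf 0x0))) (.node (.node (.leaf 0x365b2d9) (.leaf 0x0)) (.node (.leaf 0x574b659) (.leaf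 0x0)))))) (.node (.node (.node (.node (.node (.leaf 0x1b75b659) (.leaf 0x92c859)) (.node (.leaf 0x14b65b) (.leaf 0x0))) (.node (.node (.leaf 0x92c30b759) (.leaf 0xadd90bad9)) (.node (.leaf 0x2432532c) (.leaf 0x0)))) (.node (.node (.node (.leaf 0x2c95d2d9) (.leaf 0x194b2d9)) (.node (.leaf 0x2b65d6ec) (.leaf 0x0))) (.node (.node (.leaf 0x1965b759) (.leaf 0x0)) (.node (.leaf 0x961759759) (.leaf 0x0))))) (.node (.node (.node (.node (.leaf 0x174b) (.leaf 0x1658642d9)) (.node (.leaf 0xb2dd864) (.leaf 0x0))) (.node (.node (.leaf 0x2cc30c) (.leaf 0x6dd664)) (.node (.leaf 0x94caeb759) (.leaf 0x0)))) (.node (.node (.node (.leaf 0x296d9664) (.leaf 0x4ad965b)) (.node (.leaf 0x5859) (.leaf 0x0))) (.node (.node (.leaf 0xc321759) (.leaf 0x0)) (.node (.leaf 0x164325659) (.leaf 0x0))))))))) (.node (.node (.node (.node (.node (.node (.node (.node (.leaf 0xb) (.leaf 0xa59759)) (.node (.leaf 0x10c95992c) (.leaf 0x0))) (.node (.node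 (.leaf 0x5b) (.leaf 0x36ec2d9)) (.node (.leaf 0xb7616eb659) (.leaf 0x0)))) (.node (.node (.node (.leaf 0xbacb65b) (.leaf 0x1baeb65b)) (.node (.leaf 0x1bacbad9) (.leaf 0x0))) (.node (.node (.leaf 0xec32c) (.leaf 0xeb74c)) (.node (.leaf 0xaeb) (.leaf 0x0))))) (.node (.node (.node (.node (.leaf 0x56dd859) (.leaf 0xcb75b2eb)) (.node (.leaf 0x1b2eb2d9) (.leaf 0x0))) (.node (.node (.leaf 0x85b661) (.leaf 0x765861)) (.node (.leaf 0xb2eb2d9) (.leaf 0x0)))) (.node (.node (.node (.leaf 0x6eba5b659) (.leaf 0xcad9661)) (.node (.leaf 0x1d665861) (.leaf 0x0))) (.node (.node (.leaf 0xb2c864) (.leaf 0x0)) (.node (.leaf 0x1d6ec30c) (.leaf 0x0)))))) (.node (.node (.node (.node (.node (.leaf 0x1218642d9) (.leaf 0x2cadd759)) (.node (.leaf 0x74b32c859) (.leaf 0x0))) (.node (.node (.leaf 0x6574b759) (.leaf 0x495b30c)) (.node (.leaf 0x197652d9) (.leaf 0x0)))) (.node (.node (.node (.leaf 0xbaccb2c) (.leaf 0x21965859)) (.node (.leaf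 0x29865859) (.leaf 0x0))) (.node (.node (.leaf 0xc321) (.leaf 0x0)) (.node (.leaf 0x2ba64321) (.leaf 0x0))))) (.node (.node (.node (.node (.leaf 0x15d6ccad9) (.leaf 0x2dd2db)) (.node (.leaf 0x12990b2d9) (.leaf 0x0))) (.node (.node (.leaf 0x10cad9) (.leaf 0x1252db)) (.node (.leaf 0x2c32c) (.leaf 0x0)))) (.node (.node (.node (.leaf 0xb2d9659) (.leaf 0x330b6ec)) (.node (.leaf 0x15b74c2d9) (.leaf 0x0))) (.node (.node (.leaf 0xb0b6eb659) (.leaf 0x0)) (.node (.leaf 0x332b759) (.leaf 0x0))))))) (.node (.node (.node (.node (.node (.node (.leaf 0x86430c) (.leaf 0xd96d9)) (.node (.leaf 0xeb6ec864) (.leaf 0x0))) (.node (.node (.leaf 0x6cb65b2d9) (.leaf 0x1642e96d9)) (.node (.leaf 0x75d90bad9) (.leaf 0x0)))) (.node (.node (.node (.leaf 0xdd659) (.leaf 0x5ba59)) (.node (.leaf 0xec861759) (.leaf 0x0))) (.node (.node (.leaf 0x565d2d9) (.leaf 0xc959861)) (.node (.leaf 0x12b6656d9) (.leaf 0x0))))) (.node (.node (.node (.node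 (.leaf 0x5b2eb6ec) (.leaf 0x10c2eb2d9)) (.node (.leaf 0x65b32c) (.leaf 0x0))) (.node (.node (.leaf 0xb30c321) (.leaf 0xaccad9)) (.node (.leaf 0xa65859) (.leaf 0x0)))) (.node (.node (.node (.leaf 0x15d664321) (.leaf 0x65959)) (.node (.leaf 0x12bad9659) (.leaf 0x0))) (.node (.node (.leaf 0x75d759) (.leaf 0x0)) (.node (.leaf 0x90c85b) (.leaf 0x0)))))) (.node (.node (.node (.node (.node (.leaf 0x1d2eba59) (.leaf 0x2bb0b2d9)) (.node (.leaf 0xc959) (.leaf 0x0))) (.node (.node (.leaf 0x164adb) (.leaf 0x194c959)) (.node (.leaf 0x32530c) (.leaf 0x0)))) (.node (.node (.node (.leaf 0x1b2cb661) (.leaf 0x24aeb2d9)) (.node (.leaf 0xcb6ebad9) (.leaf 0x0))) (.node (.node (.leaf 0x10b6eb321) (.leaf 0x0)) (.node (.leaf 0x496594c) (.leaf 0x0))))) (.node (.node (.node (.node (.leaf 0x65bb2c959) (.leaf 0xe9759659)) (.node (.leaf 0xcc94c) (.leaf 0x0))) (.node (.node (.leaf 0x10c94b) (.leaf 0x3325859)) (.node (.leaf 0x195b2cc) (.leaf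 0x0)))) (.node (.node (.node (.leaf 0x36eb6cb74c) (.leaf 0x2cb21)) (.node (.leaf 0x2590b659) (.leaf 0x0))) (.node (.node (.leaf 0xacc85b) (.leaf 0x0)) (.node (.leaf 0x52dd759) (.leaf 0x0)))))))) (.node (.node (.node (.node (.node (.node (.node (.leaf 0xbad9659) (.leaf 0x196532c)) (.node (.leaf 0x1d65b321) (.leaf 0x0))) (.node (.node (.leaf 0x32965b659) (.leaf 0xb2cb0c)) (.node (.leaf 0x1d32b664) (.leaf 0x0)))) (.node (.node (.node (.leaf 0x2430c85b) (.leaf 0x25321)) (.node (.leaf 0xca6592c) (.leaf 0x0))) (.node (.node (.leaf 0x92c32c) (.leaf 0x16190ba59)) (.node (.leaf 0x32dba59) (.leaf 0x0))))) (.node (.node (.node (.node (.leaf 0x4959659) (.leaf 0x164b0c)) (.node (.leaf 0x3764329659) (.leaf 0x0))) (.node (.node (.leaf 0x616ebad9) (.leaf 0x10b6cc959)) (.node (.leaf 0x86430b759) (.leaf 0x0)))) (.node (.node (.node (.leaf 0x12b661) (.leaf 0x642dba59)) (.node (.leaf 0xdbb0c) (.leaf 0x0))) (.node (.node (.leaf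 0x66594b759) (.leaf 0x0)) (.node (.leaf 0x12192cad9) (.leaf 0x0)))))) (.node (.node (.node (.node (.node (.leaf 0x196cc321) (.leaf 0xb75b2eb)) (.node (.leaf 0xae96d9) (.leaf 0x0))) (.node (.node (.leaf 0x32c30b759) (.leaf 0x1996594c)) (.node (.leaf 0x321) (.leaf 0x0)))) (.node (.node (.node (.leaf 0x24aeb74b) (.leaf 0x2db32c)) (.node (.leaf 0x4965859) (.leaf 0x0))) (.node (.node (.leaf 0x15d92b659) (.leaf 0x0)) (.node (.leaf 0xa5b74c2d9) (.leaf 0x0))))) (.node (.node (.node (.node (.leaf 0x1964b2c) (.leaf 0x199652d9)) (.node (.leaf 0x258642d9) (.leaf 0x0))) (.node (.node (.leaf 0x594b) (.leaf 0xbaccad9)) (.node (.leaf 0xdbb0b2d9) (.leaf 0x0)))) (.node (.node (.node (.leaf 0xc94b) (.leaf 0x959861)) (.node (.leaf 0x12cb0bad9) (.leaf 0x0))) (.node (.node (.leaf 0x32532c) (.leaf 0x0)) (.node (.leaf 0xdd32b659) (.leaf 0x0))))))) (.node (.node (.node (.node (.node (.node (.leaf 0xcb321) (.leaf 0x5990cb2c)) (.node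 (.leaf 0xeb2dd864) (.leaf 0x0))) (.node (.node (.leaf 0x12b74b659) (.leaf 0x1d74b74c)) (.node (.leaf 0x1d30c85b) (.leaf 0x0)))) (.node (.node (.node (.leaf 0x65d75b2eb) (.leaf 0x296cc321)) (.node (.leaf 0x165859) (.leaf 0x0))) (.node (.node (.leaf 0x1992b659) (.leaf 0xdd759661)) (.node (.leaf 0xad9661) (.leaf 0x0))))) (.node (.node (.node (.node (.leaf 0x574b) (.leaf 0x2cad9759)) (.node (.leaf 0x432c30c) (.leaf 0x0))) (.node (.node (.leaf 0x56ec2d9) (.leaf 0x12965d2d9)) (.node (.leaf 0x19652d9) (.leaf 0x0)))) (.node (.node (.node (.leaf 0x8642d9) (.leaf 0x24b21)) (.node (.leaf 0x86594b759) (.leaf 0x0))) (.node (.node (.leaf 0x42ec864) (.leaf 0x0)) (.node (.leaf 0x2b2dd2d9) (.leaf 0x0)))))) (.node (.node (.node (.node (.node (.leaf 0x216ccad9) (.leaf 0x530b6eb659)) (.node (.leaf 0x10cb0c) (.leaf 0x0))) (.node (.node (.leaf 0x1d32c) (.leaf 0x12cad9)) (.node (.leaf 0x32ba59) (.leaf 0x0)))) (.node (.node (.node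 (.leaf 0x5badd6d9) (.leaf 0x3aeb2d9)) (.node (.leaf 0xdd90b659) (.leaf 0x0))) (.node (.node (.leaf 0x1665859) (.leaf 0x0)) (.node (.leaf 0x24b21864) (.leaf 0x0))))) (.node (.node (.node (.node (.leaf 0x6eb6ec) (.leaf 0x216dd864)) (.node (.leaf 0x65d66192c) (.leaf 0x0))) (.node (.node (.leaf 0x1) (.leaf 0xeb6eb659)) (.node (.leaf 0xb0b74c) (.leaf 0x0)))) (.node (.node (.node (.leaf 0x5bacb321) (.leaf 0x1d92b659)) (.node (.leaf 0x1965859) (.leaf 0x0))) (.node (.node (.leaf 0xb256ec) (.leaf 0x0)) (.node (.leaf 0x9596ec) (.leaf 0x0))))))))))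

/-- data -/
def clsT2 : Cfsg.Agent.HN.Trie :=
  (.node (.node (.node (.node (.node (.node (.node (.node (.node (.leaf 0x12592b321) (.leaf 0x6430c94b)) (.node (.leaf 0x95b659) (.leaf 0x0))) (.node (.node (.leaf 0x175d759) (.leaf 0x1964adb)) (.node (.leaf 0x95b2d9) (.leaf 0x0)))) (.node (.node (.node (.leaf 0x590b759) (.leaf 0x6595d659)) (.node (.leaf 0x65ba59) (.leaf 0x0))) (.node (.node (.leaf 0x216cb2d9) (.leaf 0xb2b664)) (.node (.leaf 0x1d961759) (.leaf 0x0))))) (.node (.node (.node (.node (.leaf 0x2c85d929659) (.leaf 0x216eba59)) (.node (.leaf 0x12cb21) (.leaf 0x0))) (.node (.node (.leaf 0x616d9) (.leaf 0x2590b2db)) (.node (.leaf 0x432192c) (.leaf 0x0)))) (.node (.node (.node (.leaf 0xc94b659) (.leaf 0x5765659)) (.node (.leaf 0x366192c) (.leaf 0x0))) (.node (.node (.leaf 0x330b2eb659) (.leaf 0x0)) (.node (.leaf 0x5996594c) (.leaf 0x0)))))) (.node (.node (.node (.node (.node (.leaf 0xaec864) (.leaf 0x2585b661))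 (.node (.leaf 0x5d929659) (.leaf 0x0))) (.node (.node (.leaf 0xeb2dd6d9) (.leaf 0x3acb2d9)) (.node (.leaf 0x85b75b659) (.leaf 0x0)))) (.node (.node (.node (.leaf 0x4b2cb0c2d9) (.leaf 0x32dd6d9)) (.node (.leaf 0x32cc861759) (.leaf 0x0))) (.node (.node (.leaf 0xa59661) (.leaf 0x1d65d74b)) (.node (.leaf 0x432532c) (.leaf 0x0))))) (.node (.node (.node (.node (.leaf 0x166192c) (.leaf 0xb216d9)) (.node (.leaf 0x92974b2d9) (.leaf 0x0))) (.node (.node (.leaf 0x75d66192c) (.leaf 0x64adb)) (.node (.leaf 0x32192c) (.leaf 0x0)))) (.node (.node (.node (.leaf 0xc85b) (.leaf 0x1b32b6ec)) (.node (.leaf 0xb75d6ec) (.leaf 0x0))) (.node (.node (.leaf 0x2dbb2594b) (.leaf 0x0)) (.node (.leaf 0x125959759) (.leaf 0x0))))))) (.node (.node (.node (.node (.node (.node (.leaf 0x12575d6d9) (.leaf 0xb0c864)) (.node (.leaf 0x90c864ad9) (.leaf 0x0))) (.node (.node (.leaf 0x12565d6d9) (.leaf 0x2995d2d9)) (.node (.leaf 0x2d966192c) (.leaf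 0x0)))) (.node (.node (.node (.leaf 0x24b0b2d9) (.leaf 0x2430b759)) (.node (.leaf 0x10cb0b659) (.leaf 0x0))) (.node (.node (.leaf 0x1d95b759) (.leaf 0x4aeb6ec)) (.node (.leaf 0x3acc321) (.leaf 0x0))))) (.node (.node (.node (.node (.leaf 0xb6ec864) (.leaf 0x530c959)) (.node (.leaf 0x10b74c321) (.leaf 0x0))) (.node (.node (.leaf 0x2baeb2d9) (.leaf 0x2c30b759)) (.node (.leaf 0x74ba59) (.leaf 0x0)))) (.node (.node (.node (.leaf 0x496530b659) (.leaf 0x5d6cb759)) (.node (.leaf 0x14b2ebad9) (.leaf 0x0))) (.node (.node (.leaf 0x4a6592c) (.leaf 0x0)) (.node (.leaf 0x2c2eb759) (.leaf 0x0)))))) (.node (.node (.node (.node (.node (.leaf 0xb764329659) (.leaf 0x29861)) (.node (.leaf 0xadd92c) (.leaf 0x0))) (.node (.node (.leaf 0x494c32c) (.leaf 0x32cb2c)) (.node (.leaf 0xcb0bad9) (.leaf 0x0)))) (.node (.node (.node (.leaf 0x61864) (.leaf 0x95d74b)) (.node (.leaf 0x2c2d9) (.leaf 0x0))) (.node (.node (.leaf 0x10b75992c) (.leaf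 0x0)) (.node (.leaf 0x3b2532c) (.leaf 0x0))))) (.node (.node (.node (.node (.leaf 0x1b2cbad9) (.leaf 0x6e9759)) (.node (.leaf 0x17652d9) (.leaf 0x0))) (.node (.node (.leaf 0xaeba61659) (.leaf 0x6430bad9)) (.node (.leaf 0xaeb664) (.leaf 0x0)))) (.node (.node (.node (.leaf 0x30ba59) (.leaf 0x257596d9)) (.node (.leaf 0x10c2dba59) (.leaf 0x0))) (.node (.node (.leaf 0x61865864) (.leaf 0x0)) (.node (.leaf 0x5b765659) (.leaf 0x0)))))))) (.node (.node (.node (.node (.node (.node (.node (.leaf 0x18656d9) (.leaf 0x12590bb21)) (.node (.leaf 0x4964aeb) (.leaf 0x0))) (.node (.node (.leaf 0x16592b659) (.leaf 0x18643256d9)) (.node (.leaf 0xc85d659) (.leaf 0x0)))) (.node (.node (.node (.leaf 0xb2cb321) (.leaf 0x32ba5b659)) (.node (.leaf 0x74cb2c2d9) (.leaf 0x0))) (.node (.node (.leaf 0x6592b659) (.leaf 0x9296d9)) (.node (.leaf 0x14cae96d9) (.leaf 0x0))))) (.node (.node (.node (.node (.leaf 0xbad9) (.leaf 0x15d90b759)) (.node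 (.leaf 0x192b321) (.leaf 0x0))) (.node (.node (.leaf 0x121964b21) (.leaf 0x14cb2c321)) (.node (.leaf 0x1bad992c) (.leaf 0x0)))) (.node (.node (.node (.leaf 0x6dd92cad9) (.leaf 0x5325664)) (.node (.leaf 0x43296d9) (.leaf 0x0))) (.node (.node (.leaf 0xacb74b) (.leaf 0x0)) (.node (.leaf 0x15b32b659) (.leaf 0x0)))))) (.node (.node (.node (.node (.node (.leaf 0xb2cc) (.leaf 0x2b6656d9)) (.node (.leaf 0x164ae96d9) (.leaf 0x0))) (.node (.node (.leaf 0x1966192c) (.leaf 0x16ecb21)) (.node (.leaf 0xc2cb2d9) (.leaf 0x0)))) (.node (.node (.node (.leaf 0x2c8596ec) (.leaf 0x65d664)) (.node (.leaf 0x1b65d759) (.leaf 0x0))) (.node (.node (.leaf 0xcc2cb2d9) (.leaf 0x0)) (.node (.leaf 0x216dd859) (.leaf 0x0))))) (.node (.node (.node (.node (.leaf 0x332192c) (.leaf 0x2985b661)) (.node (.leaf 0x2185badb) (.leaf 0x0))) (.node (.node (.leaf 0x12b6eb74c) (.leaf 0x32592cad9)) (.node (.leaf 0x32b6ec) (.leaf 0x0)))) (.node (.node (.node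 (.leaf 0x36cc94b) (.leaf 0x3aec864)) (.node (.leaf 0x2c2d9759) (.leaf 0x0))) (.node (.node (.leaf 0xa6430c) (.leaf 0x0)) (.node (.leaf 0xb0b6ec) (.leaf 0x0))))))) (.node (.node (.node (.node (.node (.node (.leaf 0x5ba59659) (.leaf 0x76190b659)) (.node (.leaf 0xc3296d9) (.leaf 0x0))) (.node (.node (.leaf 0x1d2ccb21) (.leaf 0xacb321)) (.node (.leaf 0x42dd85b) (.leaf 0x0)))) (.node (.node (.node (.leaf 0x256cb74b) (.leaf 0x14badb30c)) (.node (.leaf 0xacbaeb2d9) (.leaf 0x0))) (.node (.node (.leaf 0x242cb759) (.leaf 0x642dbad9)) (.node (.leaf 0x95b2cb2d9) (.leaf 0x0))))) (.node (.node (.node (.node (.leaf 0x10c32c) (.leaf 0x16cc861759)) (.node (.leaf 0x1d65bad9) (.leaf 0x0))) (.node (.node (.leaf 0xeb6656d9) (.leaf 0xbb2532c)) (.node (.leaf 0x3b0c2d9) (.leaf 0x0)))) (.node (.node (.node (.leaf 0x6d995b759) (.leaf 0x161759)) (.node (.leaf 0x1975d6ec) (.leaf 0x0))) (.node (.node (.leaf 0x1990c321) (.leaf 0x0)) (.node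 (.leaf 0xcb659) (.leaf 0x0)))))) (.node (.node (.node (.node (.node (.leaf 0x861959) (.leaf 0x2b2eb664)) (.node (.leaf 0xa5b2eb) (.leaf 0x0))) (.node (.node (.leaf 0xeb66192c) (.leaf 0x5baec85b)) (.node (.leaf 0x15bb296d9) (.leaf 0x0)))) (.node (.node (.node (.leaf 0x2ca59759) (.leaf 0x252d9661)) (.node (.leaf 0xad9759) (.leaf 0x0))) (.node (.node (.leaf 0xc30bad9) (.leaf 0x0)) (.node (.leaf 0x1d74b321) (.leaf 0x0))))) (.node (.node (.node (.node (.leaf 0x1296eb2d9) (.leaf 0x2cb0b2d9)) (.node (.leaf 0x74b6eb664) (.leaf 0x0))) (.node (.node (.leaf 0x6d9) (.leaf 0x375d74b)) (.node (.leaf 0xa64321) (.leaf 0x0)))) (.node (.node (.node (.leaf 0x2986430c) (.leaf 0x495b2d9)) (.node (.leaf 0xdbb2194c) (.leaf 0x0))) (.node (.node (.leaf 0xca59759) (.leaf 0x0)) (.node (.leaf 0x2990c94b) (.leaf 0x0))))))))) (.node (.node (.node (.node (.node (.node (.node (.node (.leaf 0x432b659) (.leaf 0x10bb0c)) (.node (.leaf 0x2995d759)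 (.leaf 0x0))) (.node (.node (.leaf 0x59659) (.leaf 0x1992c959)) (.node (.leaf 0x21664321) (.leaf 0x0)))) (.node (.node (.node (.leaf 0x4321759) (.leaf 0xb32c859)) (.node (.leaf 0xb0c94b) (.leaf 0x0))) (.node (.node (.leaf 0x32eb6ec) (.leaf 0xb30c94b)) (.node (.leaf 0x5badb) (.leaf 0x0))))) (.node (.node (.node (.node (.leaf 0xb29864) (.leaf 0x12975b659)) (.node (.leaf 0x2975b2cc) (.leaf 0x0))) (.node (.node (.leaf 0x42cb664) (.leaf 0x5994c)) (.node (.leaf 0xdd90bad9) (.leaf 0x0)))) (.node (.node (.node (.leaf 0x75d6ecad9) (.leaf 0x10c864ad9)) (.node (.leaf 0x3765321) (.leaf 0x0))) (.node (.node (.leaf 0x52d9759) (.leaf 0x0)) (.node (.leaf 0x329864) (.leaf 0x0)))))) (.node (.node (.node (.node (.node (.leaf 0x665321) (.leaf 0x5bb21)) (.node (.leaf 0x1d964b21) (.leaf 0x0))) (.node (.node (.leaf 0x12174b2d9) (.leaf 0x6194c)) (.node (.leaf 0x298616d9) (.leaf 0x0)))) (.node (.node (.node (.leaf 0x24b0b6ec) (.leaf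 0x9652cb2d9)) (.node (.leaf 0x94bad9659) (.leaf 0x0))) (.node (.node (.leaf 0x6cb2cc) (.leaf 0x0)) (.node (.leaf 0x2b6ec864) (.leaf 0x0))))) (.node (.node (.node (.node (.leaf 0x56e9664) (.leaf 0x14cb2b659)) (.node (.leaf 0x3acbadb) (.leaf 0x0))) (.node (.node (.leaf 0x1616ec) (.leaf 0x92c864)) (.node (.leaf 0xcb2c) (.leaf 0x0)))) (.node (.node (.node (.leaf 0x164ad9) (.leaf 0x1bb0b2d9)) (.node (.leaf 0x85d664) (.leaf 0x0))) (.node (.node (.leaf 0x2ca6594c) (.leaf 0x0)) (.node (.leaf 0x1b765659) (.leaf 0x0))))))) (.node (.node (.node (.node (.node (.node (.leaf 0x2175b659) (.leaf 0x1b2d9661)) (.node (.leaf 0x42ec959) (.leaf 0x0))) (.node (.node (.leaf 0xcc965321) (.leaf 0x16ebadb)) (.node (.leaf 0x296cc861) (.leaf 0x0)))) (.node (.node (.node (.leaf 0x42dbb0c) (.leaf 0x4325659)) (.node (.leaf 0xb25859) (.leaf 0x0))) (.node (.node (.leaf 0xeb65992c) (.leaf 0x5d74b759)) (.node (.leaf 0x29865864) (.leaf 0x0)))))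 (.node (.node (.node (.node (.leaf 0x24b296ec) (.leaf 0x90cb2c)) (.node (.leaf 0xadbb2c) (.leaf 0x0))) (.node (.node (.leaf 0x190c85b) (.leaf 0x52eb664)) (.node (.leaf 0x24a5d659) (.leaf 0x0)))) (.node (.node (.node (.leaf 0x296d994c) (.leaf 0x4b0b65b)) (.node (.leaf 0x32bacba59) (.leaf 0x0))) (.node (.node (.leaf 0x2b2eb2d9) (.leaf 0x0)) (.node (.leaf 0xd965b) (.leaf 0x0)))))) (.node (.node (.node (.node (.node (.leaf 0xb65b) (.leaf 0x3665659)) (.node (.leaf 0x252eb65b) (.leaf 0x0))) (.node (.node (.leaf 0x190cb2c) (.leaf 0x965664)) (.node (.leaf 0x1596e9659) (.leaf 0x0)))) (.node (.node (.node (.leaf 0x2190b2d9) (.leaf 0x2b32b659)) (.node (.leaf 0x2992b759) (.leaf 0x0))) (.node (.node (.leaf 0x6ebae9659) (.leaf 0x0)) (.node (.leaf 0xec8596d9) (.leaf 0x0))))) (.node (.node (.node (.node (.leaf 0x216ccb0c) (.leaf 0x2532cb21)) (.node (.leaf 0x92b661) (.leaf 0x0))) (.node (.node (.leaf 0x1616d9) (.leaf 0x2cb665321))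 (.node (.leaf 0x964a59) (.leaf 0x0)))) (.node (.node (.node (.leaf 0x256d9659) (.leaf 0x25964a59)) (.node (.leaf 0xbadbad9) (.leaf 0x0))) (.node (.node (.leaf 0x4ad9664) (.leaf 0x0)) (.node (.leaf 0x74badb) (.leaf 0x0)))))))) (.node (.node (.node (.node (.node (.node (.node (.leaf 0x32db) (.leaf 0xb2c30bad9)) (.node (.leaf 0x15d74b) (.leaf 0x0))) (.node (.node (.leaf 0x1659864) (.leaf 0x1b76594b)) (.node (.leaf 0x1996530c) (.leaf 0x0)))) (.node (.node (.node (.leaf 0xec32bad9) (.leaf 0x864a59)) (.node (.leaf 0x165864) (.leaf 0x0))) (.node (.node (.leaf 0x256dd2d9) (.leaf 0xae9759)) (.node (.leaf 0x2eb6ecad9) (.leaf 0x0))))) (.node (.node (.node (.node (.leaf 0x495d659) (.leaf 0x2b2cb759)) (.node (.leaf 0x3acb2db) (.leaf 0x0))) (.node (.node (.leaf 0x15bad9664) (.leaf 0x1959)) (.node (.leaf 0x2b7656d9) (.leaf 0x0)))) (.node (.node (.node (.leaf 0x56cc32c) (.leaf 0x196ec32c)) (.node (.leaf 0xbadd6d9) (.leaf 0x0)))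 (.node (.node (.leaf 0x85d92c) (.leaf 0x0)) (.node (.leaf 0x3acba5b759) (.leaf 0x0)))))) (.node (.node (.node (.node (.node (.leaf 0x859664) (.leaf 0xecb2c)) (.node (.leaf 0x1bb2c) (.leaf 0x0))) (.node (.node (.leaf 0x64329864) (.leaf 0x2badbad9)) (.node (.leaf 0x164adb321) (.leaf 0x0)))) (.node (.node (.node (.leaf 0xc861) (.leaf 0x21959)) (.node (.leaf 0xadbb0b2d9) (.leaf 0x0))) (.node (.node (.leaf 0x16cc85b) (.leaf 0x0)) (.node (.leaf 0xd96eb759) (.leaf 0x0))))) (.node (.node (.node (.node (.leaf 0x1964b21) (.leaf 0xaeca64ad9)) (.node (.leaf 0x5b32b6ec) (.leaf 0x0))) (.node (.node (.leaf 0x2192c) (.leaf 0x1bb2cb21)) (.node (.leaf 0x2bb2c859) (.leaf 0x0)))) (.node (.node (.node (.leaf 0x594b321) (.leaf 0x14bb296d9)) (.node (.leaf 0x6dd859) (.leaf 0x0))) (.node (.node (.leaf 0x2b2dd864) (.leaf 0x0)) (.node (.leaf 0x196194b759) (.leaf 0x0))))))) (.node (.node (.node (.node (.node (.node (.leaf 0x1b659) (.leaf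 0x14bb25859)) (.node (.leaf 0x16e96e9659) (.leaf 0x0))) (.node (.node (.leaf 0xe975d759) (.leaf 0x1d6cb759)) (.node (.leaf 0xbae9664) (.leaf 0x0)))) (.node (.node (.node (.leaf 0x3a5992c) (.leaf 0x192c30c)) (.node (.leaf 0x759) (.leaf 0x0))) (.node (.node (.leaf 0x10b6ec864) (.leaf 0x36616ec)) (.node (.leaf 0xb7656d9) (.leaf 0x0))))) (.node (.node (.node (.node (.leaf 0x594c30c) (.leaf 0x1b74bad9)) (.node (.leaf 0x75d2db) (.leaf 0x0))) (.node (.node (.leaf 0x1d2d9) (.leaf 0x56d9664)) (.node (.leaf 0x2cb0b659) (.leaf 0x0)))) (.node (.node (.node (.leaf 0x2cb0b65b) (.leaf 0x121929864)) (.node (.leaf 0xae9664) (.leaf 0x0))) (.node (.node (.leaf 0x2165bad9) (.leaf 0x0)) (.node (.leaf 0xa5d6d9) (.leaf 0x0)))))) (.node (.node (.node (.node (.node (.leaf 0x25964b21) (.leaf 0xeb6ecad9)) (.node (.leaf 0xecad9) (.leaf 0x0))) (.node (.node (.leaf 0x12532c) (.leaf 0x2585b)) (.node (.leaf 0x1d9656d9) (.leaf 0x0)))) (.node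 (.node (.node (.leaf 0x92b6616d9) (.leaf 0x75b30c959)) (.node (.leaf 0x94b2eb659) (.leaf 0x0))) (.node (.node (.leaf 0x6432c) (.leaf 0x0)) (.node (.leaf 0xec964a59) (.leaf 0x0))))) (.node (.node (.node (.node (.leaf 0x4865864) (.leaf 0x2c865859)) (.node (.leaf 0x1ba5bb0c) (.leaf 0x0))) (.node (.node (.leaf 0x4a6192c) (.leaf 0x95b2eb)) (.node (.leaf 0x6ec94c) (.leaf 0x0)))) (.node (.node (.node (.leaf 0x32cb74b) (.leaf 0x2eb759)) (.node (.leaf 0x3a65659) (.leaf 0x0))) (.node (.node (.leaf 0x5864b2c) (.leaf 0x0)) (.node (.leaf 0x585b2d9) (.leaf 0x0))))))))))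

/-- data -/
def clsT3 : Cfsg.Agent.HN.Trie :=
  (.node (.node (.node (.node (.node (.node (.node (.node (.node (.leaf 0x5929959) (.leaf 0x4adbb21)) (.node (.leaf 0x2bacb321) (.leaf 0x0))) (.node (.node (.leaf 0xcb661) (.leaf 0x24a64adb)) (.node (.leaf 0xc861864) (.leaf 0x0)))) (.node (.node (.node (.leaf 0x175b2cc) (.leaf 0x6430c959)) (.node (.leaf 0x595d6ec) (.leaf 0x0))) (.node (.node (.leaf 0xec2cb759) (.leaf 0x2cad9)) (.node (.leaf 0x75d92c) (.leaf 0x0))))) (.node (.node (.node (.node (.leaf 0xad9659) (.leaf 0x194b)) (.node (.leaf 0x1badd759) (.leaf 0x0))) (.node (.node (.leaf 0xd965b321) (.leaf 0x1d864ad9)) (.node (.leaf 0x24ad9659) (.leaf 0x0)))) (.node (.node (.node (.leaf 0x16e96ec) (.leaf 0xe9659)) (.node (.leaf 0x85d6ec) (.leaf 0x0))) (.node (.node (.leaf 0x4b0c2d9) (.leaf 0x0)) (.node (.leaf 0x1d94b2d9) (.leaf 0x0)))))) (.node (.node (.node (.node (.node (.leaf 0x174c321) (.leaf 0x3a596d9)) (.node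 (.leaf 0xa5d74b) (.leaf 0x0))) (.node (.node (.leaf 0x15d2d9659) (.leaf 0xc2cba59)) (.node (.leaf 0x2b6cb65b) (.leaf 0x0)))) (.node (.node (.node (.leaf 0x90b65b2d9) (.leaf 0x3764b29659)) (.node (.leaf 0x1b32b759) (.leaf 0x0))) (.node (.node (.leaf 0x1d90c94b) (.leaf 0x12530c859)) (.node (.leaf 0x12b664) (.leaf 0x0))))) (.node (.node (.node (.node (.leaf 0x2b74b659) (.leaf 0xacb759)) (.node (.leaf 0x3a596ec) (.leaf 0x0))) (.node (.node (.leaf 0x32e96ec) (.leaf 0x8656d9)) (.node (.leaf 0x52cb2db) (.leaf 0x0)))) (.node (.node (.node (.leaf 0x14cb0c864) (.leaf 0x495b659)) (.node (.leaf 0x1d94c94b) (.leaf 0x0))) (.node (.node (.leaf 0x12532c94b) (.leaf 0x0)) (.node (.leaf 0xeca616d9) (.leaf 0x0))))))) (.node (.node (.node (.node (.node (.node (.leaf 0x4a5992c) (.leaf 0x4b2c321)) (.node (.leaf 0x585badb) (.leaf 0x0))) (.node (.node (.leaf 0x165b659) (.leaf 0x1d6cbad9)) (.node (.leaf 0x92c32c2d9) (.leaf 0x0)))) (.node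 (.node (.node (.leaf 0x656cbad9) (.leaf 0x1965d6ec)) (.node (.leaf 0x1966432c) (.leaf 0x0))) (.node (.node (.leaf 0x12ba59) (.leaf 0x6185d659)) (.node (.leaf 0x1764b0c) (.leaf 0x0))))) (.node (.node (.node (.node (.leaf 0x10c964a59) (.leaf 0xad992c)) (.node (.leaf 0x186585b) (.leaf 0x0))) (.node (.node (.leaf 0x10b2cc) (.leaf 0xcb2b659)) (.node (.leaf 0x6596ec) (.leaf 0x0)))) (.node (.node (.node (.leaf 0x6195ba59) (.leaf 0x3b25859)) (.node (.leaf 0xcc85d759) (.leaf 0x0))) (.node (.node (.leaf 0x585992c) (.leaf 0x0)) (.node (.leaf 0x16195b659) (.leaf 0x0)))))) (.node (.node (.node (.node (.node (.leaf 0x5d664) (.leaf 0x2b65bb0c)) (.node (.leaf 0x1659759) (.leaf 0x0))) (.node (.node (.leaf 0x596eb2cc) (.leaf 0x12990c859)) (.node (.leaf 0x1bacc2d9) (.leaf 0x0)))) (.node (.node (.node (.leaf 0xb2cb661) (.leaf 0x1216ebad9)) (.node (.leaf 0x4acc85b) (.leaf 0x0))) (.node (.node (.leaf 0x1ba5badb) (.leaf 0x0)) (.node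 (.leaf 0x764321) (.leaf 0x0))))) (.node (.node (.node (.node (.leaf 0x174b659) (.leaf 0x656eb2d9)) (.node (.leaf 0x36e9864) (.leaf 0x0))) (.node (.node (.leaf 0x1665959) (.leaf 0x1d75d2db)) (.node (.leaf 0x4b296d9) (.leaf 0x0)))) (.node (.node (.node (.leaf 0x532b664) (.leaf 0x42cc95b2d9)) (.node (.leaf 0x161759759) (.leaf 0x0))) (.node (.node (.leaf 0x1256cb759) (.leaf 0x0)) (.node (.leaf 0xcb74c) (.leaf 0x0)))))))) (.node (.node (.node (.node (.node (.node (.node (.leaf 0xdbb29659) (.leaf 0x32c30c)) (.node (.leaf 0x56dd664) (.leaf 0x0))) (.node (.node (.leaf 0x165ba59) (.leaf 0x1b765321)) (.node (.leaf 0x332585d6d9) (.leaf 0x0)))) (.node (.node (.node (.leaf 0x2c32bad9) (.leaf 0x15d75b659)) (.node (.leaf 0x365d2d9) (.leaf 0x0))) (.node (.node (.leaf 0x165321) (.leaf 0x256ec861)) (.node (.leaf 0xcba5ba59) (.leaf 0x0))))) (.node (.node (.node (.node (.leaf 0x242e992c) (.leaf 0x10ba5d6d9)) (.node (.leaf 0xeb32c94c)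 (.leaf 0x0))) (.node (.node (.leaf 0x242cc95b2d9) (.leaf 0x565d664)) (.node (.leaf 0xb2dbad9) (.leaf 0x0)))) (.node (.node (.node (.leaf 0x590b2d9) (.leaf 0x125759)) (.node (.leaf 0x92cb0c) (.leaf 0x0))) (.node (.node (.leaf 0x2995b2d9) (.leaf 0x0)) (.node (.leaf 0x185d664) (.leaf 0x0)))))) (.node (.node (.node (.node (.node (.leaf 0x4865321) (.leaf 0x2595d659)) (.node (.leaf 0x1643256d9) (.leaf 0x0))) (.node (.node (.leaf 0xa5d66192c) (.leaf 0x10b74b2cc)) (.node (.leaf 0x42d9659) (.leaf 0x0)))) (.node (.node (.node (.leaf 0x32eb2cc) (.leaf 0x374c)) (.node (.leaf 0xcb2c321) (.leaf 0x0))) (.node (.node (.leaf 0x12c865859) (.leaf 0x0)) (.node (.leaf 0x585b) (.leaf 0x0))))) (.node (.node (.node (.node (.leaf 0x6cc32c) (.leaf 0x5964b21)) (.node (.leaf 0x25929959) (.leaf 0x0))) (.node (.node (.leaf 0x494cb21) (.leaf 0x765321)) (.node (.leaf 0xb6656ec) (.leaf 0x0)))) (.node (.node (.node (.leaf 0x32dd861) (.leaf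 0x296ec32c)) (.node (.leaf 0x29859661) (.leaf 0x0))) (.node (.node (.leaf 0x3b2594c) (.leaf 0x0)) (.node (.leaf 0x65861) (.leaf 0x0))))))) (.node (.node (.node (.node (.node (.node (.leaf 0xba5b659) (.leaf 0x52eb759)) (.node (.leaf 0xba5b759) (.leaf 0x0))) (.node (.node (.leaf 0xa6194b759) (.leaf 0x32cc959)) (.node (.leaf 0x2bae9659) (.leaf 0x0)))) (.node (.node (.node (.leaf 0x164acb2d9) (.leaf 0x1d32b659)) (.node (.leaf 0x5861759661) (.leaf 0x0))) (.node (.node (.leaf 0x10ca5bad9) (.leaf 0x485bb2c)) (.node (.leaf 0xad96ec859) (.leaf 0x0))))) (.node (.node (.node (.node (.leaf 0x2ec861) (.leaf 0x590bad9)) (.node (.leaf 0x929929959) (.leaf 0x0))) (.node (.node (.leaf 0x3b2b6ec) (.leaf 0x2eb74b659)) (.node (.leaf 0x9616dd664) (.leaf 0x0)))) (.node (.node (.node (.leaf 0x2c94b321) (.leaf 0x4a61959)) (.node (.leaf 0x5964a59) (.leaf 0x0))) (.node (.node (.leaf 0x2cc) (.leaf 0x0)) (.node (.leaf 0xca6192c) (.leaf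 0x0)))))) (.node (.node (.node (.node (.node (.leaf 0xb2b661) (.leaf 0x12192b321)) (.node (.leaf 0x2c861) (.leaf 0x0))) (.node (.node (.leaf 0xa5bacc2d9) (.leaf 0xeb75b2cc)) (.node (.leaf 0x1929659) (.leaf 0x0)))) (.node (.node (.node (.leaf 0x32cb2d9) (.leaf 0x3b2c85b)) (.node (.leaf 0xecb0cb21) (.leaf 0x0))) (.node (.node (.leaf 0x494c321) (.leaf 0x0)) (.node (.leaf 0xcb74b659) (.leaf 0x0))))) (.node (.node (.node (.node (.leaf 0x174c859) (.leaf 0x252e9759)) (.node (.leaf 0x5d6ec30c) (.leaf 0x0))) (.node (.node (.leaf 0x16cc321) (.leaf 0x2b2dd6d9)) (.node (.leaf 0x6dd861) (.leaf 0x0)))) (.node (.node (.node (.leaf 0x15d30c85b) (.leaf 0xc95b2d9)) (.node (.leaf 0x1b32cb21) (.leaf 0x0))) (.node (.node (.leaf 0x3aebad9) (.leaf 0x0)) (.node (.leaf 0x52cb65b) (.leaf 0x0))))))))) (.node (.node (.node (.node (.node (.node (.node (.node (.leaf 0x175b659) (.leaf 0x165959)) (.node (.leaf 0xe990bad9) (.leaf 0x0))) (.node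 (.node (.leaf 0xc864) (.leaf 0x2c94c)) (.node (.leaf 0x12c864ad9) (.leaf 0x0)))) (.node (.node (.node (.leaf 0xd9864adb) (.leaf 0x1616cb2d9)) (.node (.leaf 0x4b0c864) (.leaf 0x0))) (.node (.node (.leaf 0x256ec) (.leaf 0x374cb21)) (.node (.leaf 0x5759) (.leaf 0x0))))) (.node (.node (.node (.node (.leaf 0x665861) (.leaf 0x1bb296d9)) (.node (.leaf 0x95d321) (.leaf 0x0))) (.node (.node (.leaf 0x592b2d9) (.leaf 0x6eba59)) (.node (.leaf 0x219656d9) (.leaf 0x0)))) (.node (.node (.node (.leaf 0x16592cad9) (.leaf 0x85d6d9)) (.node (.leaf 0x15d2cb664) (.leaf 0x0))) (.node (.node (.leaf 0x299656d9) (.leaf 0x0)) (.node (.leaf 0x2565bad9) (.leaf 0x0)))))) (.node (.node (.node (.node (.node (.leaf 0xccb21) (.leaf 0x2ba61659)) (.node (.leaf 0xec30b659) (.leaf 0x0))) (.node (.node (.leaf 0x1b75992c) (.leaf 0x24adb321)) (.node (.leaf 0x25864b21) (.leaf 0x0)))) (.node (.node (.node (.leaf 0x2e992cad9) (.leaf 0x4ae9659)) (.node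 (.leaf 0x56d994c) (.leaf 0x0))) (.node (.node (.leaf 0x321864) (.leaf 0x0)) (.node (.leaf 0x494bad9) (.leaf 0x0))))) (.node (.node (.node (.node (.leaf 0x2cbacc32c) (.leaf 0x5659759)) (.node (.leaf 0x2574b759) (.leaf 0x0))) (.node (.node (.leaf 0xb2165bad9) (.leaf 0x121929759)) (.node (.leaf 0x25964adb) (.leaf 0x0)))) (.node (.node (.node (.leaf 0x1864) (.leaf 0x1596eba59)) (.node (.leaf 0x6175ba59) (.leaf 0x0))) (.node (.node (.leaf 0x2594b759) (.leaf 0x0)) (.node (.leaf 0x2585d659) (.leaf 0x0))))))) (.node (.node (.node (.node (.node (.node (.leaf 0xb2cb0c85b) (.leaf 0x15d759)) (.node (.leaf 0x16d992c) (.leaf 0x0))) (.node (.node (.leaf 0x10c864) (.leaf 0xccb25664)) (.node (.leaf 0x24b0c2d9) (.leaf 0x0)))) (.node (.node (.node (.leaf 0x6eb2db) (.leaf 0x164b2594b)) (.node (.leaf 0x1d30b659) (.leaf 0x0))) (.node (.node (.leaf 0xdd2db) (.leaf 0x1665321)) (.node (.leaf 0x92b321) (.leaf 0x0))))) (.node (.node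 (.node (.node (.leaf 0xb0cb21) (.leaf 0x75d90b2d9)) (.node (.leaf 0x216ec861) (.leaf 0x0))) (.node (.node (.leaf 0x196d9) (.leaf 0x2c2cba59)) (.node (.leaf 0x2c2cb759) (.leaf 0x0)))) (.node (.node (.node (.leaf 0x430c2eb759) (.leaf 0x216eb321)) (.node (.leaf 0x2192b659) (.leaf 0x0))) (.node (.node (.leaf 0xb2db) (.leaf 0x0)) (.node (.leaf 0x19) (.leaf 0x0)))))) (.node (.node (.node (.node (.node (.leaf 0x1975bad9) (.leaf 0x14b32c321)) (.node (.leaf 0x175d6d9) (.leaf 0x0))) (.node (.node (.leaf 0x42cc32c) (.leaf 0x74c30bad9)) (.node (.leaf 0x1861759) (.leaf 0x0)))) (.node (.node (.node (.leaf 0x42cb2d9) (.leaf 0x52ec861)) (.node (.leaf 0x596e9659) (.leaf 0x0))) (.node (.node (.leaf 0x365d664) (.leaf 0x0)) (.node (.leaf 0x19759661) (.leaf 0x0))))) (.node (.node (.node (.node (.leaf 0x30b2dbad9) (.leaf 0x6592cad9)) (.node (.leaf 0x16cc959) (.leaf 0x0))) (.node (.node (.leaf 0x3765859) (.leaf 0x24b2c85b)) (.node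 (.leaf 0x25864a59) (.leaf 0x0)))) (.node (.node (.node (.leaf 0x374c321) (.leaf 0x594b2d9)) (.node (.leaf 0x2cadd2db) (.leaf 0x0))) (.node (.node (.leaf 0x565ba59) (.leaf 0x0)) (.node (.leaf 0x14b661) (.leaf 0x0)))))))) (.node (.node (.node (.node (.node (.node (.node (.leaf 0xcc) (.leaf 0x1219656d9)) (.node (.leaf 0x95d2ccb21) (.leaf 0x0))) (.node (.node (.leaf 0x3764ad9) (.leaf 0x16594b)) (.node (.leaf 0x4a61659) (.leaf 0x0)))) (.node (.node (.node (.leaf 0x186430c) (.leaf 0x14baebad9)) (.node (.leaf 0x761659) (.leaf 0x0))) (.node (.node (.leaf 0x16574c321) (.leaf 0x32dd2d9)) (.node (.leaf 0x2192b759) (.leaf 0x0))))) (.node (.node (.node (.node (.leaf 0x585bb21) (.leaf 0x2c94b)) (.node (.leaf 0x596194c) (.leaf 0x0))) (.node (.node (.leaf 0x12cb0b2d9) (.leaf 0x2bb21)) (.node (.leaf 0x6165b74b) (.leaf 0x0)))) (.node (.node (.node (.leaf 0x25861) (.leaf 0x1b74c959)) (.node (.leaf 0x64325659) (.leaf 0x0))) (.node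 (.node (.leaf 0x32dbb2c) (.leaf 0x0)) (.node (.leaf 0x86595b2d9) (.leaf 0x0)))))) (.node (.node (.node (.node (.node (.leaf 0x1664) (.leaf 0x2592b661)) (.node (.leaf 0x192b759) (.leaf 0x0))) (.node (.node (.leaf 0xa618642d9) (.leaf 0xa596d9)) (.node (.leaf 0x48616d9) (.leaf 0x0)))) (.node (.node (.node (.leaf 0x596d9) (.leaf 0xe96d9)) (.node (.leaf 0xdd2d994c) (.leaf 0x0))) (.node (.node (.leaf 0xb664) (.leaf 0x0)) (.node (.leaf 0x16175bad9) (.leaf 0x0))))) (.node (.node (.node (.node (.leaf 0xaeb6ec) (.leaf 0xccb2cad9)) (.node (.leaf 0xccb2c) (.leaf 0x0))) (.node (.node (.leaf 0x6cc959) (.leaf 0x2c961759)) (.node (.leaf 0x2b659) (.leaf 0x0)))) (.node (.node (.node (.leaf 0x192b661) (.leaf 0xacc32c)) (.node (.leaf 0x21964adb) (.leaf 0x0))) (.node (.node (.leaf 0x2cadb32c) (.leaf 0x0)) (.node (.leaf 0x964a59659) (.leaf 0x0))))))) (.node (.node (.node (.node (.node (.node (.leaf 0x296cba59) (.leaf 0x765659))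 (.node (.leaf 0x5759661) (.leaf 0x0))) (.node (.node (.leaf 0xc3256d9) (.leaf 0x194b6ec)) (.node (.leaf 0x12192ba59) (.leaf 0x0)))) (.node (.node (.node (.leaf 0x565d6d9) (.leaf 0x64a59)) (.node (.leaf 0xeb2cb74b) (.leaf 0x0))) (.node (.node (.leaf 0x32dd6616d9) (.leaf 0x16eb2d9)) (.node (.leaf 0x10b65d6ec) (.leaf 0x0))))) (.node (.node (.node (.node (.leaf 0x5864ad9) (.leaf 0x1d2cc321)) (.node (.leaf 0x65d6d9) (.leaf 0x0))) (.node (.node (.leaf 0x10cb0b2d9) (.leaf 0x586430c)) (.node (.leaf 0xcb32c321) (.leaf 0x0)))) (.node (.node (.node (.leaf 0xb2c) (.leaf 0x24b252db)) (.node (.leaf 0x15d964ad9) (.leaf 0x0))) (.node (.node (.leaf 0xb2175ba59) (.leaf 0x0)) (.node (.leaf 0x5d2dd6d9) (.leaf 0x0)))))) (.node (.node (.node (.node (.node (.leaf 0x24b2c30c) (.leaf 0x5d66192c)) (.node (.leaf 0x1765861) (.leaf 0x0))) (.node (.node (.leaf 0x6e9861) (.leaf 0x14b74bad9)) (.node (.leaf 0x175d2db) (.leaf 0x0)))) (.node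 (.node (.node (.leaf 0xa5b2cb2d9) (.leaf 0x6ec959659)) (.node (.leaf 0x3aec94c) (.leaf 0x0))) (.node (.node (.leaf 0x430b6ec) (.leaf 0x0)) (.node (.leaf 0x6574b2d9) (.leaf 0x0))))) (.node (.node (.node (.node (.leaf 0x6dd2db) (.leaf 0x64b21864)) (.node (.leaf 0x32d994c) (.leaf 0x0))) (.node (.node (.leaf 0x4a64ad9) (.leaf 0xb30c959)) (.node (.leaf 0x42dd861) (.leaf 0x0)))) (.node (.node (.node (.leaf 0x15b2d9) (.leaf 0x25959)) (.node (.leaf 0x65b74b) (.leaf 0x0))) (.node (.node (.leaf 0xca656d9) (.leaf 0x0)) (.node (.leaf 0x375b2cc) (.leaf 0x0))))))))))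

/-- data -/
def clsT4 : Cfsg.Agent.HN.Trie :=
  (.node (.node (.node (.node (.node (.node (.node (.node (.node (.leaf 0x90c2eb759) (.leaf 0x1990cb2c)) (.node (.leaf 0x661959) (.leaf 0x0))) (.node (.node (.leaf 0xa6192c) (.leaf 0x1256cbad9)) (.node (.leaf 0x6ec864ad9) (.leaf 0x0)))) (.node (.node (.node (.leaf 0x95b75b2cc) (.leaf 0x25959759)) (.node (.leaf 0x74cb2c) (.leaf 0x0))) (.node (.node (.leaf 0x18616d9) (.leaf 0x2cb0b30c)) (.node (.leaf 0x5bb2594b) (.leaf 0x0))))) (.node (.node (.node (.node (.leaf 0x161659) (.leaf 0x56dd2d9)) (.node (.leaf 0x92bad9) (.leaf 0x0))) (.node (.node (.leaf 0x5b74bad9) (.leaf 0x7652d9)) (.node (.leaf 0x376530b659) (.leaf 0x0)))) (.node (.node (.node (.leaf 0x2994c859) (.leaf 0x15d75b2cc)) (.node (.leaf 0xa5992c) (.leaf 0x0))) (.node (.node (.leaf 0x1bb29864) (.leaf 0x0)) (.node (.leaf 0xcb32585b) (.leaf 0x0)))))) (.node (.node (.node (.node (.node (.leaf 0x42cbadb) (.leaf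 0xacb664)) (.node (.leaf 0xbae9659) (.leaf 0x0))) (.node (.node (.leaf 0x566192c) (.leaf 0x12194c94b)) (.node (.leaf 0x2175d6d9) (.leaf 0x0)))) (.node (.node (.node (.leaf 0x2530b6eb659) (.leaf 0xb665859)) (.node (.leaf 0x2974bad9) (.leaf 0x0))) (.node (.node (.leaf 0x16175b74c) (.leaf 0x74cad9)) (.node (.leaf 0xcc959) (.leaf 0x0))))) (.node (.node (.node (.node (.leaf 0xca64ad9) (.leaf 0x2595d759)) (.node (.leaf 0x3b2c864) (.leaf 0x0))) (.node (.node (.leaf 0x2cb2194c) (.leaf 0x242dd6d9)) (.node (.leaf 0xcc32c) (.leaf 0x0)))) (.node (.node (.node (.leaf 0x121664) (.leaf 0x32eb2d9)) (.node (.leaf 0x1994c94b) (.leaf 0x0))) (.node (.node (.leaf 0x52eb74b) (.leaf 0x0)) (.node (.leaf 0x430c94b) (.leaf 0x0))))))) (.node (.node (.node (.node (.node (.node (.leaf 0x1995b2d9) (.leaf 0x2eba5b659)) (.node (.leaf 0x432c321) (.leaf 0x0))) (.node (.node (.leaf 0x85b2d9) (.leaf 0x159864ad9)) (.node (.leaf 0xb2dbb2c) (.leaf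 0x0)))) (.node (.node (.node (.leaf 0x1256cb2d9) (.leaf 0x592c861)) (.node (.leaf 0x65bad9) (.leaf 0x0))) (.node (.node (.leaf 0x12585b) (.leaf 0x1616dd859)) (.node (.leaf 0x165759) (.leaf 0x0))))) (.node (.node (.node (.node (.leaf 0x76530c) (.leaf 0x2595b664)) (.node (.leaf 0x6eb665659) (.leaf 0x0))) (.node (.node (.leaf 0x5b65b) (.leaf 0x56cb759)) (.node (.leaf 0xaeb661) (.leaf 0x0)))) (.node (.node (.node (.leaf 0x92bad9659) (.leaf 0x585d6ec)) (.node (.leaf 0xcb25664) (.leaf 0x0))) (.node (.node (.leaf 0x2430c) (.leaf 0x0)) (.node (.leaf 0x596e9664) (.leaf 0x0)))))) (.node (.node (.node (.node (.node (.leaf 0x15992b659) (.leaf 0x1bb21864)) (.node (.leaf 0x10c9616d9) (.leaf 0x0))) (.node (.node (.leaf 0x2430bad9) (.leaf 0x125859)) (.node (.leaf 0x12c2cc85b) (.leaf 0x0)))) (.node (.node (.node (.leaf 0x32cb661) (.leaf 0x5864b21)) (.node (.leaf 0xb2c2eb759) (.leaf 0x0))) (.node (.node (.leaf 0x74c321) (.leaf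 0x0)) (.node (.leaf 0xb75992c) (.leaf 0x0))))) (.node (.node (.node (.node (.leaf 0x42cbad9) (.leaf 0xadd6cc861)) (.node (.leaf 0xe9664) (.leaf 0x0))) (.node (.node (.leaf 0x575ba59) (.leaf 0x2195b759)) (.node (.leaf 0x164a59659) (.leaf 0x0)))) (.node (.node (.node (.leaf 0x252cb65b) (.leaf 0xb216dd321)) (.node (.leaf 0x10cb2c) (.leaf 0x0))) (.node (.node (.leaf 0x164a5d659) (.leaf 0x0)) (.node (.leaf 0x19759) (.leaf 0x0)))))))) (.node (.node (.node (.node (.node (.node (.node (.leaf 0x19864ad9) (.leaf 0x2b664b21)) (.node (.leaf 0x194b2d9659) (.leaf 0x0))) (.node (.node (.leaf 0xb75badb) (.leaf 0x125961959)) (.node (.leaf 0x15d90b2d9) (.leaf 0x0)))) (.node (.node (.node (.leaf 0x1664b21) (.leaf 0xdbad9)) (.node (.leaf 0x596594c) (.leaf 0x0))) (.node (.node (.leaf 0x59596d9) (.leaf 0x30c9616d9)) (.node (.leaf 0x3aeb759) (.leaf 0x0))))) (.node (.node (.node (.node (.leaf 0x75d659) (.leaf 0x29929659)) (.node (.leaf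 0x75b30c) (.leaf 0x0))) (.node (.node (.leaf 0x1985b2d9) (.leaf 0x6ecb21)) (.node (.leaf 0x6590b659) (.leaf 0x0)))) (.node (.node (.node (.leaf 0x159664321) (.leaf 0x4ad992c)) (.node (.leaf 0x159929959) (.leaf 0x0))) (.node (.node (.leaf 0x375d321) (.leaf 0x0)) (.node (.leaf 0xeb65d6d9) (.leaf 0x0)))))) (.node (.node (.node (.node (.node (.leaf 0x1859664) (.leaf 0x15b664)) (.node (.leaf 0x5b66192c) (.leaf 0x0))) (.node (.node (.leaf 0x161664321) (.leaf 0x9616d9)) (.node (.leaf 0xa5b659) (.leaf 0x0)))) (.node (.node (.node (.leaf 0x2190c32c) (.leaf 0x15bb2594c)) (.node (.leaf 0x15b2cb2d9) (.leaf 0x0))) (.node (.node (.leaf 0x10b659) (.leaf 0x0)) (.node (.leaf 0x1656d9) (.leaf 0x0))))) (.node (.node (.node (.node (.leaf 0x3a59861) (.leaf 0x12594c859)) (.node (.leaf 0x12c85d659) (.leaf 0x0))) (.node (.node (.leaf 0x16dd664) (.leaf 0x2574b2cc)) (.node (.leaf 0x3b2cb21) (.leaf 0x0)))) (.node (.node (.node (.leaf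 0x196ec859) (.leaf 0x1d65bb21)) (.node (.leaf 0x4add2db) (.leaf 0x0))) (.node (.node (.leaf 0x164a5b659) (.leaf 0x0)) (.node (.leaf 0xec959659) (.leaf 0x0))))))) (.node (.node (.node (.node (.node (.node (.leaf 0xd9659) (.leaf 0x164b2530c)) (.node (.leaf 0x6eb664) (.leaf 0x0))) (.node (.node (.leaf 0xdd94b759) (.leaf 0x10ca5b2d9)) (.node (.leaf 0x21929659) (.leaf 0x0)))) (.node (.node (.node (.leaf 0x32c2cb759) (.leaf 0xcc95b2d9)) (.node (.leaf 0xd96eb2cc) (.leaf 0x0))) (.node (.node (.leaf 0x2b659759) (.leaf 0x4861759)) (.node (.leaf 0xadbb21) (.leaf 0x0))))) (.node (.node (.node (.node (.leaf 0x1d94c) (.leaf 0x36616eb659)) (.node (.leaf 0x25961959) (.leaf 0x0))) (.node (.node (.leaf 0x15992c) (.leaf 0x52dbad9)) (.node (.leaf 0x65d74b759) (.leaf 0x0)))) (.node (.node (.node (.leaf 0x3b2592c) (.leaf 0x659616d9)) (.node (.leaf 0x192c861) (.leaf 0x0))) (.node (.node (.leaf 0x10b65b2d9) (.leaf 0x0)) (.node (.leaf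 0x256cba59) (.leaf 0x0)))))) (.node (.node (.node (.node (.node (.leaf 0x15b659) (.leaf 0x375bb2c959)) (.node (.leaf 0x56eb661) (.leaf 0x0))) (.node (.node (.leaf 0x15b66192c) (.leaf 0x15d65bb21)) (.node (.leaf 0x14c859) (.leaf 0x0)))) (.node (.node (.node (.leaf 0x2b2eb6ec) (.leaf 0x166530c)) (.node (.leaf 0x5baccad9) (.leaf 0x0))) (.node (.node (.leaf 0x5d74bad9) (.leaf 0x0)) (.node (.leaf 0x32990c859) (.leaf 0x0))))) (.node (.node (.node (.node (.leaf 0x4a5d664) (.leaf 0x57656d9)) (.node (.leaf 0x14b74c) (.leaf 0x0))) (.node (.node (.leaf 0x5965664) (.leaf 0x332c32c)) (.node (.leaf 0x325864) (.leaf 0x0)))) (.node (.node (.node (.leaf 0x1d2dd6d9) (.leaf 0x65992c)) (.node (.leaf 0x530c864) (.leaf 0x0))) (.node (.node (.leaf 0xa5d6ec) (.leaf 0x0)) (.node (.leaf 0x2ccb2c) (.leaf 0x0))))))))) (.node (.node (.node (.node (.node (.node (.node (.node (.leaf 0x6cb2db) (.leaf 0x2ba5ba59)) (.node (.leaf 0x12badbad9)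 (.leaf 0x0))) (.node (.node (.leaf 0x59861) (.leaf 0x52eb661)) (.node (.leaf 0x616cb321) (.leaf 0x0)))) (.node (.node (.node (.leaf 0x2575b759) (.leaf 0x659596d9)) (.node (.leaf 0x95974b659) (.leaf 0x0))) (.node (.node (.leaf 0xa5d92c) (.leaf 0xb0c959)) (.node (.leaf 0x2b65b) (.leaf 0x0))))) (.node (.node (.node (.node (.leaf 0x5d2d9) (.leaf 0x1bb2c864)) (.node (.leaf 0x2595b65b) (.leaf 0x0))) (.node (.node (.leaf 0x19659661) (.leaf 0x1d85b)) (.node (.leaf 0x14badbad9) (.leaf 0x0)))) (.node (.node (.node (.leaf 0xaec3256d9) (.leaf 0x10c95b65b)) (.node (.leaf 0x12bad9) (.leaf 0x0))) (.node (.node (.leaf 0x216dd664) (.leaf 0x0)) (.node (.leaf 0x5992b659) (.leaf 0x0)))))) (.node (.node (.node (.node (.node (.leaf 0x4861) (.leaf 0x159)) (.node (.leaf 0xb296d9) (.leaf 0x0))) (.node (.node (.leaf 0x56cba59) (.leaf 0x10b6eb659)) (.node (.leaf 0x2590b2d9) (.leaf 0x0)))) (.node (.node (.node (.leaf 0x32b659) (.leaf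 0x1298642d9)) (.node (.leaf 0x25759759) (.leaf 0x0))) (.node (.node (.leaf 0xe96ebad9) (.leaf 0x0)) (.node (.leaf 0x6cc94c2d9) (.leaf 0x0))))) (.node (.node (.node (.node (.leaf 0x2db) (.leaf 0x42dbad9)) (.node (.leaf 0xacb74c) (.leaf 0x0))) (.node (.node (.leaf 0x2b32c321) (.leaf 0x14b74c321)) (.node (.leaf 0x85bad9) (.leaf 0x0)))) (.node (.node (.node (.leaf 0x185b2d9) (.leaf 0xcbb256d9)) (.node (.leaf 0xb0b65b) (.leaf 0x0))) (.node (.node (.leaf 0xeba5b759) (.leaf 0x0)) (.node (.leaf 0xdba59) (.leaf 0x0))))))) (.node (.node (.node (.node (.node (.node (.leaf 0xbacb661) (.leaf 0xe975b2cc)) (.node (.leaf 0x2cba5d6d9) (.leaf 0x0))) (.node (.node (.leaf 0xeb32c859) (.leaf 0x6dd2d9)) (.node (.leaf 0x1619616d9) (.leaf 0x0)))) (.node (.node (.node (.leaf 0xdd861) (.leaf 0x36ebad9)) (.node (.leaf 0x21929864) (.leaf 0x0))) (.node (.node (.leaf 0x321759) (.leaf 0x2c321)) (.node (.leaf 0x3a5bb0c) (.leaf 0x0))))) (.node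 (.node (.node (.node (.leaf 0x1b65d6d9) (.leaf 0x10c30b6ec)) (.node (.leaf 0xec94c2d9) (.leaf 0x0))) (.node (.node (.leaf 0x3321664) (.leaf 0x485d2db)) (.node (.leaf 0x2ebad9) (.leaf 0x0)))) (.node (.node (.node (.leaf 0x16530b659) (.leaf 0xc865864)) (.node (.leaf 0x5d2ccb21) (.leaf 0x0))) (.node (.node (.leaf 0xcca64b21) (.leaf 0x0)) (.node (.leaf 0x48642d9) (.leaf 0x0)))))) (.node (.node (.node (.node (.node (.leaf 0xcb2db) (.leaf 0x2990bb21)) (.node (.leaf 0x256cb661) (.leaf 0x0))) (.node (.node (.leaf 0x2dba59) (.leaf 0x2ebaccad9)) (.node (.leaf 0x2d9661) (.leaf 0x0)))) (.node (.node (.node (.leaf 0x185b664) (.leaf 0x961759)) (.node (.leaf 0x4b2585b) (.leaf 0x0))) (.node (.node (.leaf 0x532c864) (.leaf 0x0)) (.node (.leaf 0x4b2b664) (.leaf 0x0))))) (.node (.node (.node (.node (.leaf 0x6eb2d992c) (.leaf 0xeca64ad9)) (.node (.leaf 0x2dd94b2d9) (.leaf 0x0))) (.node (.node (.leaf 0x4a5b2d9) (.leaf 0x2c96585b))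 (.node (.leaf 0x59759) (.leaf 0x0)))) (.node (.node (.node (.leaf 0x15d2cc959) (.leaf 0xa5b661)) (.node (.leaf 0x2ecb0b659) (.leaf 0x0))) (.node (.node (.leaf 0xb2b659) (.leaf 0x0)) (.node (.leaf 0x6eb765321) (.leaf 0x0)))))))) (.node (.node (.node (.node (.node (.node (.node (.leaf 0x1965bb21) (.leaf 0x12c30bad9)) (.node (.leaf 0x24b29659) (.leaf 0x0))) (.node (.node (.leaf 0xb321) (.leaf 0x5865859)) (.node (.leaf 0x1d2cc959) (.leaf 0x0)))) (.node (.node (.node (.leaf 0x19664321) (.leaf 0x12985d659)) (.node (.leaf 0x12992bad9) (.leaf 0x0))) (.node (.node (.leaf 0x2185d664) (.leaf 0xcb296d9)) (.node (.leaf 0x19929864) (.leaf 0x0))))) (.node (.node (.node (.node (.leaf 0x2eb2cc) (.leaf 0x65659)) (.node (.leaf 0xb2bad9) (.leaf 0x0))) (.node (.node (.leaf 0xd9) (.leaf 0x12cb0c)) (.node (.leaf 0x2b325664) (.leaf 0x0)))) (.node (.node (.node (.leaf 0x12c859) (.leaf 0x4b2ba59)) (.node (.leaf 0x596ec859) (.leaf 0x0)))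 (.node (.node (.leaf 0x2e9759) (.leaf 0x0)) (.node (.leaf 0x2b6eb659) (.leaf 0x0)))))) (.node (.node (.node (.node (.node (.leaf 0x2dd759) (.leaf 0x596ec)) (.node (.leaf 0x2594c30c) (.leaf 0x0))) (.node (.node (.leaf 0xc861759) (.leaf 0x6eb74c)) (.node (.leaf 0xebacb759) (.leaf 0x0)))) (.node (.node (.node (.leaf 0x1b2cb2d9) (.leaf 0x656ec)) (.node (.leaf 0x864b21) (.leaf 0x0))) (.node (.node (.leaf 0x430b65b) (.leaf 0x0)) (.node (.leaf 0x74bad9) (.leaf 0x0))))) (.node (.node (.node (.node (.leaf 0x2432c) (.leaf 0x664b21)) (.node (.leaf 0x52cc85b) (.leaf 0x0))) (.node (.node (.leaf 0x2b664) (.leaf 0x1d2cb2d9)) (.node (.leaf 0xe995b759) (.leaf 0x0)))) (.node (.node (.node (.leaf 0x485bb0c) (.leaf 0x1965861)) (.node (.leaf 0xb2194c) (.leaf 0x0))) (.node (.node (.leaf 0x296cb759) (.leaf 0x0)) (.node (.leaf 0x4add664) (.leaf 0x0))))))) (.node (.node (.node (.node (.node (.node (.leaf 0x5d30c859) (.leaf 0x2c2cc959))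 (.node (.leaf 0x2c85d659) (.leaf 0x0))) (.node (.node (.leaf 0x75992b659) (.leaf 0xcbb25859)) (.node (.leaf 0x6dd2cb2d9) (.leaf 0x0)))) (.node (.node (.node (.leaf 0x16dd2d9) (.leaf 0xb66532c)) (.node (.leaf 0x5b30c959) (.leaf 0x0))) (.node (.node (.leaf 0xa5b664) (.leaf 0xd985badb)) (.node (.leaf 0x2baec85b) (.leaf 0x0))))) (.node (.node (.node (.node (.leaf 0x1964aeb) (.leaf 0xeb2db)) (.node (.leaf 0x4a59861) (.leaf 0x0))) (.node (.node (.leaf 0x2bacba59) (.leaf 0x1baeb661)) (.node (.leaf 0x75badbb21) (.leaf 0x0)))) (.node (.node (.node (.leaf 0x575bad9) (.leaf 0xec2cb2d9)) (.node (.leaf 0x596eb321) (.leaf 0x0))) (.node (.node (.leaf 0x2c2ec859) (.leaf 0x0)) (.node (.leaf 0x2cb29659) (.leaf 0x0)))))) (.node (.node (.node (.node (.node (.leaf 0xcad994c) (.leaf 0x15d2dd6d9)) (.node (.leaf 0x432c94b) (.leaf 0x0))) (.node (.node (.leaf 0x129659) (.leaf 0x57596d9)) (.node (.leaf 0xc32c321) (.leaf 0x0)))) (.node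 (.node (.node (.leaf 0xb2c94b) (.leaf 0xacbad9)) (.node (.leaf 0x2ebb2c859) (.leaf 0x0))) (.node (.node (.leaf 0x1990c94b) (.leaf 0x0)) (.node (.leaf 0xcbb2594b) (.leaf 0x0))))) (.node (.node (.node (.node (.leaf 0x57596ec) (.leaf 0x3a65861)) (.node (.leaf 0x2b2cb65b) (.leaf 0x0))) (.node (.node (.leaf 0x12174bad9) (.leaf 0x1d659759)) (.node (.leaf 0xeb32585b) (.leaf 0x0)))) (.node (.node (.node (.leaf 0x16ec32c) (.leaf 0x1864a59)) (.node (.leaf 0x494bb21) (.leaf 0x0))) (.node (.node (.leaf 0x2dd665321) (.leaf 0x0)) (.node (.leaf 0x1d3216d9) (.leaf 0x0))))))))))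

/-- data -/
def clsT5 : Cfsg.Agent.HN.Trie :=
  (.node (.node (.node (.node (.node (.node (.node (.node (.node (.leaf 0x1b2cc861759) (.leaf 0x2ecb21)) (.node (.leaf 0xaecb2c) (.leaf 0x0))) (.node (.node (.leaf 0x1b2d9) (.leaf 0x6cb75b2cc)) (.node (.leaf 0xeb75992c) (.leaf 0x0)))) (.node (.node (.node (.leaf 0x1d90bad9) (.leaf 0xc2d96ec)) (.node (.leaf 0x85d2d9) (.leaf 0x0))) (.node (.node (.leaf 0x1619652d9) (.leaf 0xc864ad9)) (.node (.leaf 0x2194c959) (.leaf 0x0))))) (.node (.node (.node (.node (.leaf 0x2dd32b664) (.leaf 0x2585b664)) (.node (.leaf 0x16ec94b) (.leaf 0x0))) (.node (.node (.leaf 0x14c95d2d9) (.leaf 0xad96eba59)) (.node (.leaf 0x32594b659) (.leaf 0x0)))) (.node (.node (.node (.leaf 0x74b32c959) (.leaf 0x164b0c2d9)) (.node (.leaf 0x2175b74c) (.leaf 0x0))) (.node (.node (.leaf 0x15b74c959) (.leaf 0x0)) (.node (.leaf 0xb2965d2d9) (.leaf 0x0)))))) (.node (.node (.node (.node (.node (.leaf 0x9652cba59)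 (.leaf 0x2194c94b)) (.node (.leaf 0xe9864) (.leaf 0x0))) (.node (.node (.leaf 0x12b74b759) (.leaf 0x185d6d9)) (.node (.leaf 0x530b65b) (.leaf 0x0)))) (.node (.node (.node (.leaf 0x59664) (.leaf 0x12b6e9759)) (.node (.leaf 0xb6ec2cb759) (.leaf 0x0))) (.node (.node (.leaf 0x16ec30c) (.leaf 0x2975b664)) (.node (.leaf 0xb2ba59) (.leaf 0x0))))) (.node (.node (.node (.node (.leaf 0x165b321) (.leaf 0x2dbb0c)) (.node (.leaf 0x10b2d992c) (.leaf 0x0))) (.node (.node (.leaf 0x2432992c) (.leaf 0xcc94b659)) (.node (.leaf 0x2c3256ec) (.leaf 0x0)))) (.node (.node (.node (.leaf 0x19664) (.leaf 0x92c2eb759)) (.node (.leaf 0x16eb661) (.leaf 0x0))) (.node (.node (.leaf 0xacc325759) (.leaf 0x0)) (.node (.leaf 0x6ec2d9) (.leaf 0x0))))))) (.node (.node (.node (.node (.node (.node (.leaf 0x1d75d6d9) (.leaf 0x256d994c)) (.node (.leaf 0x3b2c94b) (.leaf 0x0))) (.node (.node (.leaf 0x90c321) (.leaf 0xb2b6ec)) (.node (.leaf 0x3216dd6ec)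 (.leaf 0x0)))) (.node (.node (.node (.leaf 0x5d92c321) (.leaf 0x94c94b)) (.node (.leaf 0xd9964b21) (.leaf 0x0))) (.node (.node (.leaf 0xaec94c) (.leaf 0x256d9)) (.node (.leaf 0x1d321) (.leaf 0x0))))) (.node (.node (.node (.node (.leaf 0xa5b30c) (.leaf 0x94cb2b659)) (.node (.leaf 0x3a5b759) (.leaf 0x0))) (.node (.node (.leaf 0xb216dd6ec) (.leaf 0x85d321)) (.node (.leaf 0xcba5d6d9) (.leaf 0x0)))) (.node (.node (.node (.leaf 0x585d65b2d9) (.leaf 0x2c2eb6ec)) (.node (.leaf 0x12b6ec30c) (.leaf 0x0))) (.node (.node (.leaf 0x321664) (.leaf 0x0)) (.node (.leaf 0x5b75b659) (.leaf 0x0)))))) (.node (.node (.node (.node (.node (.leaf 0x175b664) (.leaf 0x4b25864)) (.node (.leaf 0xacb6ec861) (.leaf 0x0))) (.node (.node (.leaf 0x242cbadb) (.leaf 0x929864)) (.node (.leaf 0x96532c) (.leaf 0x0)))) (.node (.node (.node (.leaf 0x8596d9) (.leaf 0x764329659)) (.node (.leaf 0x1299616d9) (.leaf 0x0))) (.node (.node (.leaf 0x256d992c)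 (.leaf 0x0)) (.node (.leaf 0x2c2cb2d9) (.leaf 0x0))))) (.node (.node (.node (.node (.leaf 0x12195b659) (.leaf 0xad9)) (.node (.leaf 0x2cbaeb2d9) (.leaf 0x0))) (.node (.node (.leaf 0x32c32c) (.leaf 0x5b2dba59)) (.node (.leaf 0x194c) (.leaf 0x0)))) (.node (.node (.node (.leaf 0x14ca64b21) (.leaf 0x2cae96d9)) (.node (.leaf 0xb761659) (.leaf 0x0))) (.node (.node (.leaf 0x2965bad9) (.leaf 0x0)) (.node (.leaf 0x4acc94c) (.leaf 0x0)))))))) (.node (.node (.node (.node (.node (.node (.node (.leaf 0x5d2db) (.leaf 0xcb0c2db)) (.node (.leaf 0x5d74b) (.leaf 0x0))) (.node (.node (.leaf 0x6595b2d9) (.leaf 0x2b75bb0c)) (.node (.leaf 0x2990cb21) (.leaf 0x0)))) (.node (.node (.node (.leaf 0x1664321) (.leaf 0xa5bad9)) (.node (.leaf 0x2b66192c) (.leaf 0x0))) (.node (.node (.leaf 0x3764adb) (.leaf 0x175b759)) (.node (.leaf 0x1d861) (.leaf 0x0))))) (.node (.node (.node (.node (.leaf 0x15d2db) (.leaf 0x12bb216d9)) (.node (.leaf 0x3764b0c)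 (.leaf 0x0))) (.node (.node (.leaf 0x32cb65b) (.leaf 0xebad9)) (.node (.leaf 0x42dbadb) (.leaf 0x0)))) (.node (.node (.node (.leaf 0xdd94b659) (.leaf 0x95b74c)) (.node (.leaf 0x1d75d6ec) (.leaf 0x0))) (.node (.node (.leaf 0xa64b0c) (.leaf 0x0)) (.node (.leaf 0xb75d321) (.leaf 0x0)))))) (.node (.node (.node (.node (.node (.leaf 0x42cb65b) (.leaf 0x5d6cc32c)) (.node (.leaf 0x243256d9) (.leaf 0x0))) (.node (.node (.leaf 0x56eb659) (.leaf 0x5b759)) (.node (.leaf 0x3321659) (.leaf 0x0)))) (.node (.node (.node (.leaf 0x56616d9) (.leaf 0x5d32585b)) (.node (.leaf 0x1d8656d9) (.leaf 0x0))) (.node (.node (.leaf 0x659661) (.leaf 0x0)) (.node (.leaf 0x1658596d9) (.leaf 0x0))))) (.node (.node (.node (.node (.leaf 0x12b6ec94c) (.leaf 0x12b2eb659)) (.node (.leaf 0x2b32b6ec) (.leaf 0x0))) (.node (.node (.leaf 0xb6ec) (.leaf 0x3a5b661)) (.node (.leaf 0x52cc959) (.leaf 0x0)))) (.node (.node (.node (.leaf 0x92c94c) (.leaf 0xdd90c859))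 (.node (.leaf 0x190b759) (.leaf 0x0))) (.node (.node (.leaf 0x1d90b659) (.leaf 0x0)) (.node (.leaf 0x485d659) (.leaf 0x0))))))) (.node (.node (.node (.node (.node (.node (.leaf 0x216e9759) (.leaf 0x64b2b659)) (.node (.leaf 0x2176432c) (.leaf 0x0))) (.node (.node (.leaf 0x12592cad9) (.leaf 0x3b29864)) (.node (.leaf 0x1d75b664) (.leaf 0x0)))) (.node (.node (.node (.leaf 0x2dd6616d9) (.leaf 0x5665861)) (.node (.leaf 0x12b6cb65b) (.leaf 0x0))) (.node (.node (.leaf 0x86585b) (.leaf 0xc2dd6d9)) (.node (.leaf 0xb32532c) (.leaf 0x0))))) (.node (.node (.node (.node (.leaf 0x1995b65b) (.leaf 0x1bad9659)) (.node (.leaf 0x1d2eb6ec) (.leaf 0x0))) (.node (.node (.leaf 0x1974b2d9) (.leaf 0x495992c)) (.node (.leaf 0x2565b659) (.leaf 0x0)))) (.node (.node (.node (.leaf 0x195b759) (.leaf 0x165865864)) (.node (.leaf 0x165d92c) (.leaf 0x0))) (.node (.node (.leaf 0x1d6616d9) (.leaf 0x0)) (.node (.leaf 0x16cc859) (.leaf 0x0))))))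 (.node (.node (.node (.node (.node (.leaf 0x3329659) (.leaf 0x24ae96ec)) (.node (.leaf 0x14b2cc) (.leaf 0x0))) (.node (.node (.leaf 0x1b66192c) (.leaf 0x5d6dd6d9)) (.node (.leaf 0x2532c) (.leaf 0x0)))) (.node (.node (.node (.leaf 0x2574c321) (.leaf 0x2592c861)) (.node (.leaf 0x15d90bad9) (.leaf 0x0))) (.node (.node (.leaf 0x21965664) (.leaf 0x0)) (.node (.leaf 0x1864b2c) (.leaf 0x0))))) (.node (.node (.node (.node (.leaf 0x864b29659) (.leaf 0x58642d9)) (.node (.leaf 0x14cb0b30c) (.leaf 0x0))) (.node (.node (.leaf 0xcc95b759) (.leaf 0x2cae9759)) (.node (.leaf 0x4959) (.leaf 0x0)))) (.node (.node (.node (.leaf 0x30b759) (.leaf 0x2992c861)) (.node (.leaf 0xd995b2d9) (.leaf 0x0))) (.node (.node (.leaf 0x15d864ad9) (.leaf 0x0)) (.node (.leaf 0xcad96d9) (.leaf 0x0))))))))) (.node (.node (.node (.node (.node (.node (.node (.node (.leaf 0xdb30c) (.leaf 0xc964adb)) (.node (.leaf 0x175ba59) (.leaf 0x0))) (.node (.node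 (.leaf 0xb65bb2c) (.leaf 0x14cb2c)) (.node (.leaf 0xc96530b659) (.leaf 0x0)))) (.node (.node (.node (.leaf 0x2ec859) (.leaf 0x2cb2c30c)) (.node (.leaf 0x5b32b659) (.leaf 0x0))) (.node (.node (.leaf 0x1d32594b) (.leaf 0x56dd864)) (.node (.leaf 0x16dd859) (.leaf 0x0))))) (.node (.node (.node (.node (.leaf 0x199616d9) (.leaf 0x15d75b2eb)) (.node (.leaf 0x6dd659) (.leaf 0x0))) (.node (.node (.leaf 0x1d32532c) (.leaf 0x3a5bad9)) (.node (.leaf 0x1badb32c) (.leaf 0x0)))) (.node (.node (.node (.leaf 0xb32c321) (.leaf 0x42dd6d9)) (.node (.leaf 0x2ba59) (.leaf 0x0))) (.node (.node (.leaf 0x36ec959) (.leaf 0x0)) (.node (.leaf 0x6192c) (.leaf 0x0)))))) (.node (.node (.node (.node (.node (.leaf 0x242dbad9) (.leaf 0x256ccad9)) (.node (.leaf 0x14caeb759) (.leaf 0x0))) (.node (.node (.leaf 0xadd74b) (.leaf 0x94b659)) (.node (.leaf 0x74c861) (.leaf 0x0)))) (.node (.node (.node (.leaf 0x12baeb2d9) (.leaf 0x2ca5badb)) (.node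 (.leaf 0x585b661) (.leaf 0x0))) (.node (.node (.leaf 0x4864) (.leaf 0x0)) (.node (.leaf 0x16eb321) (.leaf 0x0))))) (.node (.node (.node (.node (.leaf 0xc) (.leaf 0x2b6ec)) (.node (.leaf 0x3b2194c) (.leaf 0x0))) (.node (.node (.leaf 0x5d6dd759) (.leaf 0x3b0c959)) (.node (.leaf 0x29759661) (.leaf 0x0)))) (.node (.node (.node (.leaf 0x6d9864) (.leaf 0x10cb2194c)) (.node (.leaf 0xa5b32b659) (.leaf 0x0))) (.node (.node (.leaf 0xb2eb6ec) (.leaf 0x0)) (.node (.leaf 0xc965859) (.leaf 0x0))))))) (.node (.node (.node (.node (.node (.node (.leaf 0x5d6616d9) (.leaf 0x165d6ec)) (.node (.leaf 0x29964adb) (.leaf 0x0))) (.node (.node (.leaf 0xcb74b759) (.leaf 0x10b30cb21)) (.node (.leaf 0x365bb2c) (.leaf 0x0)))) (.node (.node (.node (.leaf 0xb6ec94c) (.leaf 0x530c94b)) (.node (.leaf 0x864ae9659) (.leaf 0x0))) (.node (.node (.leaf 0x12c959) (.leaf 0x16532c)) (.node (.leaf 0xecadd6d9) (.leaf 0x0))))) (.node (.node (.node (.node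 (.leaf 0x1d90c859) (.leaf 0x2532c321)) (.node (.leaf 0x36eb321) (.leaf 0x0))) (.node (.node (.leaf 0x3) (.leaf 0x2cbadb)) (.node (.leaf 0x2432bad9) (.leaf 0x0)))) (.node (.node (.node (.leaf 0x2c96594b) (.leaf 0x6194b759)) (.node (.leaf 0x74ba5b659) (.leaf 0x0))) (.node (.node (.leaf 0x59661) (.leaf 0x0)) (.node (.leaf 0xcb664) (.leaf 0x0)))))) (.node (.node (.node (.node (.node (.leaf 0x6cc321) (.leaf 0xbacbadb)) (.node (.leaf 0x95d761659) (.leaf 0x0))) (.node (.node (.leaf 0x4b0ba59) (.leaf 0x36eb74c)) (.node (.leaf 0x661864) (.leaf 0x0)))) (.node (.node (.node (.leaf 0x36cc861) (.leaf 0xacc95b2d9)) (.node (.leaf 0x192cad9) (.leaf 0x0))) (.node (.node (.leaf 0x94b321) (.leaf 0x0)) (.node (.leaf 0x12ca64b21) (.leaf 0x0))))) (.node (.node (.node (.node (.leaf 0xb0c859) (.leaf 0x12190ba59)) (.node (.leaf 0x10c96194c) (.leaf 0x0))) (.node (.node (.leaf 0x74c859) (.leaf 0x192c2d9)) (.node (.leaf 0x15b765321) (.leaf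 0x0)))) (.node (.node (.node (.leaf 0xb2594c) (.leaf 0x4a5d2d9)) (.node (.leaf 0x33296ec) (.leaf 0x0))) (.node (.node (.leaf 0x2ca5b2d9) (.leaf 0x0)) (.node (.leaf 0x52ebadb) (.leaf 0x0)))))))) (.node (.node (.node (.node (.node (.node (.node (.leaf 0x15d664) (.leaf 0xcb66192c)) (.node (.leaf 0x4329864) (.leaf 0x0))) (.node (.node (.leaf 0x165bad9) (.leaf 0x196cc32c)) (.node (.leaf 0x2965b321) (.leaf 0x0)))) (.node (.node (.node (.leaf 0xcb2d9) (.leaf 0x6dd6ec)) (.node (.leaf 0x1d74b2d9) (.leaf 0x0))) (.node (.node (.leaf 0x12975ba59) (.leaf 0x1759759)) (.node (.leaf 0x532b661) (.leaf 0x0))))) (.node (.node (.node (.node (.leaf 0x2eb65b) (.leaf 0x190c959)) (.node (.leaf 0x2cb759) (.leaf 0x0))) (.node (.node (.leaf 0x56ec30c) (.leaf 0xaec85b)) (.node (.leaf 0x30c94b) (.leaf 0x0)))) (.node (.node (.node (.leaf 0x86532c) (.leaf 0x85d861)) (.node (.leaf 0x76432c) (.leaf 0x0))) (.node (.node (.leaf 0x1258596d9)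 (.leaf 0x0)) (.node (.leaf 0x15b2d9659) (.leaf 0x0)))))) (.node (.node (.node (.node (.node (.leaf 0xdbadb) (.leaf 0x5d65d74b)) (.node (.leaf 0x2592c) (.leaf 0x0))) (.node (.node (.leaf 0xeb6cb74c) (.leaf 0x1bacbadb)) (.node (.leaf 0xe96ec) (.leaf 0x0)))) (.node (.node (.node (.leaf 0x56eb74c) (.leaf 0x32dd6ec)) (.node (.leaf 0x1d6dd85b) (.leaf 0x0))) (.node (.node (.leaf 0x161759659) (.leaf 0x0)) (.node (.leaf 0xa5d6eb659) (.leaf 0x0))))) (.node (.node (.node (.node (.leaf 0x24adba59) (.leaf 0x56ec)) (.node (.leaf 0xadba59) (.leaf 0x0))) (.node (.node (.leaf 0x52db321) (.leaf 0x15b759)) (.node (.leaf 0x2990b659) (.leaf 0x0)))) (.node (.node (.node (.leaf 0x216ec94c) (.leaf 0x2ca5bad9)) (.node (.leaf 0x164b296ec) (.leaf 0x0))) (.node (.node (.leaf 0xcb29864) (.leaf 0x0)) (.node (.leaf 0x12195b759) (.leaf 0x0))))))) (.node (.node (.node (.node (.node (.node (.leaf 0xb74b659) (.leaf 0x1d2db321)) (.node (.leaf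 0x15974b659) (.leaf 0x0))) (.node (.node (.leaf 0x65d65b2d9) (.leaf 0xb2c32c)) (.node (.leaf 0x4a61759) (.leaf 0x0)))) (.node (.node (.node (.leaf 0x2b75b32c) (.leaf 0x374c85d659)) (.node (.leaf 0xb6cb759) (.leaf 0x0))) (.node (.node (.leaf 0xc96585b) (.leaf 0x256dd85b)) (.node (.leaf 0x3329959) (.leaf 0x0))))) (.node (.node (.node (.node (.leaf 0x2192cb0c) (.leaf 0x58652d9)) (.node (.leaf 0x2b2dd659) (.leaf 0x0))) (.node (.node (.leaf 0x52ebad9) (.leaf 0x2b74c321)) (.node (.leaf 0xec965859) (.leaf 0x0)))) (.node (.node (.node (.leaf 0x2db2cc) (.leaf 0x2592bad9)) (.node (.leaf 0x574c2d9) (.leaf 0x0))) (.node (.node (.leaf 0x10badb32c) (.leaf 0x0)) (.node (.leaf 0x94bb216d9) (.leaf 0x0)))))) (.node (.node (.node (.node (.node (.leaf 0x3b2c30c) (.leaf 0x2bad992c)) (.node (.leaf 0xeb) (.leaf 0x0))) (.node (.node (.leaf 0x14badb) (.leaf 0x496432c)) (.node (.leaf 0x1d6dd759) (.leaf 0x0)))) (.node (.node (.node (.leaf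 0x2c2d9664) (.leaf 0xacb74b659)) (.node (.leaf 0x6ccb21) (.leaf 0x0))) (.node (.node (.leaf 0x196cb74b) (.leaf 0x0)) (.node (.leaf 0x32194b759) (.leaf 0x0))))) (.node (.node (.node (.node (.leaf 0x2c321664) (.leaf 0x1d32c859)) (.node (.leaf 0x1b74c2d9) (.leaf 0x0))) (.node (.node (.leaf 0x642cc859) (.leaf 0x2eb30c959)) (.node (.leaf 0x2ca6194c) (.leaf 0x0)))) (.node (.node (.node (.leaf 0x2574b6ec) (.leaf 0x192b659)) (.node (.leaf 0x1b74b) (.leaf 0x0))) (.node (.node (.leaf 0x2b2cb74b) (.leaf 0x0)) (.node (.leaf 0x2575b659) (.leaf 0x0))))))))))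

/-- data -/
def clsT6 : Cfsg.Agent.HN.Trie :=
  (.node (.node (.node (.node (.node (.node (.node (.node (.node (.leaf 0x12195ba59) (.leaf 0xbadbb21)) (.node (.leaf 0x329659) (.leaf 0x0))) (.node (.node (.leaf 0x2c94b659) (.leaf 0x14c2cba59)) (.node (.leaf 0x2cc861759) (.leaf 0x0)))) (.node (.node (.node (.leaf 0xbadb30c) (.leaf 0x196594b)) (.node (.leaf 0x12b6eb321) (.leaf 0x0))) (.node (.node (.leaf 0x5b2cc) (.leaf 0x10c32b759)) (.node (.leaf 0x95badb) (.leaf 0x0))))) (.node (.node (.node (.node (.leaf 0x2175d2db) (.leaf 0x642cbad9)) (.node (.leaf 0x129864) (.leaf 0x0))) (.node (.node (.leaf 0x365b661) (.leaf 0x4a64b0c)) (.node (.leaf 0xb2ccb21) (.leaf 0x0)))) (.node (.node (.node (.leaf 0x15b30c959) (.leaf 0x24b2b659)) (.node (.leaf 0x2565d6d9) (.leaf 0x0))) (.node (.node (.leaf 0x6ec864) (.leaf 0x0)) (.node (.leaf 0x242cb74b) (.leaf 0x0)))))) (.node (.node (.node (.node (.node (.leaf 0x32b664) (.leaf 0x24b25864))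 (.node (.leaf 0x1d859) (.leaf 0x0))) (.node (.node (.leaf 0x85d929659) (.leaf 0x6d985badb)) (.node (.leaf 0x16530c) (.leaf 0x0)))) (.node (.node (.node (.leaf 0x1659) (.leaf 0xb0baeb2d9)) (.node (.leaf 0x1975d6d9) (.leaf 0x0))) (.node (.node (.leaf 0x165b32c) (.leaf 0x6dd85b)) (.node (.leaf 0xebb2c959) (.leaf 0x0))))) (.node (.node (.node (.node (.leaf 0x659864) (.leaf 0x256eb661)) (.node (.leaf 0x1d94cb21) (.leaf 0x0))) (.node (.node (.leaf 0x3b2992c) (.leaf 0x43256d9)) (.node (.leaf 0xcb665321) (.leaf 0x0)))) (.node (.node (.node (.leaf 0x42cc85b) (.leaf 0xeb30c85b)) (.node (.leaf 0x2cc94c) (.leaf 0x0))) (.node (.node (.leaf 0x24a5d92c) (.leaf 0x0)) (.node (.leaf 0x32585b) (.leaf 0x0))))))) (.node (.node (.node (.node (.node (.node (.leaf 0x332c864) (.leaf 0x2430b6ec)) (.node (.leaf 0xec32b759) (.leaf 0x0))) (.node (.node (.leaf 0x375d759) (.leaf 0xc32c2d9)) (.node (.leaf 0x75bb2c959) (.leaf 0x0)))) (.node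 (.node (.node (.leaf 0x8616cba59) (.leaf 0x74b74b)) (.node (.leaf 0x61965959) (.leaf 0x0))) (.node (.node (.leaf 0x12194b759) (.leaf 0x5992c)) (.node (.leaf 0x74b2db) (.leaf 0x0))))) (.node (.node (.node (.node (.leaf 0x496530c) (.leaf 0x59656d9)) (.node (.leaf 0x12b74c859) (.leaf 0x0))) (.node (.node (.leaf 0xc861659) (.leaf 0x4961659)) (.node (.leaf 0xcc965859) (.leaf 0x0)))) (.node (.node (.node (.leaf 0x2cadd664) (.leaf 0x2c30c864)) (.node (.leaf 0x2b32c32c) (.leaf 0x0))) (.node (.node (.leaf 0x964ad9) (.leaf 0x0)) (.node (.leaf 0x2c3256d9) (.leaf 0x0)))))) (.node (.node (.node (.node (.node (.leaf 0x10b74c) (.leaf 0x532c94b)) (.node (.leaf 0x374ba59) (.leaf 0x0))) (.node (.node (.leaf 0x2c864) (.leaf 0x4aec94c)) (.node (.leaf 0x6430c) (.leaf 0x0)))) (.node (.node (.node (.leaf 0x2185b2d9) (.leaf 0x5664)) (.node (.leaf 0x185b74b) (.leaf 0x0))) (.node (.node (.leaf 0x3accb2c) (.leaf 0x0)) (.node (.leaf 0x12b65bb0c)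 (.leaf 0x0))))) (.node (.node (.node (.node (.leaf 0xd9865321) (.leaf 0x2c8596d9)) (.node (.leaf 0x1d6ebad9) (.leaf 0x0))) (.node (.node (.leaf 0xeb75b759) (.leaf 0x164b0b6ec)) (.node (.leaf 0x32eb661) (.leaf 0x0)))) (.node (.node (.node (.leaf 0x929961759) (.leaf 0x964aeb)) (.node (.leaf 0x365d6ec) (.leaf 0x0))) (.node (.node (.leaf 0xbb256d9) (.leaf 0x0)) (.node (.leaf 0x6eb6eb74c) (.leaf 0x0)))))))) (.node (.node (.node (.node (.node (.node (.node (.leaf 0x90bb21) (.leaf 0x92b664)) (.node (.leaf 0x5b32c) (.leaf 0x0))) (.node (.node (.leaf 0xeca6592c) (.leaf 0x964adb)) (.node (.leaf 0xeb6eb2cc) (.leaf 0x0)))) (.node (.node (.node (.leaf 0x2186430c) (.leaf 0xb2b74b)) (.node (.leaf 0xebb25859) (.leaf 0x0))) (.node (.node (.leaf 0x95d2d9) (.leaf 0xadbadb)) (.node (.leaf 0x532592c) (.leaf 0x0))))) (.node (.node (.node (.node (.leaf 0x5759659) (.leaf 0x94c2d9)) (.node (.leaf 0x3adb321) (.leaf 0x0))) (.node (.node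 (.leaf 0x1216d9) (.leaf 0x4add759)) (.node (.leaf 0x4b0cb21) (.leaf 0x0)))) (.node (.node (.node (.leaf 0x92b74b759) (.leaf 0x19656d9)) (.node (.leaf 0x16194c) (.leaf 0x0))) (.node (.node (.leaf 0x2ccb21) (.leaf 0x0)) (.node (.leaf 0x164329659) (.leaf 0x0)))))) (.node (.node (.node (.node (.node (.leaf 0x256eb2d9) (.leaf 0x164aeb661)) (.node (.leaf 0x1252e9759) (.leaf 0x0))) (.node (.node (.leaf 0x2b75b661) (.leaf 0xeb661)) (.node (.leaf 0x1929759) (.leaf 0x0)))) (.node (.node (.node (.leaf 0xeb665659) (.leaf 0x1d66192c)) (.node (.leaf 0x6dd321) (.leaf 0x0))) (.node (.node (.leaf 0x24a59659) (.leaf 0x0)) (.node (.leaf 0xacc861759) (.leaf 0x0))))) (.node (.node (.node (.node (.leaf 0x75d85b) (.leaf 0xd995ba59)) (.node (.leaf 0x85992c) (.leaf 0x0))) (.node (.node (.leaf 0xdb2dd6d9) (.leaf 0x574b759)) (.node (.leaf 0x5321) (.leaf 0x0)))) (.node (.node (.node (.leaf 0x1985b74b) (.leaf 0x2b2d992c)) (.node (.leaf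 0xb0b759) (.leaf 0x0))) (.node (.node (.leaf 0x10badbad9) (.leaf 0x0)) (.node (.leaf 0x6594b) (.leaf 0x0))))))) (.node (.node (.node (.node (.node (.node (.leaf 0x2e96d9) (.leaf 0x242dbb0c)) (.node (.leaf 0x6eb65b2d9) (.leaf 0x0))) (.node (.node (.leaf 0x1d90b2d9) (.leaf 0x12b6cb74c)) (.node (.leaf 0x29864ad9) (.leaf 0x0)))) (.node (.node (.node (.leaf 0x2596594c) (.leaf 0x192cb0c)) (.node (.leaf 0x94b759) (.leaf 0x0))) (.node (.node (.leaf 0x4aeb74b) (.leaf 0x185d6ec)) (.node (.leaf 0x2bacc861) (.leaf 0x0))))) (.node (.node (.node (.node (.leaf 0x2b321864) (.leaf 0x565d759)) (.node (.leaf 0xdd74b759) (.leaf 0x0))) (.node (.node (.leaf 0x5d90c94b) (.leaf 0x12b665659)) (.node (.leaf 0x3b2530c) (.leaf 0x0)))) (.node (.node (.node (.leaf 0x6cb321) (.leaf 0x2594b)) (.node (.leaf 0x216dd6ec) (.leaf 0x0))) (.node (.node (.leaf 0x10b664) (.leaf 0x0)) (.node (.leaf 0x530c859) (.leaf 0x0)))))) (.node (.node (.node (.node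 (.node (.leaf 0x652d9) (.leaf 0xdd6d9)) (.node (.leaf 0x2c2cb65b) (.leaf 0x0))) (.node (.node (.leaf 0xdbadb321) (.leaf 0x12992b759)) (.node (.leaf 0x6dd74c321) (.leaf 0x0)))) (.node (.node (.node (.leaf 0xdd74c321) (.leaf 0x32dd859)) (.node (.leaf 0x15d659) (.leaf 0x0))) (.node (.node (.leaf 0x494c959) (.leaf 0x0)) (.node (.leaf 0x1596eb2cc) (.leaf 0x0))))) (.node (.node (.node (.node (.leaf 0x3659759) (.leaf 0x1652d9661)) (.node (.leaf 0x2574b2d9) (.leaf 0x0))) (.node (.node (.leaf 0x4a5d759) (.leaf 0x12c8596ec)) (.node (.leaf 0x2974b2d9) (.leaf 0x0)))) (.node (.node (.node (.leaf 0x1658652d9) (.leaf 0x2c2ec861)) (.node (.leaf 0x325959) (.leaf 0x0))) (.node (.node (.leaf 0x15d6dd6d9) (.leaf 0x0)) (.node (.leaf 0x174c959) (.leaf 0x0))))))))) (.node (.node (.node (.node (.node (.node (.node (.node (.leaf 0x1b32b659) (.leaf 0xa5b65b)) (.node (.leaf 0x25929659) (.leaf 0x0))) (.node (.node (.leaf 0x30b2cc) (.leaf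 0x14b2dd864)) (.node (.leaf 0x330c321) (.leaf 0x0)))) (.node (.node (.node (.leaf 0x6dd959) (.leaf 0xaec32c)) (.node (.leaf 0x1d96430c) (.leaf 0x0))) (.node (.node (.leaf 0x2bb25859) (.leaf 0xeba64321)) (.node (.leaf 0x2e96e9659) (.leaf 0x0))))) (.node (.node (.node (.node (.leaf 0xb66432c) (.leaf 0xeb74bad9)) (.node (.leaf 0x16dd659) (.leaf 0x0))) (.node (.node (.leaf 0xdba5b759) (.leaf 0x1bacb2d9)) (.node (.leaf 0xeb2d992c) (.leaf 0x0)))) (.node (.node (.node (.leaf 0x30b6eb659) (.leaf 0xec30bad9)) (.node (.leaf 0x4a5bad9) (.leaf 0x0))) (.node (.node (.leaf 0x656cbadb) (.leaf 0x0)) (.node (.leaf 0x2c32b759) (.leaf 0x0)))))) (.node (.node (.node (.node (.node (.leaf 0x90c861659) (.leaf 0x15b74c859)) (.node (.leaf 0x3ae96d9) (.leaf 0x0))) (.node (.node (.leaf 0x1965d2d9) (.leaf 0x12ba64321)) (.node (.leaf 0xeb765659) (.leaf 0x0)))) (.node (.node (.node (.leaf 0x1b764adb) (.leaf 0x52ccb21)) (.node (.leaf 0x12c2eb759)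 (.leaf 0x0))) (.node (.node (.leaf 0xc30c864) (.leaf 0x0)) (.node (.leaf 0xcaeb759) (.leaf 0x0))))) (.node (.node (.node (.node (.leaf 0x175965b) (.leaf 0x2bb296d9)) (.node (.leaf 0x594b6ec) (.leaf 0x0))) (.node (.node (.leaf 0x6585b) (.leaf 0x24b0c)) (.node (.leaf 0x14bacc2d9) (.leaf 0x0)))) (.node (.node (.node (.leaf 0x10b30c321) (.leaf 0x592cb21)) (.node (.leaf 0x2cadba59) (.leaf 0x0))) (.node (.node (.leaf 0x15d2eb2d9) (.leaf 0x0)) (.node (.leaf 0x2cc94b) (.leaf 0x0))))))) (.node (.node (.node (.node (.node (.node (.leaf 0x2b30b759) (.leaf 0x85b2cc)) (.node (.leaf 0x965861) (.leaf 0x0))) (.node (.node (.leaf 0xa5b2ccb21) (.leaf 0xb2532c)) (.node (.leaf 0xacba5b759) (.leaf 0x0)))) (.node (.node (.node (.leaf 0x374b) (.leaf 0x65964a59)) (.node (.leaf 0x332b6ec) (.leaf 0x0))) (.node (.node (.leaf 0x32bad9) (.leaf 0x2b32c94c)) (.node (.leaf 0x4965659) (.leaf 0x0))))) (.node (.node (.node (.node (.leaf 0x8596ec)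 (.leaf 0x15d94b2d9)) (.node (.leaf 0x12cb2c) (.leaf 0x0))) (.node (.node (.leaf 0xc2db) (.leaf 0x865321)) (.node (.leaf 0x16eba59) (.leaf 0x0)))) (.node (.node (.node (.leaf 0x2b75d74b) (.leaf 0x16dd861)) (.node (.leaf 0x2ebadb) (.leaf 0x0))) (.node (.node (.leaf 0x4859) (.leaf 0x0)) (.node (.leaf 0x216e96ec) (.leaf 0x0)))))) (.node (.node (.node (.node (.node (.leaf 0xb329959) (.leaf 0x96594b)) (.node (.leaf 0x3a59759) (.leaf 0x0))) (.node (.node (.leaf 0x964b2c) (.leaf 0x2bb2594b)) (.node (.leaf 0x2cc321) (.leaf 0x0)))) (.node (.node (.node (.leaf 0xd9664) (.leaf 0x2975b659)) (.node (.leaf 0xebae9659) (.leaf 0x0))) (.node (.node (.leaf 0xb2dd659) (.leaf 0x0)) (.node (.leaf 0x3219656d9) (.leaf 0x0))))) (.node (.node (.node (.node (.leaf 0x216d994c) (.leaf 0x1bb2194c)) (.node (.leaf 0x2b74cb21) (.leaf 0x0))) (.node (.node (.leaf 0x1b65bb21) (.leaf 0x656cc321)) (.node (.leaf 0xadd74b759) (.leaf 0x0)))) (.node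 (.node (.node (.leaf 0x6cc861759) (.leaf 0x65864)) (.node (.leaf 0xdd2eba59) (.leaf 0x0))) (.node (.node (.leaf 0x8656cba59) (.leaf 0x0)) (.node (.leaf 0x36ec861) (.leaf 0x0)))))))) (.node (.node (.node (.node (.node (.node (.node (.leaf 0xbadb) (.leaf 0x4b0bad9)) (.node (.leaf 0x865859) (.leaf 0x0))) (.node (.node (.leaf 0x190b659) (.leaf 0x5965bb0c)) (.node (.leaf 0x4864ad9) (.leaf 0x0)))) (.node (.node (.node (.leaf 0x19664b21) (.leaf 0x10c965659)) (.node (.leaf 0x15d9616d9) (.leaf 0x0))) (.node (.node (.leaf 0x29659) (.leaf 0x21929959)) (.node (.leaf 0x12965b659) (.leaf 0x0))))) (.node (.node (.node (.node (.leaf 0x16dd321) (.leaf 0x14c959)) (.node (.leaf 0x2574b74c) (.leaf 0x0))) (.node (.node (.leaf 0x2cb2c2d9) (.leaf 0x1b2dbad9)) (.node (.leaf 0xdb30b759) (.leaf 0x0)))) (.node (.node (.node (.leaf 0x49596ec) (.leaf 0xdd9616d9)) (.node (.leaf 0x4b2b2cc) (.leaf 0x0))) (.node (.node (.leaf 0x25965959) (.leaf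 0x0)) (.node (.leaf 0xb2cad9) (.leaf 0x0)))))) (.node (.node (.node (.node (.node (.leaf 0x4325959) (.leaf 0xb65d759)) (.node (.leaf 0x1baccad9) (.leaf 0x0))) (.node (.node (.leaf 0x6165badb) (.leaf 0x29959)) (.node (.leaf 0x864b2c) (.leaf 0x0)))) (.node (.node (.node (.leaf 0x198616d9) (.leaf 0x495d2d9)) (.node (.leaf 0x2baebad9) (.leaf 0x0))) (.node (.node (.leaf 0x1b65b) (.leaf 0x0)) (.node (.leaf 0x15d759759) (.leaf 0x0))))) (.node (.node (.node (.node (.leaf 0x256dd6d9) (.leaf 0xaeb65b)) (.node (.leaf 0xb29929659) (.leaf 0x0))) (.node (.node (.leaf 0x3296ec) (.leaf 0x1296ccad9)) (.node (.leaf 0x12974bad9) (.leaf 0x0)))) (.node (.node (.node (.leaf 0xec95b65b) (.leaf 0xdd6d9664)) (.node (.leaf 0x432cb21) (.leaf 0x0))) (.node (.node (.leaf 0x125659) (.leaf 0x0)) (.node (.leaf 0xb65bb0c) (.leaf 0x0))))))) (.node (.node (.node (.node (.node (.node (.leaf 0x19764ad9) (.leaf 0xeb321)) (.node (.leaf 0x30c861759)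 (.leaf 0x0))) (.node (.node (.leaf 0xec96194c) (.leaf 0x2c2eb661)) (.node (.leaf 0xdd90b2d9) (.leaf 0x0)))) (.node (.node (.node (.leaf 0x5b2d9659) (.leaf 0x196ec)) (.node (.leaf 0x1b2dba59) (.leaf 0x0))) (.node (.node (.leaf 0x2990bad9) (.leaf 0x1974b6ec)) (.node (.leaf 0x3a6532c) (.leaf 0x0))))) (.node (.node (.node (.node (.leaf 0x2eb2d9) (.leaf 0x1d2dbb21)) (.node (.leaf 0x125959) (.leaf 0x0))) (.node (.node (.leaf 0x15d6ecad9) (.leaf 0x2b321)) (.node (.leaf 0x1658616d9) (.leaf 0x0)))) (.node (.node (.node (.leaf 0x42cc859) (.leaf 0x10b761659)) (.node (.leaf 0x2992b2d9) (.leaf 0x0))) (.node (.node (.leaf 0x58656d9) (.leaf 0x0)) (.node (.leaf 0xbad992c) (.leaf 0x0)))))) (.node (.node (.node (.node (.node (.leaf 0x174b2db) (.leaf 0x15d6656d9)) (.node (.leaf 0x92cad9) (.leaf 0x0))) (.node (.node (.leaf 0x961861) (.leaf 0x175b74c)) (.node (.leaf 0x1296ec) (.leaf 0x0)))) (.node (.node (.node (.leaf 0x3a64b21)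 (.leaf 0x495b759)) (.node (.leaf 0x56ec32c) (.leaf 0x0))) (.node (.node (.leaf 0xd974b74b) (.leaf 0x0)) (.node (.leaf 0x76594c) (.leaf 0x0))))) (.node (.node (.node (.node (.leaf 0xec961759) (.leaf 0xebb2c859)) (.node (.leaf 0x2b661) (.leaf 0x0))) (.node (.node (.leaf 0x14b6cc861) (.leaf 0x30b6ec)) (.node (.leaf 0x374c959) (.leaf 0x0)))) (.node (.node (.node (.leaf 0x14ca656d9) (.leaf 0xb664b21)) (.node (.leaf 0x36eb664) (.leaf 0x0))) (.node (.node (.leaf 0xcb74bad9) (.leaf 0x0)) (.node (.leaf 0x56e9759) (.leaf 0x0))))))))))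

/-- data -/
def clsT7 : Cfsg.Agent.HN.Trie :=
  (.node (.node (.node (.node (.node (.node (.node (.node (.node (.leaf 0x485d759) (.leaf 0xbaeb65b)) (.node (.leaf 0x12c32bad9) (.leaf 0x0))) (.node (.node (.leaf 0x574c85d659) (.leaf 0x574b2cc)) (.node (.leaf 0xb2cb65b) (.leaf 0x0)))) (.node (.node (.node (.leaf 0x1964b0b6ec) (.leaf 0x14b6eb659)) (.node (.leaf 0x129959) (.leaf 0x0))) (.node (.node (.leaf 0xd9665321) (.leaf 0x961659)) (.node (.leaf 0x2596594b) (.leaf 0x0))))) (.node (.node (.node (.node (.leaf 0xc32b759) (.leaf 0x575d2d9)) (.node (.leaf 0x74b74c) (.leaf 0x0))) (.node (.node (.leaf 0xa64adb) (.leaf 0x2994c321)) (.node (.leaf 0x14b74b759) (.leaf 0x0)))) (.node (.node (.node (.leaf 0x592b2cc) (.leaf 0x3aec32c)) (.node (.leaf 0xdd92994c) (.leaf 0x0))) (.node (.node (.leaf 0x2dd85b) (.leaf 0x0)) (.node (.leaf 0xb0c2eb2d9) (.leaf 0x0)))))) (.node (.node (.node (.node (.node (.leaf 0xca64b21) (.leaf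 0x12186594b)) (.node (.leaf 0x25759) (.leaf 0x0))) (.node (.node (.leaf 0x92b6cb74c) (.leaf 0x15d9656d9)) (.node (.leaf 0x14c2d9) (.leaf 0x0)))) (.node (.node (.node (.leaf 0x190b2d9) (.leaf 0x3ae992c)) (.node (.leaf 0x296d992c) (.leaf 0x0))) (.node (.node (.leaf 0x6eb32c94c) (.leaf 0xd9865959)) (.node (.leaf 0x2192b661) (.leaf 0x0))))) (.node (.node (.node (.node (.leaf 0x6d965b) (.leaf 0x32b759)) (.node (.leaf 0x10c85992c) (.leaf 0x0))) (.node (.node (.leaf 0x5bad9659) (.leaf 0x2dd66192c)) (.node (.leaf 0xaec861) (.leaf 0x0)))) (.node (.node (.node (.leaf 0xcc2d9) (.leaf 0x65d75b2cc)) (.node (.leaf 0x6ec861) (.leaf 0x0))) (.node (.node (.leaf 0x1d32c94b) (.leaf 0x0)) (.node (.leaf 0x129961759) (.leaf 0x0))))))) (.node (.node (.node (.node (.node (.node (.leaf 0x1d92c859) (.leaf 0xe990b659)) (.node (.leaf 0x12b75d861) (.leaf 0x0))) (.node (.node (.leaf 0xdb2cc) (.leaf 0xcaeb)) (.node (.leaf 0x5b2ccb21) (.leaf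 0x0)))) (.node (.node (.node (.leaf 0x256cbad9) (.leaf 0x32185badb)) (.node (.leaf 0x16ec2d9) (.leaf 0x0))) (.node (.node (.leaf 0x1d6dd959) (.leaf 0x4ad9661)) (.node (.leaf 0x1d74c321) (.leaf 0x0))))) (.node (.node (.node (.node (.leaf 0x2b65badb) (.leaf 0xeb74b)) (.node (.leaf 0x75992c) (.leaf 0x0))) (.node (.node (.leaf 0x2e9759659) (.leaf 0x58596ec)) (.node (.leaf 0x36ec2cb759) (.leaf 0x0)))) (.node (.node (.node (.leaf 0x6592b321) (.leaf 0x75b32c)) (.node (.leaf 0x6592c) (.leaf 0x0))) (.node (.node (.leaf 0x6cb74b659) (.leaf 0x0)) (.node (.leaf 0x199656d9) (.leaf 0x0)))))) (.node (.node (.node (.node (.node (.leaf 0x9616ec) (.leaf 0x16594b321)) (.node (.leaf 0xdd2cb2d9) (.leaf 0x0))) (.node (.node (.leaf 0x1257596d9) (.leaf 0x6616ec)) (.node (.leaf 0x6d9659) (.leaf 0x0)))) (.node (.node (.node (.leaf 0xdb2cb2d9) (.leaf 0x532594b)) (.node (.leaf 0x965759) (.leaf 0x0))) (.node (.node (.leaf 0x12c2cb2d9)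 (.leaf 0x0)) (.node (.leaf 0xad9664) (.leaf 0x0))))) (.node (.node (.node (.node (.leaf 0x1652cb2d9) (.leaf 0x1baeb321)) (.node (.leaf 0x592bad9) (.leaf 0x0))) (.node (.node (.leaf 0xec321) (.leaf 0xaeb2dd6d9)) (.node (.leaf 0x190c32c) (.leaf 0x0)))) (.node (.node (.node (.leaf 0x1256ccad9) (.leaf 0xe96dd864)) (.node (.leaf 0x3b2c859) (.leaf 0x0))) (.node (.node (.leaf 0x7642eb759) (.leaf 0x0)) (.node (.leaf 0x16dd864) (.leaf 0x0)))))))) (.node (.node (.node (.node (.node (.node (.node (.leaf 0x1b32c) (.leaf 0xa65959)) (.node (.leaf 0x75b661) (.leaf 0x0))) (.node (.node (.leaf 0x585d6d9) (.leaf 0x375d2d9)) (.node (.leaf 0x194c859) (.leaf 0x0)))) (.node (.node (.node (.leaf 0x30c85b) (.leaf 0x94b65b)) (.node (.leaf 0x1bad9) (.leaf 0x0))) (.node (.node (.leaf 0x12c) (.leaf 0xb665321)) (.node (.leaf 0x6eb2d9) (.leaf 0x0))))) (.node (.node (.node (.node (.leaf 0x6656d9659) (.leaf 0x1d761659)) (.node (.leaf 0x374b659)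 (.leaf 0x0))) (.node (.node (.leaf 0x330c864) (.leaf 0x4add659)) (.node (.leaf 0x4a6194c) (.leaf 0x0)))) (.node (.node (.node (.leaf 0x592cad9) (.leaf 0x42ebad9)) (.node (.leaf 0xeb761659) (.leaf 0x0))) (.node (.node (.leaf 0xbb2594c) (.leaf 0x0)) (.node (.leaf 0x5bb2c) (.leaf 0x0)))))) (.node (.node (.node (.node (.node (.leaf 0x2eb30c85b) (.leaf 0x16eb2cc)) (.node (.leaf 0xcb665859) (.leaf 0x0))) (.node (.node (.leaf 0x29961759) (.leaf 0x2590b661)) (.node (.leaf 0x14c2cb2d9) (.leaf 0x0)))) (.node (.node (.node (.leaf 0x6192c859) (.leaf 0x2574bad9)) (.node (.leaf 0x24b2cb21) (.leaf 0x0))) (.node (.node (.leaf 0x1b2d9659) (.leaf 0x0)) (.node (.leaf 0x3add90b2d9) (.leaf 0x0))))) (.node (.node (.node (.node (.leaf 0x2995b661) (.leaf 0x29864)) (.node (.leaf 0x6dd6d9) (.leaf 0x0))) (.node (.node (.leaf 0x2c95b661) (.leaf 0x10bad9661)) (.node (.leaf 0x10c2e96ec) (.leaf 0x0)))) (.node (.node (.node (.leaf 0x196eb661)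 (.leaf 0x3665859)) (.node (.leaf 0x5bb0c) (.leaf 0x0))) (.node (.node (.leaf 0xaec85d6d9) (.leaf 0x0)) (.node (.leaf 0x2cc32c) (.leaf 0x0))))))) (.node (.node (.node (.node (.node (.node (.leaf 0x175b661) (.leaf 0x595d759)) (.node (.leaf 0xdd665659) (.leaf 0x0))) (.node (.node (.leaf 0x6dd94b659) (.leaf 0x7656d9864)) (.node (.leaf 0xec94b) (.leaf 0x0)))) (.node (.node (.node (.leaf 0xb6eb664) (.leaf 0x64b29659)) (.node (.leaf 0x432b759) (.leaf 0x0))) (.node (.node (.leaf 0x3adb32c) (.leaf 0xcb2c2d9)) (.node (.leaf 0xa5b2cc) (.leaf 0x0))))) (.node (.node (.node (.node (.leaf 0x164a59) (.leaf 0x219616d9)) (.node (.leaf 0x24b2194c) (.leaf 0x0))) (.node (.node (.leaf 0x2b30c321) (.leaf 0x1616cba59)) (.node (.leaf 0x964ad9661) (.leaf 0x0)))) (.node (.node (.node (.leaf 0x4861659) (.leaf 0x2b74b759)) (.node (.leaf 0x6430b759) (.leaf 0x0))) (.node (.node (.leaf 0x2d9659) (.leaf 0x0)) (.node (.leaf 0x6195d659) (.leaf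 0x0)))))) (.node (.node (.node (.node (.node (.leaf 0x218656d9) (.leaf 0x1b65992c)) (.node (.leaf 0xb0b30c) (.leaf 0x0))) (.node (.node (.leaf 0x5bacc2d9) (.leaf 0x2bb2b759)) (.node (.leaf 0x5d90cb21) (.leaf 0x0)))) (.node (.node (.node (.leaf 0x1990b2d9) (.leaf 0xdd30c859)) (.node (.leaf 0x2594c) (.leaf 0x0))) (.node (.node (.leaf 0x94b2d9) (.leaf 0x0)) (.node (.leaf 0x15b661) (.leaf 0x0))))) (.node (.node (.node (.node (.leaf 0xcb74c321) (.leaf 0x2594c859)) (.node (.leaf 0x6ec2cb759) (.leaf 0x0))) (.node (.node (.leaf 0x485b) (.leaf 0x95d65b659)) (.node (.leaf 0x42dba59) (.leaf 0x0)))) (.node (.node (.node (.leaf 0x92b65b2d9) (.leaf 0x174b74b)) (.node (.leaf 0xdd7596d9) (.leaf 0x0))) (.node (.node (.leaf 0x861759) (.leaf 0x0)) (.node (.leaf 0x299616d9) (.leaf 0x0))))))))) (.node (.node (.node (.node (.node (.node (.node (.node (.leaf 0x19661864) (.leaf 0x665959)) (.node (.leaf 0xdd6ccb0c) (.leaf 0x0))) (.node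 (.node (.leaf 0x165664) (.leaf 0x2c959659)) (.node (.leaf 0x32d9659) (.leaf 0x0)))) (.node (.node (.node (.leaf 0x242eb759) (.leaf 0x174c32c)) (.node (.leaf 0xcaeb321) (.leaf 0x0))) (.node (.node (.leaf 0x4a59759) (.leaf 0x242e96d9)) (.node (.leaf 0x2ba5b659) (.leaf 0x0))))) (.node (.node (.node (.node (.leaf 0x1759661) (.leaf 0xeb2d9)) (.node (.leaf 0x594c94b) (.leaf 0x0))) (.node (.node (.leaf 0x10c85b) (.leaf 0x42dd2db)) (.node (.leaf 0x6cb6ec) (.leaf 0x0)))) (.node (.node (.node (.leaf 0x14c30bad9) (.leaf 0xaecb0b659)) (.node (.leaf 0x1b75b759) (.leaf 0x0))) (.node (.node (.leaf 0xdbb2594b) (.leaf 0x0)) (.node (.leaf 0x65ba5b659) (.leaf 0x0)))))) (.node (.node (.node (.node (.node (.leaf 0x4321664) (.leaf 0x1d3256d9)) (.node (.leaf 0x2985d659) (.leaf 0x0))) (.node (.node (.leaf 0x2992cb21) (.leaf 0x4b2cb0c)) (.node (.leaf 0x12992b2d9) (.leaf 0x0)))) (.node (.node (.node (.leaf 0x658642d9) (.leaf 0x12ba5d759))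 (.node (.leaf 0x485d6eb659) (.leaf 0x0))) (.node (.node (.leaf 0xacb6eb659) (.leaf 0x0)) (.node (.leaf 0xb256d9) (.leaf 0x0))))) (.node (.node (.node (.node (.leaf 0x1d66532c) (.leaf 0x94c32c)) (.node (.leaf 0x75b765321) (.leaf 0x0))) (.node (.node (.leaf 0x196dd664) (.leaf 0x432cad9)) (.node (.leaf 0x2b65d2db) (.leaf 0x0)))) (.node (.node (.node (.leaf 0x2cc85b) (.leaf 0x21965959)) (.node (.leaf 0xadd759) (.leaf 0x0))) (.node (.node (.leaf 0x10c3256d9) (.leaf 0x0)) (.node (.leaf 0x4b29864) (.leaf 0x0))))))) (.node (.node (.node (.node (.node (.node (.leaf 0x94b6ec) (.leaf 0xcb2992c)) (.node (.leaf 0x65badb32c) (.leaf 0x0))) (.node (.node (.leaf 0xeb74b659) (.leaf 0xb218642d9)) (.node (.leaf 0x2b75b2cc) (.leaf 0x0)))) (.node (.node (.node (.leaf 0x1bb0c) (.leaf 0x1642eb759)) (.node (.leaf 0xb75b661) (.leaf 0x0))) (.node (.node (.leaf 0xdd761959) (.leaf 0x4b2cad9)) (.node (.leaf 0x165992c) (.leaf 0x0))))) (.node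 (.node (.node (.node (.leaf 0x4a5d659) (.leaf 0x2592b659)) (.node (.leaf 0x486594b) (.leaf 0x0))) (.node (.node (.leaf 0x90c861) (.leaf 0x95d30c)) (.node (.leaf 0x10cadd664) (.leaf 0x0)))) (.node (.node (.node (.leaf 0xcb0c94b) (.leaf 0xcb6ec94c)) (.node (.leaf 0x5d6ec) (.leaf 0x0))) (.node (.node (.leaf 0x4321) (.leaf 0x0)) (.node (.leaf 0xdbb2c) (.leaf 0x0)))))) (.node (.node (.node (.node (.node (.leaf 0x665859) (.leaf 0xc2dba59)) (.node (.leaf 0x16192c2d9) (.leaf 0x0))) (.node (.node (.leaf 0x1d92994c) (.leaf 0x1216dd6ec)) (.node (.leaf 0x4864321) (.leaf 0x0)))) (.node (.node (.node (.leaf 0x90b2d9659) (.leaf 0x12cb0c85b)) (.node (.leaf 0x764a5d659) (.leaf 0x0))) (.node (.node (.leaf 0x14c32c30c) (.leaf 0x0)) (.node (.leaf 0x196430c) (.leaf 0x0))))) (.node (.node (.node (.node (.leaf 0x5d6d9) (.leaf 0xb2cb21)) (.node (.leaf 0x5994c94b) (.leaf 0x0))) (.node (.node (.leaf 0x25861759) (.leaf 0xa5badb)) (.node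 (.leaf 0x2174b2d9) (.leaf 0x0)))) (.node (.node (.node (.leaf 0x10c861759) (.leaf 0xe992b321)) (.node (.leaf 0x3b0c859) (.leaf 0x0))) (.node (.node (.leaf 0x1965959) (.leaf 0x0)) (.node (.leaf 0x56dd6ec) (.leaf 0x0)))))))) (.node (.node (.node (.node (.node (.node (.node (.leaf 0x864adb) (.leaf 0x532c321)) (.node (.leaf 0x2175bad9) (.leaf 0x0))) (.node (.node (.leaf 0xcb0b659) (.leaf 0x2195b2cc)) (.node (.leaf 0x1bb21) (.leaf 0x0)))) (.node (.node (.node (.leaf 0x195d6eb659) (.leaf 0x1d6dd6d9)) (.node (.leaf 0x5965ba59) (.leaf 0x0))) (.node (.node (.leaf 0x365bb0c) (.leaf 0x485bad9)) (.node (.leaf 0x15d6ec) (.leaf 0x0))))) (.node (.node (.node (.node (.leaf 0x759659) (.leaf 0x2c32cad9)) (.node (.leaf 0x256eba59) (.leaf 0x0))) (.node (.node (.leaf 0xd9661864) (.leaf 0x36eb6ec)) (.node (.leaf 0x16595b2d9) (.leaf 0x0)))) (.node (.node (.node (.leaf 0xa5d861) (.leaf 0x10b759)) (.node (.leaf 0x6ecad9) (.leaf 0x0)))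 (.node (.node (.leaf 0x14b30c321) (.leaf 0x0)) (.node (.leaf 0xb0b659) (.leaf 0x0)))))) (.node (.node (.node (.node (.node (.leaf 0xadb) (.leaf 0x32c2d9)) (.node (.leaf 0x25864ad9) (.leaf 0x0))) (.node (.node (.leaf 0xec95b659) (.leaf 0x16cbadb)) (.node (.leaf 0x66190ba59) (.leaf 0x0)))) (.node (.node (.node (.leaf 0x16cb2d9) (.leaf 0x42e9759)) (.node (.leaf 0x4b2c85b) (.leaf 0x0))) (.node (.node (.leaf 0xa64ad9) (.leaf 0x0)) (.node (.leaf 0x2b30b2d9) (.leaf 0x0))))) (.node (.node (.node (.node (.leaf 0x1759659) (.leaf 0xdd321)) (.node (.leaf 0x19964adb) (.leaf 0x0))) (.node (.node (.leaf 0x5859661) (.leaf 0x174ba5b659)) (.node (.leaf 0x6e975b659) (.leaf 0x0)))) (.node (.node (.node (.leaf 0x192c859) (.leaf 0x92c30c)) (.node (.leaf 0x1992c864) (.leaf 0x0))) (.node (.node (.leaf 0x590c959) (.leaf 0x0)) (.node (.leaf 0x964b0c2d9) (.leaf 0x0))))))) (.node (.node (.node (.node (.node (.node (.leaf 0x21759759) (.leaf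 0x5661659)) (.node (.leaf 0x2bacb664) (.leaf 0x0))) (.node (.node (.leaf 0xc2e9759) (.leaf 0x74b65b)) (.node (.leaf 0x2eba59) (.leaf 0x0)))) (.node (.node (.node (.leaf 0x664321) (.leaf 0x36656d9)) (.node (.leaf 0xebb0b2d9) (.leaf 0x0))) (.node (.node (.leaf 0x24b0ba59) (.leaf 0x596e9759)) (.node (.leaf 0x32d992c) (.leaf 0x0))))) (.node (.node (.node (.node (.leaf 0x1b75d321) (.leaf 0xb2165b)) (.node (.leaf 0x2195b661) (.leaf 0x0))) (.node (.node (.leaf 0xb2caeb2d9) (.leaf 0xb0b661)) (.node (.leaf 0xb659759) (.leaf 0x0)))) (.node (.node (.node (.leaf 0x430c2d9) (.leaf 0x52cc859)) (.node (.leaf 0x2c30b659) (.leaf 0x0))) (.node (.node (.leaf 0xec321759) (.leaf 0x0)) (.node (.leaf 0x52dd6d9) (.leaf 0x0)))))) (.node (.node (.node (.node (.node (.leaf 0xadd85b) (.leaf 0x14b2eb659)) (.node (.leaf 0x16430c) (.leaf 0x0))) (.node (.node (.leaf 0x2530c) (.leaf 0x164ad9659)) (.node (.leaf 0xd99656d9) (.leaf 0x0)))) (.node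 (.node (.node (.leaf 0x1d30c864) (.leaf 0x6594b759)) (.node (.leaf 0x1d2cb664) (.leaf 0x0))) (.node (.node (.leaf 0x1b30b6ec) (.leaf 0x0)) (.node (.leaf 0xc30b759) (.leaf 0x0))))) (.node (.node (.node (.node (.leaf 0x296ccad9) (.leaf 0x24aeb664)) (.node (.leaf 0x485bb21) (.leaf 0x0))) (.node (.node (.leaf 0x2ca64ad9) (.leaf 0x296ec861)) (.node (.leaf 0x24b2ba59) (.leaf 0x0)))) (.node (.node (.node (.leaf 0xb6eb2cc) (.leaf 0x5325859)) (.node (.leaf 0x10c959) (.leaf 0x0))) (.node (.node (.leaf 0x3b0c85b) (.leaf 0x0)) (.node (.leaf 0xbaccb21) (.leaf 0x0))))))))))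

/-- data -/
def clsT8 : Cfsg.Agent.HN.Trie :=
  (.node (.node (.node (.node (.node (.node (.node (.node (.node (.leaf 0x596430c) (.leaf 0x64329659)) (.node (.leaf 0x198656d9) (.leaf 0x0))) (.node (.node (.leaf 0xa5992cad9) (.leaf 0x2b65b661)) (.node (.leaf 0x190c859) (.leaf 0x0)))) (.node (.node (.node (.leaf 0x1d65d759) (.leaf 0xcb2194c)) (.node (.leaf 0x1b2eb6ec) (.leaf 0x0))) (.node (.node (.leaf 0xec2cba59) (.leaf 0xb66585b)) (.node (.leaf 0x9616cb2d9) (.leaf 0x0))))) (.node (.node (.node (.node (.leaf 0x365d2db) (.leaf 0x42dd30c859)) (.node (.leaf 0xaec959) (.leaf 0x0))) (.node (.node (.leaf 0xa5ba59) (.leaf 0x2995b759)) (.node (.leaf 0x6616eb659) (.leaf 0x0)))) (.node (.node (.node (.leaf 0xacb32585b) (.leaf 0x2cb74c321)) (.node (.leaf 0x12b74c) (.leaf 0x0))) (.node (.node (.leaf 0x16ec959) (.leaf 0x0)) (.node (.leaf 0x15d6dd864) (.leaf 0x0)))))) (.node (.node (.node (.node (.node (.leaf 0xc30b659) (.leaf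 0x2532c94b)) (.node (.leaf 0x1216eba59) (.leaf 0x0))) (.node (.node (.leaf 0xa616cb321) (.leaf 0x2165b74b)) (.node (.leaf 0xb0c2db) (.leaf 0x0)))) (.node (.node (.node (.leaf 0x1b321659) (.leaf 0xdd2e9759)) (.node (.leaf 0x16165bad9) (.leaf 0x0))) (.node (.node (.leaf 0x5d665861) (.leaf 0x330c94b)) (.node (.leaf 0x2186430b759) (.leaf 0x0))))) (.node (.node (.node (.node (.leaf 0x5d6cc861) (.leaf 0x2192c2d9)) (.node (.leaf 0x242dd66192c) (.leaf 0x0))) (.node (.node (.leaf 0x29664321) (.leaf 0x485badb)) (.node (.leaf 0x15d85b) (.leaf 0x0)))) (.node (.node (.node (.leaf 0x2b6ebad9) (.leaf 0x12bacb321)) (.node (.leaf 0xcc325759) (.leaf 0x0))) (.node (.node (.leaf 0x496194c) (.leaf 0x0)) (.node (.leaf 0x5994cb21) (.leaf 0x0))))))) (.node (.node (.node (.node (.node (.node (.leaf 0x5bb21864) (.leaf 0x861964adb)) (.node (.leaf 0x15b2dbad9) (.leaf 0x0))) (.node (.node (.leaf 0xb2db321) (.leaf 0x192c864)) (.node (.leaf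 0xdd92cad9) (.leaf 0x0)))) (.node (.node (.node (.leaf 0x1d759661) (.leaf 0xb665861)) (.node (.leaf 0x2dbadb) (.leaf 0x0))) (.node (.node (.leaf 0x8616eb321) (.leaf 0x1bb2b659)) (.node (.leaf 0xe9861) (.leaf 0x0))))) (.node (.node (.node (.node (.leaf 0x3321) (.leaf 0x4add6d9)) (.node (.leaf 0xaeb74b) (.leaf 0x0))) (.node (.node (.leaf 0x242d9664) (.leaf 0x1642dbad9)) (.node (.leaf 0xa6194c) (.leaf 0x0)))) (.node (.node (.node (.leaf 0x52dbadb) (.leaf 0xaebadb)) (.node (.leaf 0x4ae9759) (.leaf 0x0))) (.node (.node (.leaf 0x2cc864) (.leaf 0x0)) (.node (.leaf 0x5d75b2cc) (.leaf 0x0)))))) (.node (.node (.node (.node (.node (.leaf 0x2974b659) (.leaf 0xec2d9)) (.node (.leaf 0xb25861) (.leaf 0x0))) (.node (.node (.leaf 0xadb32c) (.leaf 0xdd759)) (.node (.leaf 0x3664321) (.leaf 0x0)))) (.node (.node (.node (.leaf 0x58596d9) (.leaf 0xb256cb321)) (.node (.leaf 0x565b2d9) (.leaf 0x0))) (.node (.node (.leaf 0x74c959)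 (.leaf 0x0)) (.node (.leaf 0x656cba59) (.leaf 0x0))))) (.node (.node (.node (.node (.leaf 0x2bacb2db) (.leaf 0x4964adb)) (.node (.leaf 0x1d6d9664) (.leaf 0x0))) (.node (.node (.leaf 0x42cc959) (.leaf 0x2cb74b759)) (.node (.leaf 0x90c32c) (.leaf 0x0)))) (.node (.node (.node (.leaf 0x94c861759) (.leaf 0x485b74b)) (.node (.leaf 0xdd94c) (.leaf 0x0))) (.node (.node (.leaf 0x12574b74c) (.leaf 0x0)) (.node (.leaf 0x7616ec) (.leaf 0x0)))))))) (.node (.node (.node (.node (.node (.node (.node (.leaf 0x432c) (.leaf 0x52cbadb)) (.node (.leaf 0x4adbb2c) (.leaf 0x0))) (.node (.node (.leaf 0xbae96ec) (.leaf 0xc32bad9)) (.node (.leaf 0x14c32c) (.leaf 0x0)))) (.node (.node (.node (.leaf 0xb2d9) (.leaf 0x2585d6d9)) (.node (.leaf 0x4b252db) (.leaf 0x0))) (.node (.node (.leaf 0xc964a59) (.leaf 0xec2dd6d9)) (.node (.leaf 0x64adbb21) (.leaf 0x0))))) (.node (.node (.node (.node (.leaf 0xbb216d9) (.leaf 0x1badd6d9)) (.node (.leaf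 0x6cb6eb659) (.leaf 0x0))) (.node (.node (.leaf 0x19661) (.leaf 0x42eb664)) (.node (.leaf 0x14b66192c) (.leaf 0x0)))) (.node (.node (.node (.leaf 0x430ba59) (.leaf 0x532532c)) (.node (.leaf 0x4aec85b) (.leaf 0x0))) (.node (.node (.leaf 0x2c2cc85b) (.leaf 0x0)) (.node (.leaf 0x5b2eb) (.leaf 0x0)))))) (.node (.node (.node (.node (.node (.leaf 0x2585badb) (.leaf 0x2c94c2d9)) (.node (.leaf 0x92c30b659) (.leaf 0x0))) (.node (.node (.leaf 0x64b2194c) (.leaf 0xdb30c959)) (.node (.leaf 0x430c85b) (.leaf 0x0)))) (.node (.node (.node (.leaf 0xacb661) (.leaf 0x2532c864)) (.node (.leaf 0x10cb2c2d9) (.leaf 0x0))) (.node (.node (.leaf 0x430c321) (.leaf 0x0)) (.node (.leaf 0x5ba5b759) (.leaf 0x0))))) (.node (.node (.node (.node (.leaf 0xb0c321) (.leaf 0x24adbad9)) (.node (.leaf 0x375b759) (.leaf 0x0))) (.node (.node (.leaf 0x530b759) (.leaf 0x65d6ec)) (.node (.leaf 0x52dd664) (.leaf 0x0)))) (.node (.node (.node (.leaf 0x65bb0c)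 (.leaf 0x42eb759)) (.node (.leaf 0x15d65b2d9) (.leaf 0x0))) (.node (.node (.leaf 0x16590b659) (.leaf 0x0)) (.node (.leaf 0x4aeb664) (.leaf 0x0))))))) (.node (.node (.node (.node (.node (.node (.leaf 0x659861) (.leaf 0x5d65bb21)) (.node (.leaf 0x16cb759) (.leaf 0x0))) (.node (.node (.leaf 0x296cb321) (.leaf 0x196eb759)) (.node (.leaf 0x3b0c) (.leaf 0x0)))) (.node (.node (.node (.leaf 0x1d76592b659) (.leaf 0x92992c)) (.node (.leaf 0x532c85b) (.leaf 0x0))) (.node (.node (.leaf 0x14ba59) (.leaf 0xd96e9664)) (.node (.leaf 0x5d659759) (.leaf 0x0))))) (.node (.node (.node (.node (.leaf 0x2b66532c) (.leaf 0xecb0c)) (.node (.leaf 0x658596d9) (.leaf 0x0))) (.node (.node (.leaf 0x56dd759) (.leaf 0x1d6dd864)) (.node (.leaf 0x964b0b6ec) (.leaf 0x0)))) (.node (.node (.node (.leaf 0xcc864) (.leaf 0x56e96d9)) (.node (.leaf 0xc965659) (.leaf 0x0))) (.node (.node (.leaf 0x21661) (.leaf 0x0)) (.node (.leaf 0x74b659) (.leaf 0x0))))))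 (.node (.node (.node (.node (.node (.leaf 0x1bb29659) (.leaf 0x486532c)) (.node (.leaf 0x2592c859) (.leaf 0x0))) (.node (.node (.leaf 0x1929959) (.leaf 0x56cb65b)) (.node (.leaf 0x961959) (.leaf 0x0)))) (.node (.node (.node (.leaf 0x64321) (.leaf 0x7656d9)) (.node (.leaf 0x332cad9) (.leaf 0x0))) (.node (.node (.leaf 0x14c325664) (.leaf 0x0)) (.node (.leaf 0xb0ca596d9) (.leaf 0x0))))) (.node (.node (.node (.node (.leaf 0x2eb) (.leaf 0x656dd6d9)) (.node (.leaf 0x36ec30c) (.leaf 0x0))) (.node (.node (.leaf 0x30b661) (.leaf 0x196ebad9)) (.node (.leaf 0x2590c861) (.leaf 0x0)))) (.node (.node (.node (.leaf 0x194c861) (.leaf 0xba5bb0c)) (.node (.leaf 0x576592b659) (.leaf 0x0))) (.node (.node (.leaf 0x375ba59) (.leaf 0x0)) (.node (.leaf 0x52dd85b) (.leaf 0x0))))))))) (.node (.node (.node (.node (.node (.node (.node (.node (.leaf 0x10c861659) (.leaf 0x10c964aeb)) (.node (.leaf 0xaccb2cad9) (.leaf 0x0))) (.node (.node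 (.leaf 0x24adbb21) (.leaf 0x252cb759)) (.node (.leaf 0x195d759) (.leaf 0x0)))) (.node (.node (.node (.leaf 0x5d321) (.leaf 0xa6190c859)) (.node (.leaf 0x585d664) (.leaf 0x0))) (.node (.node (.leaf 0x56cb321) (.leaf 0x1974b)) (.node (.leaf 0x2b74c) (.leaf 0x0))))) (.node (.node (.node (.node (.leaf 0x765864) (.leaf 0x19865959)) (.node (.leaf 0x95b2cc) (.leaf 0x0))) (.node (.node (.leaf 0xb2592ba59) (.leaf 0x330c32c)) (.node (.leaf 0x4b0c859) (.leaf 0x0)))) (.node (.node (.node (.leaf 0x594b759) (.leaf 0x32194c)) (.node (.leaf 0x590c321) (.leaf 0x0))) (.node (.node (.leaf 0x1d665321) (.leaf 0x0)) (.node (.leaf 0xaeb2d9) (.leaf 0x0)))))) (.node (.node (.node (.node (.node (.leaf 0x1b2cc) (.leaf 0x12c961659)) (.node (.leaf 0x1d2e9759) (.leaf 0x0))) (.node (.node (.leaf 0x2b6eb2cc) (.leaf 0x219652d9)) (.node (.leaf 0x164b2cad9) (.leaf 0x0)))) (.node (.node (.node (.leaf 0x10b2cbad9) (.leaf 0x1990ba59)) (.node (.leaf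 0x36eb659) (.leaf 0x0))) (.node (.node (.leaf 0x65321) (.leaf 0x0)) (.node (.leaf 0x12cae9759) (.leaf 0x0))))) (.node (.node (.node (.node (.leaf 0x66530c) (.leaf 0xcb6ec)) (.node (.leaf 0x14cad9) (.leaf 0x0))) (.node (.node (.leaf 0x298656d9) (.leaf 0x494b)) (.node (.leaf 0xa65864) (.leaf 0x0)))) (.node (.node (.node (.leaf 0x10c2d9) (.leaf 0xaebad9)) (.node (.leaf 0x2badb30c) (.leaf 0x0))) (.node (.node (.leaf 0x2975d759) (.leaf 0x0)) (.node (.leaf 0x64ae96ec) (.leaf 0x0))))))) (.node (.node (.node (.node (.node (.node (.leaf 0x30b65b2d9) (.leaf 0x94cb0b2d9)) (.node (.leaf 0x16dd92c) (.leaf 0x0))) (.node (.node (.leaf 0x164b2ba59) (.leaf 0x36eb65b2d9)) (.node (.leaf 0xca5b759) (.leaf 0x0)))) (.node (.node (.node (.leaf 0x65d90c85b) (.leaf 0x2b32c859)) (.node (.leaf 0x495ba59) (.leaf 0x0))) (.node (.node (.leaf 0x216e9659) (.leaf 0x4325759)) (.node (.leaf 0x14c965659) (.leaf 0x0))))) (.node (.node (.node (.node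 (.leaf 0x1ba5d659) (.leaf 0x12592ba59)) (.node (.leaf 0x2b2e9664) (.leaf 0x0))) (.node (.node (.leaf 0x21) (.leaf 0x485d6d9)) (.node (.leaf 0x864acb2d9) (.leaf 0x0)))) (.node (.node (.node (.leaf 0x192994c) (.leaf 0xcb6ec861)) (.node (.leaf 0x74c2d9) (.leaf 0x0))) (.node (.node (.leaf 0x1216dd321) (.leaf 0x0)) (.node (.leaf 0x1d2d994c) (.leaf 0x0)))))) (.node (.node (.node (.node (.node (.leaf 0x1d929659) (.leaf 0x125864)) (.node (.leaf 0x6530c) (.leaf 0x0))) (.node (.node (.leaf 0x74b759) (.leaf 0x2530b659)) (.node (.leaf 0xeb2eb6ec) (.leaf 0x0)))) (.node (.node (.node (.leaf 0x495d6eb659) (.leaf 0x32992c859)) (.node (.leaf 0x2596192c) (.leaf 0x0))) (.node (.node (.leaf 0x375b32c) (.leaf 0x0)) (.node (.leaf 0x12165badb) (.leaf 0x0))))) (.node (.node (.node (.node (.leaf 0x2eb664) (.leaf 0x42eba59)) (.node (.leaf 0x75bb0c) (.leaf 0x0))) (.node (.node (.leaf 0xad96d9) (.leaf 0x6e96d9)) (.node (.leaf 0x36ec32c)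 (.leaf 0x0)))) (.node (.node (.node (.leaf 0xad994c) (.leaf 0x16165badb)) (.node (.leaf 0x85d759) (.leaf 0x0))) (.node (.node (.leaf 0xdd664) (.leaf 0x0)) (.node (.leaf 0xdbb21864) (.leaf 0x0)))))))) (.node (.node (.node (.node (.node (.node (.node (.leaf 0x90cad9) (.leaf 0x32c321)) (.node (.leaf 0x10c85d929659) (.leaf 0x0))) (.node (.node (.leaf 0x16d9659) (.leaf 0x2cba64321)) (.node (.leaf 0x56ec859) (.leaf 0x0)))) (.node (.node (.node (.leaf 0x74c85d659) (.leaf 0x5865321)) (.node (.leaf 0x5b32cb21) (.leaf 0x0))) (.node (.node (.leaf 0x6cb74b) (.leaf 0x21964b21)) (.node (.leaf 0x1d94b659) (.leaf 0x0))))) (.node (.node (.node (.node (.leaf 0x494c) (.leaf 0xdd75b664)) (.node (.leaf 0x2b6cb2d9) (.leaf 0x0))) (.node (.node (.leaf 0x2d9864) (.leaf 0x374c32c)) (.node (.leaf 0x32dd65b659) (.leaf 0x0)))) (.node (.node (.node (.leaf 0x14bb21) (.leaf 0x2b65d2d9)) (.node (.leaf 0x164aeb) (.leaf 0x0))) (.node (.node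 (.leaf 0x2cb2c85b) (.leaf 0x0)) (.node (.leaf 0x16594c) (.leaf 0x0)))))) (.node (.node (.node (.node (.node (.leaf 0xcb0b30c) (.leaf 0x15d2d9)) (.node (.leaf 0x1298616d9) (.leaf 0x0))) (.node (.node (.leaf 0xc865859) (.leaf 0x86592b659)) (.node (.leaf 0x9616cb321) (.leaf 0x0)))) (.node (.node (.node (.leaf 0x21664) (.leaf 0x1ba59)) (.node (.leaf 0x1642cb2d9) (.leaf 0x0))) (.node (.node (.leaf 0x3aeb321) (.leaf 0x0)) (.node (.leaf 0x16190b659) (.leaf 0x0))))) (.node (.node (.node (.node (.leaf 0xd96ec) (.leaf 0x85ba59)) (.node (.leaf 0x2985b2d9) (.leaf 0x0))) (.node (.node (.leaf 0x14c) (.leaf 0xdbaeb321)) (.node (.leaf 0x10b65d664) (.leaf 0x0)))) (.node (.node (.node (.leaf 0xc86532c) (.leaf 0x24aeb661)) (.node (.leaf 0x10cb21) (.leaf 0x0))) (.node (.node (.leaf 0x2d9759) (.leaf 0x0)) (.node (.leaf 0x12c94b) (.leaf 0x0))))))) (.node (.node (.node (.node (.node (.node (.leaf 0x90b2db) (.leaf 0x16cb74b)) (.node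 (.leaf 0x575b2cc) (.leaf 0x0))) (.node (.node (.leaf 0x3b0b2d9) (.leaf 0x6ebaccad9)) (.node (.leaf 0x10b75b759) (.leaf 0x0)))) (.node (.node (.node (.leaf 0x4861864) (.leaf 0xcb75b2cc)) (.node (.leaf 0x14cb2c30c) (.leaf 0x0))) (.node (.node (.leaf 0x374c861) (.leaf 0x56d9)) (.node (.leaf 0xc86594b) (.leaf 0x0))))) (.node (.node (.node (.node (.leaf 0x3acc861759) (.leaf 0x1b30b759)) (.node (.leaf 0xcbacc321) (.leaf 0x0))) (.node (.node (.leaf 0x6dd6ccad9) (.leaf 0x159861)) (.node (.leaf 0xb765859) (.leaf 0x0)))) (.node (.node (.node (.leaf 0x59659864) (.leaf 0x21961759)) (.node (.leaf 0xc2d9759) (.leaf 0x0))) (.node (.node (.leaf 0x565b321) (.leaf 0x0)) (.node (.leaf 0x216eb661) (.leaf 0x0)))))) (.node (.node (.node (.node (.node (.leaf 0x165bb21) (.leaf 0x32992c)) (.node (.leaf 0x5861759) (.leaf 0x0))) (.node (.node (.leaf 0x6e9659) (.leaf 0x2bb216d9)) (.node (.leaf 0x3296cb321) (.leaf 0x0)))) (.node (.node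 (.node (.leaf 0x1d6ec32c) (.leaf 0x36e975b659)) (.node (.leaf 0x216dd321) (.leaf 0x0))) (.node (.node (.leaf 0x24b0c864) (.leaf 0x0)) (.node (.leaf 0xcadd74b) (.leaf 0x0))))) (.node (.node (.node (.node (.leaf 0x2e990b659) (.leaf 0x14c32b759)) (.node (.leaf 0x32594b) (.leaf 0x0))) (.node (.node (.leaf 0x1bacc32c) (.leaf 0xc2e96d9)) (.node (.leaf 0x6cc2cb759) (.leaf 0x0)))) (.node (.node (.node (.leaf 0x296ccb21) (.leaf 0x10b6ec32c)) (.node (.leaf 0x6dd864) (.leaf 0x0))) (.node (.node (.leaf 0x1652d9) (.leaf 0x0)) (.node (.leaf 0x2e96ec) (.leaf 0x0))))))))))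

/-- data -/
def clsT9 : Cfsg.Agent.HN.Trie :=
  (.node (.node (.node (.node (.node (.node (.node (.node (.node (.leaf 0xecb2c321) (.leaf 0x2c95b65b)) (.node (.leaf 0x8652d9) (.leaf 0x0))) (.node (.node (.leaf 0x9296ec) (.leaf 0x92b6ec)) (.node (.leaf 0x1d2eb65b) (.leaf 0x0)))) (.node (.node (.node (.leaf 0x1b761659) (.leaf 0x590b74c)) (.node (.leaf 0x6ec32c) (.leaf 0x0))) (.node (.node (.leaf 0xcb2c30c) (.leaf 0x1b6596ec)) (.node (.leaf 0x1256cc321) (.leaf 0x0))))) (.node (.node (.node (.node (.leaf 0x4a616ec) (.leaf 0xb2b2d9)) (.node (.leaf 0x14b6ec864) (.leaf 0x0))) (.node (.node (.leaf 0xa5b759) (.leaf 0x36e9659)) (.node (.leaf 0x590c859) (.leaf 0x0)))) (.node (.node (.node (.leaf 0x2baccad9) (.leaf 0x2c8616d9)) (.node (.leaf 0x664325759) (.leaf 0x0))) (.node (.node (.leaf 0xdba5d659) (.leaf 0x0)) (.node (.leaf 0x56dd6ccad9) (.leaf 0x0)))))) (.node (.node (.node (.node (.node (.leaf 0x5b30c) (.leaf 0x575965b))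 (.node (.leaf 0x15b65d6d9) (.leaf 0x0))) (.node (.node (.leaf 0x12ba5b759) (.leaf 0x32b74b)) (.node (.leaf 0x590b2db) (.leaf 0x0)))) (.node (.node (.node (.leaf 0xb65b2d9) (.leaf 0x19865321)) (.node (.leaf 0x1992c2d9) (.leaf 0x0))) (.node (.node (.leaf 0x24b2cad9) (.leaf 0x1656eb2d9)) (.node (.leaf 0x85d65b2d9) (.leaf 0x0))))) (.node (.node (.node (.node (.leaf 0x575badb) (.leaf 0x3765659)) (.node (.leaf 0x2532b659) (.leaf 0x0))) (.node (.node (.leaf 0xb6eb659) (.leaf 0x30badbad9)) (.node (.leaf 0x5b2dbad9) (.leaf 0x0)))) (.node (.node (.node (.leaf 0x196530c) (.leaf 0x296eb659)) (.node (.leaf 0x24acbad9) (.leaf 0x0))) (.node (.node (.leaf 0x32574b6ec) (.leaf 0x0)) (.node (.leaf 0x194b659) (.leaf 0x0))))))) (.node (.node (.node (.node (.node (.node (.leaf 0xb30c32c) (.leaf 0x58616d9)) (.node (.leaf 0xa65659) (.leaf 0x0))) (.node (.node (.leaf 0xb2cb0c2d9) (.leaf 0x16174bad9)) (.node (.leaf 0xb759) (.leaf 0x0))))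 (.node (.node (.node (.leaf 0x566530c) (.leaf 0x3216dd321)) (.node (.leaf 0x6643256d9) (.leaf 0x0))) (.node (.node (.leaf 0x195b664) (.leaf 0x2c325759)) (.node (.leaf 0x3ad965b) (.leaf 0x0))))) (.node (.node (.node (.node (.leaf 0x10b661) (.leaf 0xdb32c)) (.node (.leaf 0x2c9616d9) (.leaf 0x0))) (.node (.node (.leaf 0xb661) (.leaf 0xec86594b)) (.node (.leaf 0x6d96eba59) (.leaf 0x0)))) (.node (.node (.node (.leaf 0x14b6ec) (.leaf 0x15d2ccb21)) (.node (.leaf 0x165badb) (.leaf 0x0))) (.node (.node (.leaf 0x96192c) (.leaf 0x0)) (.node (.leaf 0xa5d9656d9) (.leaf 0x0)))))) (.node (.node (.node (.node (.node (.leaf 0x10c2db) (.leaf 0x32192ba59)) (.node (.leaf 0x12192b659) (.leaf 0x0))) (.node (.node (.leaf 0x5bad9) (.leaf 0x196eba59)) (.node (.leaf 0x3216cb321) (.leaf 0x0)))) (.node (.node (.node (.leaf 0x10c861) (.leaf 0x25865864)) (.node (.leaf 0x6eb759) (.leaf 0x0))) (.node (.node (.leaf 0x14cb0cb21) (.leaf 0x0))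 (.node (.leaf 0x5659664) (.leaf 0x0))))) (.node (.node (.node (.node (.leaf 0x6652cb2d9) (.leaf 0x12592c)) (.node (.leaf 0xcc94b) (.leaf 0x0))) (.node (.node (.leaf 0xb74b2d9) (.leaf 0x1d65b659)) (.node (.leaf 0x2cb2594b) (.leaf 0x0)))) (.node (.node (.node (.leaf 0x1d6ccad9) (.leaf 0x1d325664)) (.node (.leaf 0x3b2c321) (.leaf 0x0))) (.node (.node (.leaf 0x42cb759) (.leaf 0x0)) (.node (.leaf 0xadbb29659) (.leaf 0x0)))))))) (.node (.node (.node (.node (.node (.node (.node (.leaf 0x95d659) (.leaf 0x2b75d861)) (.node (.leaf 0x15b32c) (.leaf 0x0))) (.node (.node (.leaf 0x330c) (.leaf 0x10ca656d9)) (.node (.leaf 0xadba5b659) (.leaf 0x0)))) (.node (.node (.node (.leaf 0xb6616eb659) (.leaf 0x2ca6592c)) (.node (.leaf 0x258656d9) (.leaf 0x0))) (.node (.node (.leaf 0x32590b2d9) (.leaf 0xaccb21)) (.node (.leaf 0x1656ec) (.leaf 0x0))))) (.node (.node (.node (.node (.leaf 0xb2b2cc) (.leaf 0x1b32585b)) (.node (.leaf 0x5d74c321)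 (.leaf 0x0))) (.node (.node (.leaf 0x24) (.leaf 0x2b)) (.node (.leaf 0x1d759) (.leaf 0x0)))) (.node (.node (.node (.leaf 0xc2eb6ec) (.leaf 0x196194c)) (.node (.leaf 0x959) (.leaf 0x0))) (.node (.node (.leaf 0x5965959) (.leaf 0x0)) (.node (.leaf 0x1616eb659) (.leaf 0x0)))))) (.node (.node (.node (.node (.node (.leaf 0x2165d2d9) (.leaf 0x92974bad9)) (.node (.leaf 0x24ae96d9) (.leaf 0x0))) (.node (.node (.leaf 0x2b2d9659) (.leaf 0x574b6ec)) (.node (.leaf 0x218642d9) (.leaf 0x0)))) (.node (.node (.node (.leaf 0x3a64321) (.leaf 0x6594c859)) (.node (.leaf 0x42e96ec) (.leaf 0x0))) (.node (.node (.leaf 0xdba5b659) (.leaf 0x0)) (.node (.leaf 0xcbb2c859) (.leaf 0x0))))) (.node (.node (.node (.node (.leaf 0x5d861) (.leaf 0x56d9864)) (.node (.leaf 0x6ec95d659) (.leaf 0x0))) (.node (.node (.leaf 0xbb296d9) (.leaf 0x5d9616d9)) (.node (.leaf 0x2cb2cad9) (.leaf 0x0)))) (.node (.node (.node (.leaf 0xadd2db) (.leaf 0xc32b659))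 (.node (.leaf 0x252eba59) (.leaf 0x0))) (.node (.node (.leaf 0x296cbad9) (.leaf 0x0)) (.node (.leaf 0x24b296d9) (.leaf 0x0))))))) (.node (.node (.node (.node (.node (.node (.leaf 0x1861659) (.leaf 0x175d321)) (.node (.leaf 0xc2eb2d9) (.leaf 0x0))) (.node (.node (.leaf 0x14c321) (.leaf 0x4b2c959)) (.node (.leaf 0x365badb) (.leaf 0x0)))) (.node (.node (.node (.leaf 0xb2dd2d9) (.leaf 0x164b2c)) (.node (.leaf 0x12192c2d9) (.leaf 0x0))) (.node (.node (.leaf 0x16ec861) (.leaf 0x166585b)) (.node (.leaf 0x52cb759) (.leaf 0x0))))) (.node (.node (.node (.node (.leaf 0x174b2cc) (.leaf 0x1d9616d9)) (.node (.leaf 0x4a64b21) (.leaf 0x0))) (.node (.node (.leaf 0x14b6ec861) (.leaf 0x199296d9)) (.node (.leaf 0x85bb2c) (.leaf 0x0)))) (.node (.node (.node (.leaf 0xcc85b) (.leaf 0x2b2e9759)) (.node (.leaf 0x5865864) (.leaf 0x0))) (.node (.node (.leaf 0x36616d9) (.leaf 0x0)) (.node (.leaf 0xb6ec859) (.leaf 0x0)))))) (.node (.node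 (.node (.node (.node (.leaf 0x2c2cbad9) (.leaf 0x3a5d6d9)) (.node (.leaf 0x432c864) (.leaf 0x0))) (.node (.node (.leaf 0x32c30bad9) (.leaf 0x4b0b759)) (.node (.leaf 0x1b65bb0c) (.leaf 0x0)))) (.node (.node (.node (.leaf 0xeb765321) (.leaf 0x5bb2c959)) (.node (.leaf 0x24b2c321) (.leaf 0x0))) (.node (.node (.leaf 0x12975d2d9) (.leaf 0x0)) (.node (.leaf 0x565d74b) (.leaf 0x0))))) (.node (.node (.node (.node (.leaf 0x74c) (.leaf 0xb21)) (.node (.leaf 0x10b74bad9) (.leaf 0x0))) (.node (.node (.leaf 0x1616eb321) (.leaf 0x42ec859)) (.node (.leaf 0xc2eb664) (.leaf 0x0)))) (.node (.node (.node (.leaf 0x42e96d9) (.leaf 0x65d92c)) (.node (.leaf 0x15b75b659) (.leaf 0x0))) (.node (.node (.leaf 0x6ec30c) (.leaf 0x0)) (.node (.leaf 0x258616d9) (.leaf 0x0))))))))) (.node (.node (.node (.node (.node (.node (.node (.node (.leaf 0x216cb321) (.leaf 0x2975badb)) (.node (.leaf 0x5d3256d9) (.leaf 0x0))) (.node (.node (.leaf 0x24aeb321)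 (.leaf 0x5b2dd659)) (.node (.leaf 0x2cb2d9659) (.leaf 0x0)))) (.node (.node (.node (.leaf 0x165d759) (.leaf 0x595b759)) (.node (.leaf 0x1d2eb2d9) (.leaf 0x0))) (.node (.node (.leaf 0x12b6ec861) (.leaf 0x24a61959)) (.node (.leaf 0x2595d2d9) (.leaf 0x0))))) (.node (.node (.node (.node (.leaf 0x3acc859) (.leaf 0x85d659)) (.node (.leaf 0x592b321) (.leaf 0x0))) (.node (.node (.leaf 0xcb659861) (.leaf 0x96594c)) (.node (.leaf 0x16585b) (.leaf 0x0)))) (.node (.node (.node (.leaf 0x15badbb21) (.leaf 0x4a5b759)) (.node (.leaf 0x1252cb2d9) (.leaf 0x0))) (.node (.node (.leaf 0x6e9864) (.leaf 0x0)) (.node (.leaf 0x164b29659) (.leaf 0x0)))))) (.node (.node (.node (.node (.node (.leaf 0xdb) (.leaf 0x15985b2d9)) (.node (.leaf 0x33256d9) (.leaf 0x0))) (.node (.node (.leaf 0x24b2594b) (.leaf 0x494b321)) (.node (.leaf 0x30b2db) (.leaf 0x0)))) (.node (.node (.node (.leaf 0xc94c959) (.leaf 0x161664)) (.node (.leaf 0x92995b759)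 (.leaf 0x0))) (.node (.node (.leaf 0xcb21) (.leaf 0x0)) (.node (.leaf 0x2430c94b) (.leaf 0x0))))) (.node (.node (.node (.node (.leaf 0x56cb661) (.leaf 0xeca5b759)) (.node (.leaf 0x375d6ec) (.leaf 0x0))) (.node (.node (.leaf 0x592c) (.leaf 0x64acb2d9)) (.node (.leaf 0x59864ad9) (.leaf 0x0)))) (.node (.node (.node (.leaf 0xcc95b659) (.leaf 0x56cc861)) (.node (.leaf 0x375b75b659) (.leaf 0x0))) (.node (.node (.leaf 0x92ba5b659) (.leaf 0x0)) (.node (.leaf 0x16ecad9) (.leaf 0x0))))))) (.node (.node (.node (.node (.node (.node (.leaf 0x9656ccad9) (.leaf 0xb6e9659)) (.node (.leaf 0x4b21864) (.leaf 0x0))) (.node (.node (.leaf 0x90badbad9) (.leaf 0x1b325759)) (.node (.leaf 0x3acb65b) (.leaf 0x0)))) (.node (.node (.node (.leaf 0xcba64321) (.leaf 0xd974b659)) (.node (.leaf 0x2c94c959) (.leaf 0x0))) (.node (.node (.leaf 0x65b74b659) (.leaf 0x2b65b2d9)) (.node (.leaf 0x6eb6eb659) (.leaf 0x0))))) (.node (.node (.node (.node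 (.leaf 0x36596ec) (.leaf 0x30cb21)) (.node (.leaf 0x242cc32c) (.leaf 0x0))) (.node (.node (.leaf 0x4) (.leaf 0x52dd861)) (.node (.leaf 0x15d2cba59) (.leaf 0x0)))) (.node (.node (.node (.leaf 0xcb2dd6d9) (.leaf 0x4acba59)) (.node (.leaf 0xcba5d6ec) (.leaf 0x0))) (.node (.node (.leaf 0x859861) (.leaf 0x0)) (.node (.leaf 0xe96cc32c) (.leaf 0x0)))))) (.node (.node (.node (.node (.node (.leaf 0xdd6656d9) (.leaf 0x37616eb659)) (.node (.leaf 0x530c) (.leaf 0x0))) (.node (.node (.leaf 0x59616d9) (.leaf 0xdd74b)) (.node (.leaf 0xcc859) (.leaf 0x0)))) (.node (.node (.node (.leaf 0x7642cb2d9) (.leaf 0xe99616d9)) (.node (.leaf 0x12b759) (.leaf 0x0))) (.node (.node (.leaf 0x2c96194c) (.leaf 0x0)) (.node (.leaf 0xa643256d9) (.leaf 0x0))))) (.node (.node (.node (.node (.leaf 0xadd659) (.leaf 0xeb65b)) (.node (.leaf 0x10cb0c85b) (.leaf 0x0))) (.node (.node (.leaf 0x1b759) (.leaf 0x2530c859)) (.node (.leaf 0xc30c959) (.leaf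 0x0)))) (.node (.node (.node (.leaf 0x2b6cb74c) (.leaf 0x1929864)) (.node (.leaf 0x2e992c) (.leaf 0x0))) (.node (.node (.leaf 0x6ec94b) (.leaf 0x0)) (.node (.leaf 0x1596d9) (.leaf 0x0)))))))) (.node (.node (.node (.node (.node (.node (.node (.leaf 0x16ec) (.leaf 0xc85d759)) (.node (.leaf 0x16d994c) (.leaf 0x0))) (.node (.node (.leaf 0x12165b321) (.leaf 0x3a64adb)) (.node (.leaf 0x29664) (.leaf 0x0)))) (.node (.node (.node (.leaf 0x15bae96d9) (.leaf 0x495bb0c)) (.node (.leaf 0x2965b32c) (.leaf 0x0))) (.node (.node (.leaf 0x7596d9) (.leaf 0x12b66530c)) (.node (.leaf 0x5761959) (.leaf 0x0))))) (.node (.node (.node (.node (.leaf 0x12594b) (.leaf 0x259616d9)) (.node (.leaf 0x14cb25664) (.leaf 0x0))) (.node (.node (.leaf 0x10b2d9659) (.leaf 0xcb759659)) (.node (.leaf 0x1d90c85b) (.leaf 0x0)))) (.node (.node (.node (.leaf 0x185d759) (.leaf 0x2186594b)) (.node (.leaf 0x24b2b759) (.leaf 0x0))) (.node (.node (.leaf 0x129964adb)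 (.leaf 0x0)) (.node (.leaf 0x94b2d9659) (.leaf 0x0)))))) (.node (.node (.node (.node (.node (.leaf 0x2e9659) (.leaf 0x94cb21)) (.node (.leaf 0x6656ec) (.leaf 0x0))) (.node (.node (.leaf 0xebacba59) (.leaf 0x2592994c)) (.node (.leaf 0x486432532c) (.leaf 0x0)))) (.node (.node (.node (.leaf 0xcb2d9659) (.leaf 0xcadd664)) (.node (.leaf 0x1d32b759) (.leaf 0x0))) (.node (.node (.leaf 0x2b2eb659) (.leaf 0x0)) (.node (.leaf 0x2596430c) (.leaf 0x0))))) (.node (.node (.node (.node (.leaf 0xeb661659) (.leaf 0x52d994c)) (.node (.leaf 0xdd92b659) (.leaf 0x0))) (.node (.node (.leaf 0x5864) (.leaf 0x32592c)) (.node (.leaf 0x32c859) (.leaf 0x0)))) (.node (.node (.node (.leaf 0x64b0c) (.leaf 0xc94c2d9)) (.node (.leaf 0x10cb0c2db) (.leaf 0x0))) (.node (.node (.leaf 0x332530c) (.leaf 0x0)) (.node (.leaf 0x25664) (.leaf 0x0))))))) (.node (.node (.node (.node (.node (.node (.leaf 0x10c321) (.leaf 0x190c94b)) (.node (.leaf 0x24b2992c)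 (.leaf 0x0))) (.node (.node (.leaf 0xbb25859) (.leaf 0x2baeb65b)) (.node (.leaf 0x1d6ecad9) (.leaf 0x0)))) (.node (.node (.node (.leaf 0x30b2d9) (.leaf 0x1b3256d9)) (.node (.leaf 0x36e9759) (.leaf 0x0))) (.node (.node (.leaf 0x92b6eb659) (.leaf 0x495b65b)) (.node (.leaf 0x4ae9664) (.leaf 0x0))))) (.node (.node (.node (.node (.leaf 0xc96530c) (.leaf 0x864b0c)) (.node (.leaf 0x75d6d9) (.leaf 0x0))) (.node (.node (.leaf 0xaebad9659) (.leaf 0x3acc32c)) (.node (.leaf 0x14c86594b) (.leaf 0x0)))) (.node (.node (.node (.leaf 0x90b659) (.leaf 0x656dd2d9)) (.node (.leaf 0x15d6d9664) (.leaf 0x0))) (.node (.node (.leaf 0x1b75b661) (.leaf 0x0)) (.node (.leaf 0x16ec94c) (.leaf 0x0)))))) (.node (.node (.node (.node (.node (.leaf 0x1759) (.leaf 0x15966192c)) (.node (.leaf 0x192b74b) (.leaf 0x0))) (.node (.node (.leaf 0x95b664) (.leaf 0xc9596ec)) (.node (.leaf 0x1bb2992c) (.leaf 0x0)))) (.node (.node (.node (.leaf 0x575d6ec)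 (.leaf 0x9299616d9)) (.node (.leaf 0xb2585d6d9) (.leaf 0x0))) (.node (.node (.leaf 0x24325659) (.leaf 0x0)) (.node (.leaf 0x2b65d664) (.leaf 0x0))))) (.node (.node (.node (.node (.leaf 0x2eb659) (.leaf 0x12176432c)) (.node (.leaf 0x2185d6d9) (.leaf 0x0))) (.node (.node (.leaf 0x1d8642d9) (.leaf 0x574c859)) (.node (.leaf 0x3b2b659) (.leaf 0x0)))) (.node (.node (.node (.leaf 0xb764321) (.leaf 0x2530c864)) (.node (.leaf 0x36eb74b) (.leaf 0x0))) (.node (.node (.leaf 0x375bb0c) (.leaf 0x0)) (.node (.leaf 0x1985badb) (.leaf 0x0))))))))))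

/-- data -/
def clsT10 : Cfsg.Agent.HN.Trie :=
  (.node (.node (.node (.node (.node (.node (.node (.node (.node (.leaf 0x485d65bb21) (.leaf 0x2192c859)) (.node (.leaf 0x530cb21) (.leaf 0x0))) (.node (.node (.leaf 0xa65321) (.leaf 0x5859759)) (.node (.leaf 0x1659661) (.leaf 0x0)))) (.node (.node (.node (.leaf 0x594c859) (.leaf 0x4aeb2d9)) (.node (.leaf 0x21864b2c) (.leaf 0x0))) (.node (.node (.leaf 0x6ec) (.leaf 0xdd6616d9)) (.node (.leaf 0x125861) (.leaf 0x0))))) (.node (.node (.node (.node (.leaf 0x2c30c959) (.leaf 0x4865959)) (.node (.leaf 0xb32585b) (.leaf 0x0))) (.node (.node (.leaf 0x10b2d9) (.leaf 0x85bb0c)) (.node (.leaf 0x42d96ec) (.leaf 0x0)))) (.node (.node (.node (.leaf 0xb75b2cc) (.leaf 0x94c959)) (.node (.leaf 0x15d94b759) (.leaf 0x0))) (.node (.node (.leaf 0x1976432c) (.leaf 0x0)) (.node (.leaf 0x297596ec) (.leaf 0x0)))))) (.node (.node (.node (.node (.node (.leaf 0x2d9664) (.leaf 0x6cc94b))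 (.node (.leaf 0x4b2594c) (.leaf 0x0))) (.node (.node (.leaf 0xae96e9659) (.leaf 0x3acbad9)) (.node (.leaf 0x2575d6d9) (.leaf 0x0)))) (.node (.node (.node (.leaf 0x2cb321) (.leaf 0x2eb74b759)) (.node (.leaf 0x12c94c2d9) (.leaf 0x0))) (.node (.node (.leaf 0x2b32585b) (.leaf 0x2c865864)) (.node (.leaf 0x85992cad9) (.leaf 0x0))))) (.node (.node (.node (.node (.leaf 0x36ccad9) (.leaf 0x94b2cc)) (.node (.leaf 0xacba59) (.leaf 0x0))) (.node (.node (.leaf 0x14caeb2d9) (.leaf 0x129929959)) (.node (.leaf 0x96592c) (.leaf 0x0)))) (.node (.node (.node (.leaf 0xc859) (.leaf 0x366432c)) (.node (.leaf 0x12986430c) (.leaf 0x0))) (.node (.node (.leaf 0x216cb74b) (.leaf 0x0)) (.node (.leaf 0x92994c) (.leaf 0x0))))))) (.node (.node (.node (.node (.node (.node (.leaf 0x861864) (.leaf 0x10c)) (.node (.leaf 0x3a6194c) (.leaf 0x0))) (.node (.node (.leaf 0x2c2eb659) (.leaf 0xdd2d9)) (.node (.leaf 0xb2992c) (.leaf 0x0)))) (.node (.node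 (.node (.leaf 0x375965b) (.leaf 0x1ba59659)) (.node (.leaf 0x256dd864) (.leaf 0x0))) (.node (.node (.leaf 0x252eb664) (.leaf 0x1992b321)) (.node (.leaf 0x2965bb21) (.leaf 0x0))))) (.node (.node (.node (.node (.leaf 0x242cc859) (.leaf 0x59964b21)) (.node (.leaf 0x14b32c959) (.leaf 0x0))) (.node (.node (.leaf 0x1965b) (.leaf 0x1d32c864)) (.node (.leaf 0x575b664) (.leaf 0x0)))) (.node (.node (.node (.leaf 0xadd761959) (.leaf 0x75b664)) (.node (.leaf 0x494c2d9) (.leaf 0x0))) (.node (.node (.leaf 0x6618642d9) (.leaf 0x0)) (.node (.leaf 0x14c30c864) (.leaf 0x0)))))) (.node (.node (.node (.node (.node (.leaf 0x430c) (.leaf 0x1d75b659)) (.node (.leaf 0x6ec959) (.leaf 0x0))) (.node (.node (.leaf 0xb2cb2c) (.leaf 0x1bb2594c)) (.node (.leaf 0x1965b659) (.leaf 0x0)))) (.node (.node (.node (.leaf 0x298596d9) (.leaf 0x296cc32c)) (.node (.leaf 0xb2585b) (.leaf 0x0))) (.node (.node (.leaf 0x2b761959) (.leaf 0x0)) (.node (.leaf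 0x14b6616d9) (.leaf 0x0))))) (.node (.node (.node (.node (.leaf 0x216ec) (.leaf 0xb25321)) (.node (.leaf 0x4aec859) (.leaf 0x0))) (.node (.node (.leaf 0x298652d9) (.leaf 0x6585d6d9)) (.node (.leaf 0x332c94b) (.leaf 0x0)))) (.node (.node (.node (.leaf 0xe9961759) (.leaf 0xaeb32c859)) (.node (.leaf 0x1b74b321) (.leaf 0x0))) (.node (.node (.leaf 0x1bb2c959) (.leaf 0x0)) (.node (.leaf 0x74cb21) (.leaf 0x0)))))))) (.node (.node (.node (.node (.node (.node (.node (.leaf 0xb2c859) (.leaf 0x2b664321)) (.node (.leaf 0x3b25861) (.leaf 0x0))) (.node (.node (.leaf 0x2cb65b) (.leaf 0x42dd665321)) (.node (.leaf 0x196dd864) (.leaf 0x0)))) (.node (.node (.node (.leaf 0x14c85d659) (.leaf 0x2c2eb664)) (.node (.leaf 0x4acbad9) (.leaf 0x0))) (.node (.node (.leaf 0xdd6ec) (.leaf 0x764b29659)) (.node (.leaf 0x375badb) (.leaf 0x0))))) (.node (.node (.node (.node (.leaf 0xbacc2d9) (.leaf 0x12caeb2d9)) (.node (.leaf 0x1d2cc85b) (.leaf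 0x0))) (.node (.node (.leaf 0x48596d9) (.leaf 0x36ec)) (.node (.leaf 0x2590bb21) (.leaf 0x0)))) (.node (.node (.node (.leaf 0x365b74b) (.leaf 0x21929759)) (.node (.leaf 0x94bb21) (.leaf 0x0))) (.node (.node (.leaf 0x2bb2cb21) (.leaf 0x0)) (.node (.leaf 0xe9959) (.leaf 0x0)))))) (.node (.node (.node (.node (.node (.leaf 0xec959) (.leaf 0x12b74c321)) (.node (.leaf 0x12574b759) (.leaf 0x0))) (.node (.node (.leaf 0x14baeb65b) (.leaf 0xcb6eb2cc)) (.node (.leaf 0x21659864) (.leaf 0x0)))) (.node (.node (.node (.leaf 0x36656ec) (.leaf 0x196e9664)) (.node (.leaf 0x12cb2194c) (.leaf 0x0))) (.node (.node (.leaf 0x32d9) (.leaf 0x0)) (.node (.leaf 0x1badb321) (.leaf 0x0))))) (.node (.node (.node (.node (.leaf 0x764b0c) (.leaf 0x5d6d994c)) (.node (.leaf 0xc94b321) (.leaf 0x0))) (.node (.node (.leaf 0x1296cb2d9) (.leaf 0x6cc85d759)) (.node (.leaf 0x65d6eb659) (.leaf 0x0)))) (.node (.node (.node (.leaf 0x32dd659) (.leaf 0x192b74b659))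 (.node (.leaf 0x759759) (.leaf 0x0))) (.node (.node (.leaf 0xd966192c) (.leaf 0x0)) (.node (.leaf 0x192cb2c) (.leaf 0x0))))))) (.node (.node (.node (.node (.node (.node (.leaf 0x61659) (.leaf 0x16532194c)) (.node (.leaf 0x32dd864) (.leaf 0x0))) (.node (.node (.leaf 0x3ad994c) (.leaf 0x1d959659)) (.node (.leaf 0x1d664) (.leaf 0x0)))) (.node (.node (.node (.leaf 0x652cb664) (.leaf 0xcc861759)) (.node (.leaf 0x10c2d9759) (.leaf 0x0))) (.node (.node (.leaf 0x252cb2d9) (.leaf 0x5d92c)) (.node (.leaf 0x56cb74b) (.leaf 0x0))))) (.node (.node (.node (.node (.leaf 0x12590cb21) (.leaf 0x332c94c)) (.node (.leaf 0x4965959) (.leaf 0x0))) (.node (.node (.leaf 0x12585badb) (.leaf 0x74b2d9)) (.node (.leaf 0x3ad9661) (.leaf 0x0)))) (.node (.node (.node (.leaf 0x2165b) (.leaf 0x24b0c2db)) (.node (.leaf 0x1ba5b661) (.leaf 0x0))) (.node (.node (.leaf 0x2190c321) (.leaf 0x0)) (.node (.leaf 0xd96eb661) (.leaf 0x0)))))) (.node (.node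 (.node (.node (.node (.leaf 0xb2cadd6d9) (.leaf 0x2d992c)) (.node (.leaf 0x24adb) (.leaf 0x0))) (.node (.node (.leaf 0xeb6cba59) (.leaf 0xb2530c)) (.node (.leaf 0x5badb32c) (.leaf 0x0)))) (.node (.node (.node (.leaf 0x12190b2d9) (.leaf 0x75d6ec)) (.node (.leaf 0x14b321) (.leaf 0x0))) (.node (.node (.leaf 0x4b0c94b) (.leaf 0x0)) (.node (.leaf 0x1859759) (.leaf 0x0))))) (.node (.node (.node (.node (.leaf 0xcbacc32c) (.leaf 0xbaeb2d9)) (.node (.leaf 0x5b74b659) (.leaf 0x0))) (.node (.node (.leaf 0x2c95b759) (.leaf 0x5b74b)) (.node (.leaf 0x2195d2d9) (.leaf 0x0)))) (.node (.node (.node (.leaf 0x174bad9) (.leaf 0x12c2cb65b)) (.node (.leaf 0x1d65b32c) (.leaf 0x0))) (.node (.node (.leaf 0xb6ec861) (.leaf 0x0)) (.node (.leaf 0x2530c85b) (.leaf 0x0))))))))) (.node (.node (.node (.node (.node (.node (.node (.node (.leaf 0x36cb74c) (.leaf 0xaccb2c)) (.node (.leaf 0xb2e9759) (.leaf 0x0))) (.node (.node (.leaf 0x32ba64321)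 (.leaf 0x96194c)) (.node (.leaf 0xb75d759) (.leaf 0x0)))) (.node (.node (.node (.leaf 0x5d65b2d9) (.leaf 0x92c321)) (.node (.leaf 0x5d94b659) (.leaf 0x0))) (.node (.node (.leaf 0x32c94c) (.leaf 0x2174bad9)) (.node (.leaf 0xdd30b659) (.leaf 0x0))))) (.node (.node (.node (.node (.leaf 0x6ebb0b2d9) (.leaf 0x192cb21)) (.node (.leaf 0x12bacb664) (.leaf 0x0))) (.node (.node (.leaf 0x1656ccad9) (.leaf 0xeba61659)) (.node (.leaf 0x6e96ec) (.leaf 0x0)))) (.node (.node (.node (.leaf 0x12ba5b659) (.leaf 0x32dd32b664)) (.node (.leaf 0x75d94b659) (.leaf 0x0))) (.node (.node (.leaf 0x12574b6ec) (.leaf 0x0)) (.node (.leaf 0x2995d659) (.leaf 0x0)))))) (.node (.node (.node (.node (.node (.leaf 0x1216cb321) (.leaf 0x2192ba59)) (.node (.leaf 0x1d74b759) (.leaf 0x0))) (.node (.node (.leaf 0x94badbad9) (.leaf 0x10b75d321)) (.node (.leaf 0x4321864) (.leaf 0x0)))) (.node (.node (.node (.leaf 0x494b759) (.leaf 0x664a59659)) (.node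 (.leaf 0x1296eb659) (.leaf 0x0))) (.node (.node (.leaf 0x432c2cb759) (.leaf 0x0)) (.node (.leaf 0x2b2dd6ec) (.leaf 0x0))))) (.node (.node (.node (.node (.leaf 0x585b664) (.leaf 0x21759661)) (.node (.leaf 0x1ba5ba59) (.leaf 0x0))) (.node (.node (.leaf 0x5badbb21) (.leaf 0x532b759)) (.node (.leaf 0x2592b321) (.leaf 0x0)))) (.node (.node (.node (.leaf 0x196e9759) (.leaf 0x10cb0bad9)) (.node (.leaf 0x14b2db) (.leaf 0x0))) (.node (.node (.leaf 0x2b2cba59) (.leaf 0x0)) (.node (.leaf 0x12c864) (.leaf 0x0))))))) (.node (.node (.node (.node (.node (.node (.leaf 0x165b) (.leaf 0x2c859)) (.node (.leaf 0x2996194c) (.leaf 0x0))) (.node (.node (.leaf 0x1d2db30c) (.leaf 0x1bad9759)) (.node (.leaf 0xdd65b659) (.leaf 0x0)))) (.node (.node (.node (.leaf 0x65d2d9) (.leaf 0xa64b21864)) (.node (.leaf 0x65bb2c) (.leaf 0x0))) (.node (.node (.leaf 0x19864adb) (.leaf 0x242cc959)) (.node (.leaf 0x2992b321) (.leaf 0x0))))) (.node (.node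 (.node (.node (.leaf 0x6d974b2d9) (.leaf 0x2590b759)) (.node (.leaf 0x1d664321) (.leaf 0x0))) (.node (.node (.leaf 0x85b) (.leaf 0xbb29659)) (.node (.leaf 0x1d95b664) (.leaf 0x0)))) (.node (.node (.node (.leaf 0x2b75badb) (.leaf 0x4b2c)) (.node (.leaf 0x256eb659) (.leaf 0x0))) (.node (.node (.leaf 0x1965b321) (.leaf 0x0)) (.node (.leaf 0x496192c) (.leaf 0x0)))))) (.node (.node (.node (.node (.node (.leaf 0x52db) (.leaf 0x1badbb21)) (.node (.leaf 0x161861) (.leaf 0x0))) (.node (.node (.leaf 0x2b2dd759) (.leaf 0x2badbb21)) (.node (.leaf 0x764ad9) (.leaf 0x0)))) (.node (.node (.node (.leaf 0x659664) (.leaf 0x12c959659)) (.node (.leaf 0x3ad9759) (.leaf 0x0))) (.node (.node (.leaf 0x616dd664) (.leaf 0x0)) (.node (.leaf 0x12b65d759) (.leaf 0x0))))) (.node (.node (.node (.node (.leaf 0x92c) (.leaf 0xaec861759)) (.node (.leaf 0x330b759) (.leaf 0x0))) (.node (.node (.leaf 0x2594b321) (.leaf 0x49656d9)) (.node (.leaf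 0x2eb6ec) (.leaf 0x0)))) (.node (.node (.node (.leaf 0x94c321) (.leaf 0xad994b2d9)) (.node (.leaf 0x6cbad9) (.leaf 0x0))) (.node (.node (.leaf 0x2badd6d9) (.leaf 0x0)) (.node (.leaf 0x5661959) (.leaf 0x0)))))))) (.node (.node (.node (.node (.node (.node (.node (.leaf 0xb29659) (.leaf 0x90b6eb659)) (.node (.leaf 0x4acc859) (.leaf 0x0))) (.node (.node (.leaf 0x1b321) (.leaf 0x1d32c321)) (.node (.leaf 0x2432b759) (.leaf 0x0)))) (.node (.node (.node (.leaf 0x495992b659) (.leaf 0x1865864)) (.node (.leaf 0xacc859) (.leaf 0x0))) (.node (.node (.leaf 0x1bacb321) (.leaf 0x2b6eb74b)) (.node (.leaf 0x1992c) (.leaf 0x0))))) (.node (.node (.node (.node (.leaf 0x2c864ad9) (.leaf 0x165d2db)) (.node (.leaf 0x1b74b659) (.leaf 0x0))) (.node (.node (.leaf 0x65b2d9) (.leaf 0x2b30c959)) (.node (.leaf 0x196ccb21) (.leaf 0x0)))) (.node (.node (.node (.leaf 0x74b6ec) (.leaf 0xec861)) (.node (.leaf 0x1d32c85b) (.leaf 0x0))) (.node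 (.node (.leaf 0x2c861759) (.leaf 0x0)) (.node (.leaf 0x164b2992c) (.leaf 0x0)))))) (.node (.node (.node (.node (.node (.leaf 0x332c2d9) (.leaf 0x30bad9)) (.node (.leaf 0x64a59659) (.leaf 0x0))) (.node (.node (.leaf 0x1657596d9) (.leaf 0xbaebad9)) (.node (.leaf 0x256cb321) (.leaf 0x0)))) (.node (.node (.node (.leaf 0x216cbad9) (.leaf 0x29965959)) (.node (.leaf 0x6eb2cc) (.leaf 0x0))) (.node (.node (.leaf 0x2d9) (.leaf 0x0)) (.node (.leaf 0x1d65b2d9) (.leaf 0x0))))) (.node (.node (.node (.node (.leaf 0x2190ba59) (.leaf 0x65d94b659)) (.node (.leaf 0xbaec864) (.leaf 0x0))) (.node (.node (.leaf 0x2b74b) (.leaf 0x2dd664)) (.node (.leaf 0x186532c) (.leaf 0x0)))) (.node (.node (.node (.leaf 0x165b74b) (.leaf 0x495b661)) (.node (.leaf 0x16eb664) (.leaf 0x0))) (.node (.node (.leaf 0x2ec94c) (.leaf 0x0)) (.node (.leaf 0x296dd759) (.leaf 0x0))))))) (.node (.node (.node (.node (.node (.node (.leaf 0x332c321) (.leaf 0xc325664))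 (.node (.leaf 0x1d94b759) (.leaf 0x0))) (.node (.node (.leaf 0x196585b) (.leaf 0x296cb74b)) (.node (.leaf 0x15d90bb21) (.leaf 0x0)))) (.node (.node (.node (.leaf 0x90c859) (.leaf 0x5ba5b659)) (.node (.leaf 0x594c959) (.leaf 0x0))) (.node (.node (.leaf 0x2575d6ec) (.leaf 0x1d6d9)) (.node (.leaf 0x19964aeb) (.leaf 0x0))))) (.node (.node (.node (.node (.leaf 0xca5badb) (.leaf 0x4b25664)) (.node (.leaf 0x5d6ec859) (.leaf 0x0))) (.node (.node (.leaf 0x14b75b2cc) (.leaf 0x4b25861)) (.node (.leaf 0x6d994c) (.leaf 0x0)))) (.node (.node (.node (.leaf 0x42d9664) (.leaf 0x14c864)) (.node (.leaf 0x5b2eb2d9) (.leaf 0x0))) (.node (.node (.leaf 0x1216dd859) (.leaf 0x0)) (.node (.leaf 0x6532c) (.leaf 0x0)))))) (.node (.node (.node (.node (.node (.leaf 0xba64321) (.leaf 0x2592cad9)) (.node (.leaf 0x56ecb21) (.leaf 0x0))) (.node (.node (.leaf 0x15d75b2d9) (.leaf 0x75d321)) (.node (.leaf 0x4adb32c) (.leaf 0x0)))) (.node (.node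 (.node (.leaf 0x15d92c) (.leaf 0x16194b759)) (.node (.leaf 0xa5d9616d9) (.leaf 0x0))) (.node (.node (.leaf 0x1d665859) (.leaf 0x0)) (.node (.leaf 0xb25959) (.leaf 0x0))))) (.node (.node (.node (.node (.leaf 0xbacb664) (.leaf 0x595d659)) (.node (.leaf 0x2ec959) (.leaf 0x0))) (.node (.node (.leaf 0xd9864) (.leaf 0x190bad9)) (.node (.leaf 0xb2b74c) (.leaf 0x0)))) (.node (.node (.node (.leaf 0x2194b759) (.leaf 0x52d9)) (.node (.leaf 0x1b74c) (.leaf 0x0))) (.node (.node (.leaf 0x14c30c) (.leaf 0x0)) (.node (.leaf 0x175b32c) (.leaf 0x0))))))))))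

/-- data -/
def clsT11 : Cfsg.Agent.HN.Trie :=
  (.node (.node (.node (.node (.node (.node (.node (.node (.node (.leaf 0xb2c321) (.leaf 0x1d864)) (.node (.leaf 0x565b32c) (.leaf 0x0))) (.node (.node (.leaf 0x861) (.leaf 0x42cb74b)) (.node (.leaf 0x2430c321) (.leaf 0x0)))) (.node (.node (.node (.leaf 0x14ca64ad9) (.leaf 0x2cb0c85b)) (.node (.leaf 0x64b0c2d9) (.leaf 0x0))) (.node (.node (.leaf 0xdd6cc861) (.leaf 0x2ba5b759)) (.node (.leaf 0x6ebadb) (.leaf 0x0))))) (.node (.node (.node (.node (.leaf 0x2e98616d9) (.leaf 0x1652cb664)) (.node (.leaf 0xe965bb21) (.leaf 0x0))) (.node (.node (.leaf 0x90b65b) (.leaf 0x10b74b)) (.node (.leaf 0x365d6d9) (.leaf 0x0)))) (.node (.node (.node (.leaf 0x4ae992c) (.leaf 0x3ad9659)) (.node (.leaf 0x2990b2d9) (.leaf 0x0))) (.node (.node (.leaf 0x12992cb21) (.leaf 0x0)) (.node (.leaf 0x2c85badb) (.leaf 0x0)))))) (.node (.node (.node (.node (.node (.leaf 0x10b30c) (.leaf 0x6cc94c))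 (.node (.leaf 0x19961759) (.leaf 0x0))) (.node (.node (.leaf 0xdd2ccb21) (.leaf 0x2dd65b659)) (.node (.leaf 0x1d759659) (.leaf 0x0)))) (.node (.node (.node (.leaf 0x15bacb321) (.leaf 0xe96cbad9)) (.node (.leaf 0x15b30b759) (.leaf 0x0))) (.node (.node (.leaf 0xacc959) (.leaf 0x4a5d861)) (.node (.leaf 0x216eb759) (.leaf 0x0))))) (.node (.node (.node (.node (.leaf 0x592b759) (.leaf 0x430b759)) (.node (.leaf 0xb6ec32c) (.leaf 0x0))) (.node (.node (.leaf 0x2565b759) (.leaf 0x2175b65b)) (.node (.leaf 0xd974b2d9) (.leaf 0x0)))) (.node (.node (.node (.leaf 0x16eb659) (.leaf 0x12992cad9)) (.node (.leaf 0x375992b659) (.leaf 0x0))) (.node (.node (.leaf 0x2190c94b) (.leaf 0x0)) (.node (.leaf 0x96585b) (.leaf 0x0))))))) (.node (.node (.node (.node (.node (.node (.leaf 0x10c859) (.leaf 0x42db)) (.node (.leaf 0x659759) (.leaf 0x0))) (.node (.node (.leaf 0x430bad9) (.leaf 0x332c959)) (.node (.leaf 0xecb0c864) (.leaf 0x0))))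 (.node (.node (.node (.leaf 0x7596ec) (.leaf 0x2dd6656d9)) (.node (.leaf 0x2595b2d9) (.leaf 0x0))) (.node (.node (.leaf 0x52dd6616d9) (.leaf 0x95bb2c959)) (.node (.leaf 0x65759) (.leaf 0x0))))) (.node (.node (.node (.node (.leaf 0x30b65b) (.leaf 0x5bb0b2d9)) (.node (.leaf 0xcb75d2d9) (.leaf 0x0))) (.node (.node (.leaf 0x64) (.leaf 0xcb0c2d9)) (.node (.leaf 0xa6594c) (.leaf 0x0)))) (.node (.node (.node (.leaf 0x2b6eb74c) (.leaf 0x15b665321)) (.node (.leaf 0xdd6eb659) (.leaf 0x0))) (.node (.node (.leaf 0x859) (.leaf 0x0)) (.node (.leaf 0x661659) (.leaf 0x0)))))) (.node (.node (.node (.node (.node (.leaf 0x12165bad9) (.leaf 0x1d965959)) (.node (.leaf 0x366530c) (.leaf 0x0))) (.node (.node (.leaf 0xa61959) (.leaf 0x15bad9)) (.node (.leaf 0x30c2d9) (.leaf 0x0)))) (.node (.node (.node (.leaf 0x92c2cba59) (.leaf 0x332cb21)) (.node (.leaf 0x65d32585b) (.leaf 0x0))) (.node (.node (.leaf 0x374b2d9) (.leaf 0x0)) (.node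 (.leaf 0x3b21864) (.leaf 0x0))))) (.node (.node (.node (.node (.leaf 0x175b65b) (.leaf 0x6596430c)) (.node (.leaf 0xb32c959) (.leaf 0x0))) (.node (.node (.leaf 0xb2990b659) (.leaf 0x1bb0b759)) (.node (.leaf 0x196dd759) (.leaf 0x0)))) (.node (.node (.node (.leaf 0x590cb0b2d9) (.leaf 0x1b30c959)) (.node (.leaf 0x1765321) (.leaf 0x0))) (.node (.node (.leaf 0x4b2592c) (.leaf 0x0)) (.node (.leaf 0x3256ec) (.leaf 0x0)))))))) (.node (.node (.node (.node (.node (.node (.node (.leaf 0x92c864ad9) (.leaf 0x2cad96d9)) (.node (.leaf 0x175d659) (.leaf 0x0))) (.node (.node (.leaf 0x6cb65b) (.leaf 0x1865959)) (.node (.leaf 0x6dd92c) (.leaf 0x0)))) (.node (.node (.node (.leaf 0x16d9664) (.leaf 0x16532cb21)) (.node (.leaf 0x12c32c) (.leaf 0x0))) (.node (.node (.leaf 0x16cbad9) (.leaf 0x4b2b6ec)) (.node (.leaf 0x12c85992c) (.leaf 0x0))))) (.node (.node (.node (.node (.leaf 0x24ae9659) (.leaf 0x217596ec)) (.node (.leaf 0x74b321)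 (.leaf 0x0))) (.node (.node (.leaf 0x566432c) (.leaf 0x1b2eb74b)) (.node (.leaf 0x6eb6eb2cc) (.leaf 0x0)))) (.node (.node (.node (.leaf 0x94b) (.leaf 0x2b2ecb21)) (.node (.leaf 0x56cbadb) (.leaf 0x0))) (.node (.node (.leaf 0x761959) (.leaf 0x0)) (.node (.leaf 0xc32cad9) (.leaf 0x0)))))) (.node (.node (.node (.node (.node (.leaf 0xdd32c859) (.leaf 0x6eb321)) (.node (.leaf 0x192c30b659) (.leaf 0x0))) (.node (.node (.leaf 0x56ccad9) (.leaf 0x2975bad9)) (.node (.leaf 0x42d9) (.leaf 0x0)))) (.node (.node (.node (.leaf 0x74c32c) (.leaf 0x3aeb65b)) (.node (.leaf 0x12cb0c859) (.leaf 0x0))) (.node (.node (.leaf 0x3661659) (.leaf 0x0)) (.node (.leaf 0x5b74b759) (.leaf 0x0))))) (.node (.node (.node (.node (.leaf 0x665659) (.leaf 0x3296eb659)) (.node (.leaf 0x32c) (.leaf 0x0))) (.node (.node (.leaf 0x2b6ec30c) (.leaf 0x36e96ec)) (.node (.leaf 0xb66192c) (.leaf 0x0)))) (.node (.node (.node (.leaf 0x2c32c30c) (.leaf 0x14c2cb759))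 (.node (.leaf 0x1b2eb2cc) (.leaf 0x0))) (.node (.node (.leaf 0x530bad9) (.leaf 0x0)) (.node (.leaf 0x2192cb21) (.leaf 0x0))))))) (.node (.node (.node (.node (.node (.node (.leaf 0x859661) (.leaf 0x65864b21)) (.node (.leaf 0x5959759) (.leaf 0x0))) (.node (.node (.leaf 0xcb0b2d9) (.leaf 0xe975badb)) (.node (.leaf 0x74b) (.leaf 0x0)))) (.node (.node (.node (.leaf 0x592c859) (.leaf 0x4a59659)) (.node (.leaf 0x16ebad9) (.leaf 0x0))) (.node (.node (.leaf 0x590bb21) (.leaf 0x2b65992c)) (.node (.leaf 0x15d765321) (.leaf 0x0))))) (.node (.node (.node (.node (.leaf 0x174b2d9) (.leaf 0xc95992c)) (.node (.leaf 0x66592c) (.leaf 0x0))) (.node (.node (.leaf 0x3b2594b) (.leaf 0xad96e96ec)) (.node (.leaf 0x257596ec) (.leaf 0x0)))) (.node (.node (.node (.leaf 0xc30c) (.leaf 0x496585b)) (.node (.leaf 0x3a5d2d9) (.leaf 0x0))) (.node (.node (.leaf 0xc2d9659) (.leaf 0x0)) (.node (.leaf 0x3add2db) (.leaf 0x0)))))) (.node (.node (.node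 (.node (.node (.leaf 0x859759) (.leaf 0x4b2b659)) (.node (.leaf 0xb2dbb21) (.leaf 0x0))) (.node (.node (.leaf 0x29929959) (.leaf 0xb0c)) (.node (.leaf 0x192bad9) (.leaf 0x0)))) (.node (.node (.node (.leaf 0x1b664321) (.leaf 0x6d992c2d9)) (.node (.leaf 0x15d30c) (.leaf 0x0))) (.node (.node (.leaf 0xcb2dd864) (.leaf 0x0)) (.node (.leaf 0xebb216d9) (.leaf 0x0))))) (.node (.node (.node (.node (.leaf 0x12b6ec) (.leaf 0xec85992c)) (.node (.leaf 0x6e96e9659) (.leaf 0x0))) (.node (.node (.leaf 0xb6cc861) (.leaf 0x15995b2d9)) (.node (.leaf 0x66430c94b) (.leaf 0x0)))) (.node (.node (.node (.leaf 0x1965bb0c) (.leaf 0x574b74b)) (.node (.leaf 0xb2b759) (.leaf 0x0))) (.node (.node (.leaf 0x75d74b) (.leaf 0x0)) (.node (.leaf 0x14b759) (.leaf 0x0))))))))) (.node (.node (.node (.node (.node (.node (.node (.node (.leaf 0xd9861) (.leaf 0x7656ec)) (.node (.leaf 0x4b2b759) (.leaf 0x0))) (.node (.node (.leaf 0x65d759) (.leaf 0x592c2d9))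 (.node (.leaf 0x14cb21) (.leaf 0x0)))) (.node (.node (.node (.leaf 0xb6eb759) (.leaf 0x129759)) (.node (.leaf 0x2992bad9) (.leaf 0x0))) (.node (.node (.leaf 0x258596d9) (.leaf 0x75d2d9)) (.node (.leaf 0x16e9664) (.leaf 0x0))))) (.node (.node (.node (.node (.leaf 0x929759) (.leaf 0xc30b6eb659)) (.node (.leaf 0x95b65b) (.leaf 0x0))) (.node (.node (.leaf 0x12165b) (.leaf 0x10ca5b759)) (.node (.leaf 0x90b2dbad9) (.leaf 0x0)))) (.node (.node (.node (.leaf 0x3a59661) (.leaf 0x959659)) (.node (.leaf 0x4b2cb21) (.leaf 0x0))) (.node (.node (.leaf 0x1296cc321) (.leaf 0x0)) (.node (.leaf 0xca596d9) (.leaf 0x0)))))) (.node (.node (.node (.node (.node (.leaf 0x198642d9) (.leaf 0xcaeb2d9)) (.node (.leaf 0xb2c30c) (.leaf 0x0))) (.node (.node (.leaf 0x12574bad9) (.leaf 0x15d6eb659)) (.node (.leaf 0x861659) (.leaf 0x0)))) (.node (.node (.node (.leaf 0x3b2b2d9) (.leaf 0x374bad9)) (.node (.leaf 0x3a61659) (.leaf 0x0))) (.node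 (.node (.leaf 0x1b661) (.leaf 0x0)) (.node (.leaf 0x1d30c859) (.leaf 0x0))))) (.node (.node (.node (.node (.leaf 0x1994b) (.leaf 0x16e96d9)) (.node (.leaf 0x1d2dbad9) (.leaf 0x0))) (.node (.node (.leaf 0x15995b661) (.leaf 0x12992c859)) (.node (.leaf 0x10baccad9) (.leaf 0x0)))) (.node (.node (.node (.leaf 0x590cb2c) (.leaf 0xad994b)) (.node (.leaf 0x1b74c859) (.leaf 0x0))) (.node (.node (.leaf 0xdd32b664) (.leaf 0x0)) (.node (.leaf 0x595b74c) (.leaf 0x0))))))) (.node (.node (.node (.node (.node (.node (.leaf 0x2cb30c) (.leaf 0xcba5b759)) (.node (.leaf 0xb2dd6d9) (.leaf 0x0))) (.node (.node (.leaf 0x590b659) (.leaf 0x15b2cc)) (.node (.leaf 0x24b2530c) (.leaf 0x0)))) (.node (.node (.node (.leaf 0x485d2d9) (.leaf 0x242cbad9)) (.node (.leaf 0xacc2d9) (.leaf 0x0))) (.node (.node (.leaf 0xb74b759) (.leaf 0x4b0b30c)) (.node (.leaf 0xb6ec321) (.leaf 0x0))))) (.node (.node (.node (.node (.leaf 0x1d90cb21) (.leaf 0x6cba59))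 (.node (.leaf 0x4aeb661) (.leaf 0x0))) (.node (.node (.leaf 0x6596d9) (.leaf 0xb2e9664)) (.node (.leaf 0xc32c94b) (.leaf 0x0)))) (.node (.node (.node (.leaf 0xacb2d9) (.leaf 0x2b32c959)) (.node (.leaf 0xc95b759) (.leaf 0x0))) (.node (.node (.leaf 0x1d90b759) (.leaf 0x0)) (.node (.leaf 0x19861659) (.leaf 0x0)))))) (.node (.node (.node (.node (.node (.leaf 0x665864) (.leaf 0x596ec32c)) (.node (.leaf 0x12b765321) (.leaf 0x0))) (.node (.node (.leaf 0x52d9661) (.leaf 0x5d9656d9)) (.node (.leaf 0x166532c) (.leaf 0x0)))) (.node (.node (.node (.leaf 0xb6616d9) (.leaf 0xec95d659)) (.node (.leaf 0xdd94b2d9) (.leaf 0x0))) (.node (.node (.leaf 0x865861) (.leaf 0x0)) (.node (.leaf 0x643256d9) (.leaf 0x0))))) (.node (.node (.node (.node (.leaf 0x2195d659) (.leaf 0x6dd2e9759)) (.node (.leaf 0x5665321) (.leaf 0x0))) (.node (.node (.leaf 0xc2cb759) (.leaf 0x42dd659)) (.node (.leaf 0x175badb) (.leaf 0x0)))) (.node (.node (.node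 (.leaf 0x592c959) (.leaf 0xb30cb21)) (.node (.leaf 0x12c32b759) (.leaf 0x0))) (.node (.node (.leaf 0x4b0b2d9) (.leaf 0x0)) (.node (.leaf 0x1b74b2cc) (.leaf 0x0)))))))) (.node (.node (.node (.node (.node (.node (.node (.leaf 0xadd861) (.leaf 0x165d664)) (.node (.leaf 0x6594c) (.leaf 0x0))) (.node (.node (.leaf 0xb2eb659) (.leaf 0x2dd2d9)) (.node (.leaf 0x165659) (.leaf 0x0)))) (.node (.node (.node (.leaf 0x485d65b2d9) (.leaf 0x4b2594b)) (.node (.leaf 0x5d6ebad9) (.leaf 0x0))) (.node (.node (.leaf 0x4acb2d9) (.leaf 0xadd6616d9)) (.node (.leaf 0x76585b) (.leaf 0x0))))) (.node (.node (.node (.node (.leaf 0x2b75992c) (.leaf 0x5974b)) (.node (.leaf 0x164a61759) (.leaf 0x0))) (.node (.node (.leaf 0x61) (.leaf 0x14b74b)) (.node (.leaf 0xeb65b2d9) (.leaf 0x0)))) (.node (.node (.node (.leaf 0x30c2eb759) (.leaf 0xaecad9)) (.node (.leaf 0x10bb216d9) (.leaf 0x0))) (.node (.node (.leaf 0x6eb65d6d9) (.leaf 0x0)) (.node (.leaf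 0x192975b659) (.leaf 0x0)))))) (.node (.node (.node (.node (.node (.leaf 0x5d964ad9) (.leaf 0xcb66585b)) (.node (.leaf 0x21664b21) (.leaf 0x0))) (.node (.node (.leaf 0x6592bad9) (.leaf 0x12c85b)) (.node (.leaf 0x10bad994c) (.leaf 0x0)))) (.node (.node (.node (.leaf 0x2c86594b) (.leaf 0x12b6ec32c)) (.node (.leaf 0x1596ec) (.leaf 0x0))) (.node (.node (.leaf 0xebadb) (.leaf 0x0)) (.node (.leaf 0x1992cad9) (.leaf 0x0))))) (.node (.node (.node (.node (.leaf 0x29759659) (.leaf 0x194c321)) (.node (.leaf 0x1865321) (.leaf 0x0))) (.node (.node (.leaf 0x375b2d9) (.leaf 0x1ba5bad9)) (.node (.leaf 0x42dd66192c) (.leaf 0x0)))) (.node (.node (.node (.leaf 0x325659) (.leaf 0x865959)) (.node (.leaf 0xca59659) (.leaf 0x0))) (.node (.node (.leaf 0x1995b74c) (.leaf 0x0)) (.node (.leaf 0x3a5d6ec) (.leaf 0x0))))))) (.node (.node (.node (.node (.node (.node (.leaf 0xb0bad9) (.leaf 0x1d759759)) (.node (.leaf 0xb2c961659) (.leaf 0x0)))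 (.node (.node (.leaf 0x15bacb2d9) (.leaf 0x592994c)) (.node (.leaf 0x12c2cb759) (.leaf 0x0)))) (.node (.node (.node (.leaf 0x30b659) (.leaf 0x2b661659)) (.node (.leaf 0xa59659) (.leaf 0x0))) (.node (.node (.leaf 0x16cc94c) (.leaf 0x95b759)) (.node (.leaf 0x12b65b2d9) (.leaf 0x0))))) (.node (.node (.node (.node (.leaf 0x530ba59) (.leaf 0x532192c)) (.node (.leaf 0x1b2eb661) (.leaf 0x0))) (.node (.node (.leaf 0x15d761659) (.leaf 0xacb2db)) (.node (.leaf 0xa616ec) (.leaf 0x0)))) (.node (.node (.node (.leaf 0xdd6cba59) (.leaf 0x14bb2c859)) (.node (.leaf 0x30cb2c) (.leaf 0x0))) (.node (.node (.leaf 0x10c30bad9) (.leaf 0x0)) (.node (.leaf 0x2165b759) (.leaf 0x0)))))) (.node (.node (.node (.node (.node (.leaf 0x2caeb759) (.leaf 0xae96ec)) (.node (.leaf 0xe98616d9) (.leaf 0x0))) (.node (.node (.leaf 0x6cb2d9) (.leaf 0x61959)) (.node (.leaf 0x959759) (.leaf 0x0)))) (.node (.node (.node (.leaf 0xeb664) (.leaf 0x3accad9))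 (.node (.leaf 0x6ccb2c) (.leaf 0x0))) (.node (.node (.leaf 0x175b2eb) (.leaf 0x0)) (.node (.leaf 0x575d2db) (.leaf 0x0))))) (.node (.node (.node (.node (.leaf 0xb2c2d9) (.leaf 0x12192b759)) (.node (.leaf 0x125321) (.leaf 0x0))) (.node (.node (.leaf 0x16cb2db) (.leaf 0x10ba59)) (.node (.leaf 0x16430b6ec) (.leaf 0x0)))) (.node (.node (.node (.leaf 0x296ecb21) (.leaf 0x1652cba59)) (.node (.leaf 0x2cadd6d9) (.leaf 0x0))) (.node (.node (.leaf 0xb2192c) (.leaf 0x0)) (.node (.leaf 0x15d66192c) (.leaf 0x0))))))))))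

/-- data -/
def clsT12 : Cfsg.Agent.HN.Trie :=
  (.node (.node (.node (.node (.node (.node (.node (.node (.node (.leaf 0x15bacc2d9) (.leaf 0x185d659)) (.node (.leaf 0xcb2530c) (.leaf 0x0))) (.node (.node (.leaf 0xb30c) (.leaf 0x12b2cc)) (.node (.leaf 0x242d9659) (.leaf 0x0)))) (.node (.node (.node (.leaf 0x5d90c85b) (.leaf 0x6eb2dd6d9)) (.node (.leaf 0x29765321) (.leaf 0x0))) (.node (.node (.leaf 0x12b66192c) (.leaf 0x1b75d2d9)) (.node (.leaf 0x12b2d9) (.leaf 0x0))))) (.node (.node (.node (.node (.leaf 0x85d2db) (.leaf 0x374cad9)) (.node (.leaf 0x9616e96d9) (.leaf 0x0))) (.node (.node (.leaf 0x32165b) (.leaf 0xb2592c)) (.node (.leaf 0xadd90b659) (.leaf 0x0)))) (.node (.node (.node (.leaf 0x2c2cc859) (.leaf 0xc95d321)) (.node (.leaf 0x759661) (.leaf 0x0))) (.node (.node (.leaf 0x1256cba59) (.leaf 0x0)) (.node (.leaf 0x52dd659) (.leaf 0x0)))))) (.node (.node (.node (.node (.node (.leaf 0x1661864) (.leaf 0x965859))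 (.node (.leaf 0x864ad9) (.leaf 0x0))) (.node (.node (.leaf 0x1d6eb2d9) (.leaf 0xeb2eb664)) (.node (.leaf 0x3a5b659) (.leaf 0x0)))) (.node (.node (.node (.leaf 0x56ec85b) (.leaf 0x2dd30c859)) (.node (.leaf 0x2b2ebad9) (.leaf 0x0))) (.node (.node (.leaf 0x2594c94b) (.leaf 0x92ba59)) (.node (.leaf 0x256cb759) (.leaf 0x0))))) (.node (.node (.node (.node (.leaf 0x575b2eb) (.leaf 0x10c9596ec)) (.node (.leaf 0x196eb321) (.leaf 0x0))) (.node (.node (.leaf 0x12594b759) (.leaf 0x3256d9)) (.node (.leaf 0x52e96d9) (.leaf 0x0)))) (.node (.node (.node (.leaf 0x2db30c) (.leaf 0x6594b659)) (.node (.leaf 0x374b321) (.leaf 0x0))) (.node (.node (.leaf 0x10b65bb0c) (.leaf 0x0)) (.node (.leaf 0x4b21) (.leaf 0x0))))))) (.node (.node (.node (.node (.node (.node (.leaf 0x3acb661) (.leaf 0x330b2d9)) (.node (.leaf 0x2b765659) (.leaf 0x0))) (.node (.node (.leaf 0xd9661) (.leaf 0xc9616d9)) (.node (.leaf 0x2c325664) (.leaf 0x0)))) (.node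 (.node (.node (.leaf 0xcadd2db) (.leaf 0x3add759)) (.node (.leaf 0xc2eba59) (.leaf 0x0))) (.node (.node (.leaf 0x296dd2d9) (.leaf 0x3ae96ec)) (.node (.leaf 0x376592b659) (.leaf 0x0))))) (.node (.node (.node (.node (.leaf 0x3661864) (.leaf 0x12c95b659)) (.node (.leaf 0x2965d2db) (.leaf 0x0))) (.node (.node (.leaf 0x19964b21) (.leaf 0x1616e96d9)) (.node (.leaf 0x14c94c) (.leaf 0x0)))) (.node (.node (.node (.leaf 0x2bad9659) (.leaf 0x2ca64b2c)) (.node (.leaf 0x594b2d9659) (.leaf 0x0))) (.node (.node (.leaf 0x175bad9) (.leaf 0x0)) (.node (.leaf 0x10b321) (.leaf 0x0)))))) (.node (.node (.node (.node (.node (.leaf 0x16192c) (.leaf 0x5d6dd85b)) (.node (.leaf 0x12b6616d9) (.leaf 0x0))) (.node (.node (.leaf 0xa5b2dba59) (.leaf 0xcad9759)) (.node (.leaf 0x1d6eb74c) (.leaf 0x0)))) (.node (.node (.node (.leaf 0x6eb2eb6ec) (.leaf 0x1d75b759)) (.node (.leaf 0x2c965959) (.leaf 0x0))) (.node (.node (.leaf 0x95992b659) (.leaf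 0x0)) (.node (.leaf 0x30c32c) (.leaf 0x0))))) (.node (.node (.node (.node (.leaf 0xdd3256d9) (.leaf 0x4325859)) (.node (.leaf 0x30c959) (.leaf 0x0))) (.node (.node (.leaf 0x596ccb21) (.leaf 0xd96ec859)) (.node (.leaf 0x595b65b) (.leaf 0x0)))) (.node (.node (.node (.leaf 0x252db30c) (.leaf 0x15974b2d9)) (.node (.leaf 0xa5bad9664) (.leaf 0x0))) (.node (.node (.leaf 0x1995b759) (.leaf 0x0)) (.node (.leaf 0xdd6dd759) (.leaf 0x0)))))))) (.node (.node (.node (.node (.node (.node (.node (.leaf 0xec864ad9) (.leaf 0xcb296ec)) (.node (.leaf 0xec30c) (.leaf 0x0))) (.node (.node (.leaf 0x3659) (.leaf 0x2b74bad9)) (.node (.leaf 0x1961759) (.leaf 0x0)))) (.node (.node (.node (.leaf 0x65b664) (.leaf 0x56cbad9)) (.node (.leaf 0x42eb6ec) (.leaf 0x0))) (.node (.node (.leaf 0x65b2dd659) (.leaf 0x4965321)) (.node (.leaf 0x2b75b759) (.leaf 0x0))))) (.node (.node (.node (.node (.leaf 0x4adbad9) (.leaf 0x6cb759)) (.node (.leaf 0x61929659)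 (.leaf 0x0))) (.node (.node (.leaf 0x65b659) (.leaf 0xcb0c321)) (.node (.leaf 0x96432c) (.leaf 0x0)))) (.node (.node (.node (.leaf 0x4b0c) (.leaf 0x36ec94b)) (.node (.leaf 0x2b2dbad9) (.leaf 0x0))) (.node (.node (.leaf 0x6175b65b) (.leaf 0x0)) (.node (.leaf 0x15994c) (.leaf 0x0)))))) (.node (.node (.node (.node (.node (.leaf 0xcad9) (.leaf 0x12b321)) (.node (.leaf 0x1d6cc32c) (.leaf 0x0))) (.node (.node (.leaf 0x74c861759) (.leaf 0x12590c959)) (.node (.leaf 0x90b661) (.leaf 0x0)))) (.node (.node (.node (.leaf 0x1d7596d9) (.leaf 0xb0c2d9)) (.node (.leaf 0xcb75badb) (.leaf 0x0))) (.node (.node (.leaf 0xec32cad9) (.leaf 0x0)) (.node (.leaf 0xcb32c959) (.leaf 0x0))))) (.node (.node (.node (.node (.leaf 0xbb21) (.leaf 0x12994c)) (.node (.leaf 0x1975b65b) (.leaf 0x0))) (.node (.node (.leaf 0x1d95b2d9) (.leaf 0x5325321)) (.node (.leaf 0xdd759759) (.leaf 0x0)))) (.node (.node (.node (.leaf 0x52d992c) (.leaf 0x616eb659))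 (.node (.leaf 0x365d759) (.leaf 0x0))) (.node (.node (.leaf 0x1d6eb659) (.leaf 0x0)) (.node (.leaf 0xb74bad9) (.leaf 0x0))))))) (.node (.node (.node (.node (.node (.node (.leaf 0x1661) (.leaf 0x6eb6656d9)) (.node (.leaf 0x16ec859) (.leaf 0x0))) (.node (.node (.leaf 0x216cba59) (.leaf 0x4ad994c)) (.node (.leaf 0xdd75d6d9) (.leaf 0x0)))) (.node (.node (.node (.leaf 0x32c864) (.leaf 0x530b661)) (.node (.leaf 0x12175d6d9) (.leaf 0x0))) (.node (.node (.leaf 0x94ba59) (.leaf 0x2965b659)) (.node (.leaf 0xb325664) (.leaf 0x0))))) (.node (.node (.node (.node (.leaf 0x42cba59) (.leaf 0x1baec85b)) (.node (.leaf 0x1986585b) (.leaf 0x0))) (.node (.node (.leaf 0x5b65d2d9) (.leaf 0x258652d9)) (.node (.leaf 0x4aeb74c) (.leaf 0x0)))) (.node (.node (.node (.leaf 0x121) (.leaf 0x530b659)) (.node (.leaf 0x16192bad9) (.leaf 0x0))) (.node (.node (.leaf 0x43216cb321) (.leaf 0x0)) (.node (.leaf 0x1d959759) (.leaf 0x0)))))) (.node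 (.node (.node (.node (.node (.leaf 0x4b29659) (.leaf 0x1974b74b)) (.node (.leaf 0x3adb) (.leaf 0x0))) (.node (.node (.leaf 0x374c859) (.leaf 0x2d96ec859)) (.node (.leaf 0x14b2d9659) (.leaf 0x0)))) (.node (.node (.node (.leaf 0x32175d6d9) (.leaf 0x1296d9)) (.node (.leaf 0x2bacb65b) (.leaf 0x0))) (.node (.node (.leaf 0x256cb65b) (.leaf 0x0)) (.node (.leaf 0x1d6ec) (.leaf 0x0))))) (.node (.node (.node (.node (.leaf 0x164ae9659) (.leaf 0x14cb2c2d9)) (.node (.leaf 0x1ba5b659) (.leaf 0x0))) (.node (.node (.leaf 0x2d9861) (.leaf 0x2ecb2b659)) (.node (.leaf 0x29759) (.leaf 0x0)))) (.node (.node (.node (.leaf 0x3ad992c) (.leaf 0x4964a59)) (.node (.leaf 0x5759759) (.leaf 0x0))) (.node (.node (.leaf 0x3acba59) (.leaf 0x0)) (.node (.leaf 0xcc2dba59) (.leaf 0x0))))))))) (.node (.node (.node (.node (.node (.node (.node (.node (.leaf 0x21861) (.leaf 0x2c85992c)) (.node (.leaf 0x12c94b659) (.leaf 0x0))) (.node (.node (.leaf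 0x1995ba59) (.leaf 0x2530cb21)) (.node (.leaf 0x3a6192c) (.leaf 0x0)))) (.node (.node (.node (.leaf 0x216d9664) (.leaf 0xbb2c2d9)) (.node (.leaf 0x765859) (.leaf 0x0))) (.node (.node (.leaf 0x4adb) (.leaf 0x2cb2c)) (.node (.leaf 0x2b2cc) (.leaf 0x0))))) (.node (.node (.node (.node (.leaf 0x195d2d9) (.leaf 0x96530c)) (.node (.leaf 0x430c861759) (.leaf 0x0))) (.node (.node (.leaf 0x1b664) (.leaf 0xca64b2c)) (.node (.leaf 0x2bb2c321) (.leaf 0x0)))) (.node (.node (.node (.leaf 0x1d9596ec) (.leaf 0xb296ec)) (.node (.leaf 0x656d9659) (.leaf 0x0))) (.node (.node (.leaf 0xe96ecb21) (.leaf 0x0)) (.node (.leaf 0xec30b759) (.leaf 0x0)))))) (.node (.node (.node (.node (.node (.leaf 0x5d2d9659) (.leaf 0x5badb321)) (.node (.leaf 0x16eb759) (.leaf 0x0))) (.node (.node (.leaf 0x56ccb0c) (.leaf 0x5b75b2cc)) (.node (.leaf 0x242d9) (.leaf 0x0)))) (.node (.node (.node (.leaf 0x12b2dbad9) (.leaf 0x4b2194c)) (.node (.leaf 0x2dd2eba59)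 (.leaf 0x0))) (.node (.node (.leaf 0x2cb664) (.leaf 0x0)) (.node (.leaf 0x2ca616d9) (.leaf 0x0))))) (.node (.node (.node (.node (.leaf 0x216eb659) (.leaf 0x15badb321)) (.node (.leaf 0x592992c) (.leaf 0x0))) (.node (.node (.leaf 0x52eb65b) (.leaf 0x92c94b)) (.node (.leaf 0x19864b2c) (.leaf 0x0)))) (.node (.node (.node (.leaf 0x19659) (.leaf 0x15b2dd861)) (.node (.leaf 0x574c321) (.leaf 0x0))) (.node (.node (.leaf 0x532cb21) (.leaf 0x0)) (.node (.leaf 0x12c2ec859) (.leaf 0x0))))))) (.node (.node (.node (.node (.node (.node (.leaf 0x21659) (.leaf 0x4325664)) (.node (.leaf 0x32ecb21) (.leaf 0x0))) (.node (.node (.leaf 0x2b75d2db) (.leaf 0xadb30c)) (.node (.leaf 0x24ad9661) (.leaf 0x0)))) (.node (.node (.node (.leaf 0x642e96d9) (.leaf 0x4aeb759)) (.node (.leaf 0x14c95b659) (.leaf 0x0))) (.node (.node (.leaf 0x76590b659) (.leaf 0x1b75b2cc)) (.node (.leaf 0xb65b74b) (.leaf 0x0))))) (.node (.node (.node (.node (.leaf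 0x85d74b) (.leaf 0x1b2e9664)) (.node (.leaf 0x256d9864) (.leaf 0x0))) (.node (.node (.leaf 0xb659) (.leaf 0x1d959)) (.node (.leaf 0x85b2eb) (.leaf 0x0)))) (.node (.node (.node (.leaf 0x3add664) (.leaf 0x14c9616d9)) (.node (.leaf 0xacb2d9659) (.leaf 0x0))) (.node (.node (.leaf 0x2ca5b759) (.leaf 0x0)) (.node (.leaf 0x92b75d861) (.leaf 0x0)))))) (.node (.node (.node (.node (.node (.leaf 0x1b75bb0c) (.leaf 0xbadb32c)) (.node (.leaf 0x12592c861) (.leaf 0x0))) (.node (.node (.leaf 0x595b661) (.leaf 0x2174c32c)) (.node (.leaf 0xcb65b2d9) (.leaf 0x0)))) (.node (.node (.node (.leaf 0x2c96594c) (.leaf 0xb296eb2d9)) (.node (.leaf 0x12cadd6d9) (.leaf 0x0))) (.node (.node (.leaf 0xd994b2d9) (.leaf 0x0)) (.node (.leaf 0xe9759661) (.leaf 0x0))))) (.node (.node (.node (.node (.leaf 0x332b661) (.leaf 0x298642d9)) (.node (.leaf 0x1bb2594b) (.leaf 0x0))) (.node (.node (.leaf 0x2cb25864) (.leaf 0x24add6d9)) (.node (.leaf 0x64b2c)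 (.leaf 0x0)))) (.node (.node (.node (.leaf 0x4329959) (.leaf 0x5b761659)) (.node (.leaf 0x2bb256d9) (.leaf 0x0))) (.node (.node (.leaf 0x256cb2d9) (.leaf 0x0)) (.node (.leaf 0xaeba59) (.leaf 0x0)))))))) (.node (.node (.node (.node (.node (.node (.node (.leaf 0x592ba59) (.leaf 0x75b659)) (.node (.leaf 0x43296cb321) (.leaf 0x0))) (.node (.node (.leaf 0x3659861) (.leaf 0xa5d2d9)) (.node (.leaf 0x252d9659) (.leaf 0x0)))) (.node (.node (.node (.leaf 0xebadb30c) (.leaf 0x24add74b)) (.node (.leaf 0x2cb6eb659) (.leaf 0x0))) (.node (.node (.leaf 0xadd664) (.leaf 0x1296ccb21)) (.node (.leaf 0x3b21) (.leaf 0x0))))) (.node (.node (.node (.node (.leaf 0x36ec864ad9) (.leaf 0x12c321759)) (.node (.leaf 0x12caeb759) (.leaf 0x0))) (.node (.node (.leaf 0x664) (.leaf 0x2975d6d9)) (.node (.leaf 0x565b664) (.leaf 0x0)))) (.node (.node (.node (.leaf 0x32585d6d9) (.leaf 0xc325759)) (.node (.leaf 0x2965d759) (.leaf 0x0))) (.node (.node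 (.leaf 0x5b65d759) (.leaf 0x0)) (.node (.leaf 0x2590cb21) (.leaf 0x0)))))) (.node (.node (.node (.node (.node (.leaf 0x0) (.leaf 0x196ecad9)) (.node (.leaf 0x2165bb21) (.leaf 0x0))) (.node (.node (.leaf 0x864b2c321) (.leaf 0x1996594b)) (.node (.leaf 0x64ae96d9) (.leaf 0x0)))) (.node (.node (.node (.leaf 0x75d6eb659) (.leaf 0x4325861)) (.node (.leaf 0xdd3216d9) (.leaf 0x0))) (.node (.node (.leaf 0x3adbb21) (.leaf 0x0)) (.node (.leaf 0x159964aeb) (.leaf 0x0))))) (.node (.node (.node (.node (.leaf 0x6cb74c) (.leaf 0x15badb)) (.node (.leaf 0x2195ba59) (.leaf 0x0))) (.node (.node (.leaf 0x595b664) (.leaf 0x6ebad9)) (.node (.leaf 0x32cba59) (.leaf 0x0)))) (.node (.node (.node (.leaf 0x596dd659) (.leaf 0x5664321)) (.node (.leaf 0xecb0bad9) (.leaf 0x0))) (.node (.node (.leaf 0x16e9759) (.leaf 0x0)) (.node (.leaf 0x74b661) (.leaf 0x0))))))) (.node (.node (.node (.node (.node (.node (.leaf 0x75965b759) (.leaf 0xd994c94b))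 (.node (.leaf 0x332585b) (.leaf 0x0))) (.node (.node (.leaf 0xadd90b2d9) (.leaf 0x664b29659)) (.node (.leaf 0x1616cb321) (.leaf 0x0)))) (.node (.node (.node (.leaf 0x32cad9) (.leaf 0x6d992c)) (.node (.leaf 0xb2cb74b) (.leaf 0x0))) (.node (.node (.leaf 0xcb2b759) (.leaf 0x12c95d659)) (.node (.leaf 0xb0ba59) (.leaf 0x0))))) (.node (.node (.node (.node (.leaf 0x4865859) (.leaf 0xd992c2d9)) (.node (.leaf 0x3aec861) (.leaf 0x0))) (.node (.node (.leaf 0x3aec864ad9) (.leaf 0x56cc321)) (.node (.leaf 0x29665859) (.leaf 0x0)))) (.node (.node (.node (.leaf 0x2190c859) (.leaf 0xa5d6dd6d9)) (.node (.leaf 0x24acb2d9) (.leaf 0x0))) (.node (.node (.leaf 0x2992c) (.leaf 0x0)) (.node (.leaf 0xb2c32b759) (.leaf 0x0)))))) (.node (.node (.node (.node (.node (.leaf 0x4959861) (.leaf 0x36cb759)) (.node (.leaf 0x161959) (.leaf 0x0))) (.node (.node (.leaf 0xcb2cc) (.leaf 0x2d994b)) (.node (.leaf 0x256cbadb) (.leaf 0x0)))) (.node (.node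 (.node (.leaf 0x24acc94c) (.leaf 0x1618642d9)) (.node (.leaf 0x159659) (.leaf 0x0))) (.node (.node (.leaf 0x1b32530c) (.leaf 0x0)) (.node (.leaf 0x65d74bad9) (.leaf 0x0))))) (.node (.node (.node (.node (.leaf 0xbacc861) (.leaf 0x2c959)) (.node (.leaf 0x2c325861) (.leaf 0x0))) (.node (.node (.leaf 0x61659661) (.leaf 0x42dbb21)) (.node (.leaf 0x1d30c) (.leaf 0x0)))) (.node (.node (.node (.leaf 0x1b30c85b) (.leaf 0x1974b2cc)) (.node (.leaf 0x1b2eb) (.leaf 0x0))) (.node (.node (.leaf 0x2b6616ec) (.leaf 0x0)) (.node (.leaf 0x30c2d9759) (.leaf 0x0))))))))))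

/-- data -/
def clsT13 : Cfsg.Agent.HN.Trie :=
  (.node (.node (.node (.node (.node (.node (.node (.node (.node (.leaf 0x1baccb21) (.leaf 0x376594b)) (.node (.leaf 0x16dd759) (.leaf 0x0))) (.node (.node (.leaf 0x565bad9) (.leaf 0x196dd659)) (.node (.leaf 0xc94c859) (.leaf 0x0)))) (.node (.node (.node (.leaf 0x1d65b74b) (.leaf 0x2cb0c94b)) (.node (.leaf 0x4ad9) (.leaf 0x0))) (.node (.node (.leaf 0x2b6ec861) (.leaf 0x592b661)) (.node (.leaf 0x256cc32c) (.leaf 0x0))))) (.node (.node (.node (.node (.leaf 0x2eb661) (.leaf 0x65d74b)) (.node (.leaf 0x4add74b) (.leaf 0x0))) (.node (.node (.leaf 0x3216d9) (.leaf 0xebb25959)) (.node (.leaf 0x92c30bad9) (.leaf 0x0)))) (.node (.node (.node (.leaf 0x329959) (.leaf 0x12c30b759)) (.node (.leaf 0x2b764321) (.leaf 0x0))) (.node (.node (.leaf 0xa65861) (.leaf 0x0)) (.node (.leaf 0x15d665659) (.leaf 0x0)))))) (.node (.node (.node (.node (.node (.leaf 0x15d65b32c) (.leaf 0x64b21))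 (.node (.leaf 0xb32c) (.leaf 0x0))) (.node (.node (.leaf 0xb2bb216d9) (.leaf 0x15ba59)) (.node (.leaf 0x75d2d9659) (.leaf 0x0)))) (.node (.node (.node (.leaf 0x4ae96d9) (.leaf 0xdbb21)) (.node (.leaf 0x25959659) (.leaf 0x0))) (.node (.node (.leaf 0xacc321) (.leaf 0x15bb29659)) (.node (.leaf 0x10b6eb759) (.leaf 0x0))))) (.node (.node (.node (.node (.leaf 0xbb0c) (.leaf 0xb25664)) (.node (.leaf 0x56656d9) (.leaf 0x0))) (.node (.node (.leaf 0xcb256ec) (.leaf 0xc95b65b)) (.node (.leaf 0x196e96ec) (.leaf 0x0)))) (.node (.node (.node (.leaf 0x53256d9) (.leaf 0x1bb2c321)) (.node (.leaf 0xaec859) (.leaf 0x0))) (.node (.node (.leaf 0x76194c) (.leaf 0x0)) (.node (.leaf 0x616ec) (.leaf 0x0))))))) (.node (.node (.node (.node (.node (.node (.leaf 0x759865321) (.leaf 0x42d9661)) (.node (.leaf 0x14c96194c) (.leaf 0x0))) (.node (.node (.leaf 0xdb2d9659) (.leaf 0x1baec861)) (.node (.leaf 0xec85d659) (.leaf 0x0)))) (.node (.node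 (.node (.leaf 0x6eb661) (.leaf 0x15b764adb)) (.node (.leaf 0x2b2dbb21) (.leaf 0x0))) (.node (.node (.leaf 0x1ba5d2d9) (.leaf 0xec859)) (.node (.leaf 0x865864) (.leaf 0x0))))) (.node (.node (.node (.node (.leaf 0x6cc859) (.leaf 0x66192c)) (.node (.leaf 0xaeb74c) (.leaf 0x0))) (.node (.node (.leaf 0xcbad9) (.leaf 0x3b2c959)) (.node (.leaf 0x1864adb) (.leaf 0x0)))) (.node (.node (.node (.leaf 0x532194c) (.leaf 0xc85992c)) (.node (.leaf 0xcad9659) (.leaf 0x0))) (.node (.node (.leaf 0x2b6eb321) (.leaf 0x0)) (.node (.leaf 0x218616d9) (.leaf 0x0)))))) (.node (.node (.node (.node (.node (.leaf 0x59) (.leaf 0x25864)) (.node (.leaf 0x1d6dd664) (.leaf 0x0))) (.node (.node (.leaf 0x52cb664) (.leaf 0x64ad9664)) (.node (.leaf 0x4321659) (.leaf 0x0)))) (.node (.node (.node (.leaf 0x92c2cb759) (.leaf 0x5b74c2d9)) (.node (.leaf 0x194b759) (.leaf 0x0))) (.node (.node (.leaf 0x164b21864) (.leaf 0x0)) (.node (.leaf 0x1d90c861)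 (.leaf 0x0))))) (.node (.node (.node (.node (.leaf 0x2c961659) (.leaf 0x3accb21)) (.node (.leaf 0x49616d9) (.leaf 0x0))) (.node (.node (.leaf 0x3b25864) (.leaf 0x75d665321)) (.node (.leaf 0x42ec861) (.leaf 0x0)))) (.node (.node (.node (.leaf 0x2bb2c30c) (.leaf 0x52dba59)) (.node (.leaf 0x375d2db) (.leaf 0x0))) (.node (.node (.leaf 0x2bb25959) (.leaf 0x0)) (.node (.leaf 0x16cba59) (.leaf 0x0)))))))) (.node (.node (.node (.node (.node (.node (.node (.leaf 0xb74c) (.leaf 0xdd90cb21)) (.node (.leaf 0x2d96ec) (.leaf 0x0))) (.node (.node (.leaf 0x1764ad9) (.leaf 0x1bacb2db)) (.node (.leaf 0x32dbadb) (.leaf 0x0)))) (.node (.node (.node (.leaf 0x90b2d9) (.leaf 0xa5b2d9)) (.node (.leaf 0x159661) (.leaf 0x0))) (.node (.node (.leaf 0x12175ba59) (.leaf 0x574b74c)) (.node (.leaf 0x16cc32c) (.leaf 0x0))))) (.node (.node (.node (.node (.leaf 0x3ae9659) (.leaf 0xc96194c)) (.node (.leaf 0x6cb75d321) (.leaf 0x0))) (.node (.node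 (.leaf 0x32cc) (.leaf 0x2c)) (.node (.leaf 0x4a64adb) (.leaf 0x0)))) (.node (.node (.node (.leaf 0x25659) (.leaf 0x4b0c321)) (.node (.leaf 0x75b2eb) (.leaf 0x0))) (.node (.node (.leaf 0xbb2594b) (.leaf 0x0)) (.node (.leaf 0xb2ebad9) (.leaf 0x0)))))) (.node (.node (.node (.node (.node (.leaf 0x66585b) (.leaf 0x92975b659)) (.node (.leaf 0x15965b) (.leaf 0x0))) (.node (.node (.leaf 0x430b6eb659) (.leaf 0x1992c30c)) (.node (.leaf 0x430c864) (.leaf 0x0)))) (.node (.node (.node (.leaf 0x36ec864) (.leaf 0x24a5d2d9)) (.node (.leaf 0x1256cb321) (.leaf 0x0))) (.node (.node (.leaf 0x2b665659) (.leaf 0x0)) (.node (.leaf 0x2192c30c) (.leaf 0x0))))) (.node (.node (.node (.node (.leaf 0x48656d9) (.leaf 0x24a61759)) (.node (.leaf 0x486192c) (.leaf 0x0))) (.node (.node (.leaf 0x32994c) (.leaf 0xa5b30c959)) (.node (.leaf 0x3acb664) (.leaf 0x0)))) (.node (.node (.node (.leaf 0x15d665321) (.leaf 0x2cb0b759)) (.node (.leaf 0x10bad9)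 (.leaf 0x0))) (.node (.node (.leaf 0xc94bb21) (.leaf 0x0)) (.node (.leaf 0xb0c85b) (.leaf 0x0))))))) (.node (.node (.node (.node (.node (.node (.leaf 0x190c321) (.leaf 0xb6eb321)) (.node (.leaf 0x3325759) (.leaf 0x0))) (.node (.node (.leaf 0xc32592c) (.leaf 0x1b2cb759)) (.node (.leaf 0x2590c321) (.leaf 0x0)))) (.node (.node (.node (.leaf 0x2c86532c) (.leaf 0x32cc94b)) (.node (.leaf 0x186430b759) (.leaf 0x0))) (.node (.node (.leaf 0x592b659) (.leaf 0x10c94b321)) (.node (.leaf 0x3b0b759) (.leaf 0x0))))) (.node (.node (.node (.node (.leaf 0x5d659) (.leaf 0x3759)) (.node (.leaf 0x95d6ec) (.leaf 0x0))) (.node (.node (.leaf 0x85d6dd759) (.leaf 0x24a5b759)) (.node (.leaf 0x2cb0c859) (.leaf 0x0)))) (.node (.node (.node (.leaf 0xc2d9664) (.leaf 0x242dba59)) (.node (.leaf 0xdd6ccad9) (.leaf 0x0))) (.node (.node (.leaf 0x2b6616d9) (.leaf 0x0)) (.node (.leaf 0x12c2d9) (.leaf 0x0)))))) (.node (.node (.node (.node (.node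 (.leaf 0x430cb21) (.leaf 0x1d74b74b)) (.node (.leaf 0x2194b) (.leaf 0x0))) (.node (.node (.leaf 0x94c859) (.leaf 0x4a5d92c)) (.node (.leaf 0x15992cad9) (.leaf 0x0)))) (.node (.node (.node (.leaf 0x1599296d9) (.leaf 0x32eb659)) (.node (.leaf 0xb74c859) (.leaf 0x0))) (.node (.node (.leaf 0x2cb25959) (.leaf 0x0)) (.node (.leaf 0xdd665859) (.leaf 0x0))))) (.node (.node (.node (.node (.leaf 0x1995b661) (.leaf 0x2b6e9759)) (.node (.leaf 0xd97652d9) (.leaf 0x0))) (.node (.node (.leaf 0xd96cc321) (.leaf 0x5665659)) (.node (.leaf 0xdba59659) (.leaf 0x0)))) (.node (.node (.node (.leaf 0x190bb21) (.leaf 0xdd65d759)) (.node (.leaf 0x16432c) (.leaf 0x0))) (.node (.node (.leaf 0xb2d992c) (.leaf 0x0)) (.node (.leaf 0xdbadbb21) (.leaf 0x0))))))))) (.node (.node (.node (.node (.node (.node (.node (.node (.leaf 0xb659861) (.leaf 0xc32c)) (.node (.leaf 0x32ebad9) (.leaf 0x0))) (.node (.node (.leaf 0x1d32c32c) (.leaf 0x1b2ecb21))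 (.node (.leaf 0x12b75992c) (.leaf 0x0)))) (.node (.node (.node (.leaf 0x5b664) (.leaf 0x2532c32c)) (.node (.leaf 0xb2ba5b659) (.leaf 0x0))) (.node (.node (.leaf 0x32c94b) (.leaf 0x4a59)) (.node (.leaf 0x2badb) (.leaf 0x0))))) (.node (.node (.node (.node (.leaf 0xe9759) (.leaf 0x375d861)) (.node (.leaf 0x194c94b) (.leaf 0x0))) (.node (.node (.leaf 0x36cb661) (.leaf 0xb75b759)) (.node (.leaf 0x12c85badb) (.leaf 0x0)))) (.node (.node (.node (.leaf 0xeb74b759) (.leaf 0xdd90bb21)) (.node (.leaf 0x15d2dbb21) (.leaf 0x0))) (.node (.node (.leaf 0x14c94b) (.leaf 0x0)) (.node (.leaf 0xadb321) (.leaf 0x0)))))) (.node (.node (.node (.node (.node (.leaf 0x3664) (.leaf 0xb74b321)) (.node (.leaf 0xcb2b664) (.leaf 0x0))) (.node (.node (.leaf 0x325321) (.leaf 0x92b2cc)) (.node (.leaf 0x4859661) (.leaf 0x0)))) (.node (.node (.node (.leaf 0x3a5badb) (.leaf 0x652cb2d9)) (.node (.leaf 0x2185d6ec) (.leaf 0x0))) (.node (.node (.leaf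 0x16d9) (.leaf 0x0)) (.node (.leaf 0x590c861) (.leaf 0x0))))) (.node (.node (.node (.node (.leaf 0xa61659) (.leaf 0x192b2d9)) (.node (.leaf 0x64ad9) (.leaf 0x0))) (.node (.node (.leaf 0x75b74c) (.leaf 0x85badb)) (.node (.leaf 0x16592bad9) (.leaf 0x0)))) (.node (.node (.node (.leaf 0x2165b659) (.leaf 0x964b21)) (.node (.leaf 0x575b659) (.leaf 0x0))) (.node (.node (.leaf 0x2c85d2db) (.leaf 0x0)) (.node (.leaf 0x30c96194c) (.leaf 0x0))))))) (.node (.node (.node (.node (.node (.node (.leaf 0x19864) (.leaf 0x1d659)) (.node (.leaf 0xdd864) (.leaf 0x0))) (.node (.node (.leaf 0xeba5b659) (.leaf 0x36ec321)) (.node (.leaf 0x1d2db) (.leaf 0x0)))) (.node (.node (.node (.leaf 0xc32c30c) (.leaf 0x56dd85b)) (.node (.leaf 0x16dd6ec) (.leaf 0x0))) (.node (.node (.leaf 0x24321759) (.leaf 0x4ad9759)) (.node (.leaf 0x2cb252db) (.leaf 0x0))))) (.node (.node (.node (.node (.leaf 0x332c859) (.leaf 0x5d6cba59)) (.node (.leaf 0x24b2cb0c)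 (.leaf 0x0))) (.node (.node (.leaf 0x1656d9864) (.leaf 0x9596dd659)) (.node (.leaf 0x1d861759) (.leaf 0x0)))) (.node (.node (.node (.leaf 0xb25864) (.leaf 0xdbae96d9)) (.node (.leaf 0x656d9) (.leaf 0x0))) (.node (.node (.leaf 0x196594c) (.leaf 0x0)) (.node (.leaf 0x30c859) (.leaf 0x0)))))) (.node (.node (.node (.node (.node (.leaf 0x15b30c) (.leaf 0x17596ec)) (.node (.leaf 0x165861) (.leaf 0x0))) (.node (.node (.leaf 0x4b296ec) (.leaf 0x12c96194c)) (.node (.leaf 0x75bacb321) (.leaf 0x0)))) (.node (.node (.node (.leaf 0x1d6cc861) (.leaf 0x75b759)) (.node (.leaf 0xb75b32c) (.leaf 0x0))) (.node (.node (.leaf 0x1d75bad9) (.leaf 0x0)) (.node (.leaf 0x4b2ba5b659) (.leaf 0x0))))) (.node (.node (.node (.node (.leaf 0x1d964321) (.leaf 0x6659616d9)) (.node (.leaf 0x94c30c) (.leaf 0x0))) (.node (.node (.leaf 0x1861) (.leaf 0x86432532c)) (.node (.leaf 0x595d2d9) (.leaf 0x0)))) (.node (.node (.node (.leaf 0x4a6532c) (.leaf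 0x2185b74b)) (.node (.leaf 0x61929864) (.leaf 0x0))) (.node (.node (.leaf 0x1216cbad9) (.leaf 0x0)) (.node (.leaf 0x325859) (.leaf 0x0)))))))) (.node (.node (.node (.node (.node (.node (.node (.leaf 0x12165bb21) (.leaf 0x2ebad9659)) (.node (.leaf 0x32c959) (.leaf 0x0))) (.node (.node (.leaf 0x659) (.leaf 0xadd6656d9)) (.node (.leaf 0xa59) (.leaf 0x0)))) (.node (.node (.node (.leaf 0xebacb65b) (.leaf 0x6192bad9)) (.node (.leaf 0x4961759) (.leaf 0x0))) (.node (.node (.leaf 0x252eb74b) (.leaf 0xbb2c959)) (.node (.leaf 0x36eb661) (.leaf 0x0))))) (.node (.node (.node (.node (.leaf 0x8616cb321) (.leaf 0xe9861759)) (.node (.leaf 0x532c959) (.leaf 0x0))) (.node (.node (.leaf 0x56eb759) (.leaf 0x192c94b)) (.node (.leaf 0x1b2dd6ec) (.leaf 0x0)))) (.node (.node (.node (.leaf 0xebad9659) (.leaf 0x75b2d9)) (.node (.leaf 0xb6ecad9) (.leaf 0x0))) (.node (.node (.leaf 0x3ad9) (.leaf 0x0)) (.node (.leaf 0xc85d6d9) (.leaf 0x0))))))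 (.node (.node (.node (.node (.node (.leaf 0x42cc) (.leaf 0x432bad9)) (.node (.leaf 0x366585b) (.leaf 0x0))) (.node (.node (.leaf 0x10b65d759) (.leaf 0x965321)) (.node (.leaf 0x96430c) (.leaf 0x0)))) (.node (.node (.node (.leaf 0x66430c) (.leaf 0x2dbb2c)) (.node (.leaf 0x590b661) (.leaf 0x0))) (.node (.node (.leaf 0x3665861) (.leaf 0x0)) (.node (.leaf 0x2cb2c321) (.leaf 0x0))))) (.node (.node (.node (.node (.leaf 0x37616ec) (.leaf 0xecb2b659)) (.node (.leaf 0x2196532c) (.leaf 0x0))) (.node (.node (.leaf 0x61759659) (.leaf 0x2592c321)) (.node (.leaf 0xb65d6d9) (.leaf 0x0)))) (.node (.node (.node (.leaf 0xec94c) (.leaf 0x6cb6ec861)) (.node (.leaf 0x86192c) (.leaf 0x0))) (.node (.node (.leaf 0x24b29864) (.leaf 0x0)) (.node (.leaf 0x1bad9664) (.leaf 0x0))))))) (.node (.node (.node (.node (.node (.node (.leaf 0x76592b659) (.leaf 0xb65992c)) (.node (.leaf 0x42eb659) (.leaf 0x0))) (.node (.node (.leaf 0x1d6cb2d9) (.leaf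 0x15d6dd859)) (.node (.leaf 0xb0c861659) (.leaf 0x0)))) (.node (.node (.node (.leaf 0x332532c) (.leaf 0x15b74b759)) (.node (.leaf 0x375965b759) (.leaf 0x0))) (.node (.node (.leaf 0x296dd664) (.leaf 0x12c94c959)) (.node (.leaf 0x24325759) (.leaf 0x0))))) (.node (.node (.node (.node (.leaf 0x2b65d759) (.leaf 0x10b6ecad9)) (.node (.leaf 0x2eb74b) (.leaf 0x0))) (.node (.node (.leaf 0x10c32592c) (.leaf 0x76594b)) (.node (.leaf 0x575b2d9) (.leaf 0x0)))) (.node (.node (.node (.leaf 0x494b659) (.leaf 0xc325859)) (.node (.leaf 0x2992c859) (.leaf 0x0))) (.node (.node (.leaf 0x1256ec) (.leaf 0x0)) (.node (.leaf 0x192c959) (.leaf 0x0)))))) (.node (.node (.node (.node (.node (.leaf 0x86594b) (.leaf 0xec32c2d9)) (.node (.leaf 0x74b2d9659) (.leaf 0x0))) (.node (.node (.leaf 0xcb65b) (.leaf 0xc329659)) (.node (.leaf 0xc965321) (.leaf 0x0)))) (.node (.node (.node (.leaf 0x32e9664) (.leaf 0x1b2dd861)) (.node (.leaf 0x1256d994c)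 (.leaf 0x0))) (.node (.node (.leaf 0x2dd864) (.leaf 0x0)) (.node (.leaf 0x2975d2d9) (.leaf 0x0))))) (.node (.node (.node (.node (.leaf 0x5d65b659) (.leaf 0x2990c859)) (.node (.leaf 0x532c) (.leaf 0x0))) (.node (.node (.leaf 0x2cb2d9) (.leaf 0x29665321)) (.node (.leaf 0x2b765321) (.leaf 0x0)))) (.node (.node (.node (.leaf 0x618642d9) (.leaf 0x3325321)) (.node (.leaf 0xd992c) (.leaf 0x0))) (.node (.node (.leaf 0x95b30c) (.leaf 0x0)) (.node (.leaf 0xe992c861) (.leaf 0x0))))))))))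

/-- data -/
def clsT14 : Cfsg.Agent.HN.Trie :=
  (.node (.node (.node (.node (.node (.node (.node (.node (.node (.leaf 0x74cb2c321) (.leaf 0x1d6ec861)) (.node (.leaf 0x65d6ec859) (.leaf 0x0))) (.node (.node (.leaf 0x2cc859) (.leaf 0x253216d9)) (.node (.leaf 0x6eb75992c) (.leaf 0x0)))) (.node (.node (.node (.leaf 0x32eb759) (.leaf 0x1992b74b)) (.node (.leaf 0x1d761959) (.leaf 0x0))) (.node (.node (.leaf 0x1975ba59) (.leaf 0x1d74c2d9)) (.node (.leaf 0x2ccb25664) (.leaf 0x0))))) (.node (.node (.node (.node (.leaf 0x6cbadb) (.leaf 0x375b661)) (.node (.leaf 0xb2594b) (.leaf 0x0))) (.node (.node (.leaf 0x2165b321) (.leaf 0x95d65b2d9)) (.node (.leaf 0x1ba5b759) (.leaf 0x0)))) (.node (.node (.node (.leaf 0xa6532c) (.leaf 0x96530b659)) (.node (.leaf 0x4a656d9) (.leaf 0x0))) (.node (.node (.leaf 0x5959659) (.leaf 0x0)) (.node (.leaf 0x6594b321) (.leaf 0x0)))))) (.node (.node (.node (.node (.node (.leaf 0xb0c32c) (.leaf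 0x494c859)) (.node (.leaf 0xadbad9) (.leaf 0x0))) (.node (.node (.leaf 0x258596ec) (.leaf 0x12c861)) (.node (.leaf 0x52cb2d9) (.leaf 0x0)))) (.node (.node (.node (.leaf 0x596530c) (.leaf 0x2532c85b)) (.node (.leaf 0xcb0c85b) (.leaf 0x0))) (.node (.node (.leaf 0x75b2cc) (.leaf 0x52cb74b)) (.node (.leaf 0xb74b2cc) (.leaf 0x0))))) (.node (.node (.node (.node (.leaf 0x2ec864) (.leaf 0x3acb759)) (.node (.leaf 0x165d2d9) (.leaf 0x0))) (.node (.node (.leaf 0x1b2eb659) (.leaf 0x192c)) (.node (.leaf 0x590cb21) (.leaf 0x0)))) (.node (.node (.node (.leaf 0x590c94b) (.leaf 0x1b30cb2c)) (.node (.leaf 0x596192c) (.leaf 0x0))) (.node (.node (.leaf 0x2b75d321) (.leaf 0x0)) (.node (.leaf 0x5929864) (.leaf 0x0))))))) (.node (.node (.node (.node (.node (.node (.leaf 0x24329864) (.leaf 0x10cb2b6ec)) (.node (.leaf 0xb74c321) (.leaf 0x0))) (.node (.node (.leaf 0x2bb0b759) (.leaf 0xdd959)) (.node (.leaf 0x365bb21) (.leaf 0x0))))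 (.node (.node (.node (.leaf 0x85b74b) (.leaf 0x2bb2b2d9)) (.node (.leaf 0x37656d9) (.leaf 0x0))) (.node (.node (.leaf 0x19665321) (.leaf 0x66532c)) (.node (.leaf 0x30b2dd659) (.leaf 0x0))))) (.node (.node (.node (.node (.leaf 0x3b296ec) (.leaf 0xdd8642d9)) (.node (.leaf 0x595b2d9) (.leaf 0x0))) (.node (.node (.leaf 0xdd75b2d9) (.leaf 0x12574b2d9)) (.node (.leaf 0x532c859) (.leaf 0x0)))) (.node (.node (.node (.leaf 0x1b76530b659) (.leaf 0x532b659)) (.node (.leaf 0x2ba5d759) (.leaf 0x0))) (.node (.node (.leaf 0x52eba59) (.leaf 0x0)) (.node (.leaf 0xcc30c) (.leaf 0x0)))))) (.node (.node (.node (.node (.node (.leaf 0x321861) (.leaf 0x259596d9)) (.node (.leaf 0x52dd2db) (.leaf 0x0))) (.node (.node (.leaf 0x432b664) (.leaf 0x6dd759)) (.node (.leaf 0x190c861659) (.leaf 0x0)))) (.node (.node (.node (.leaf 0x18596d9) (.leaf 0x15d861)) (.node (.leaf 0xeb759) (.leaf 0x0))) (.node (.node (.leaf 0x175d2d9) (.leaf 0x0))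 (.node (.leaf 0x2b6cc861) (.leaf 0x0))))) (.node (.node (.node (.node (.leaf 0x14bae9659) (.leaf 0x92cb21)) (.node (.leaf 0xcc94bb21) (.leaf 0x0))) (.node (.node (.leaf 0x1986594b) (.leaf 0x2cb75d321)) (.node (.leaf 0x594c) (.leaf 0x0)))) (.node (.node (.node (.leaf 0x6596594b) (.leaf 0x252db)) (.node (.leaf 0xa5bb0c) (.leaf 0x0))) (.node (.node (.leaf 0xcc2cb759) (.leaf 0x0)) (.node (.leaf 0x75badb) (.leaf 0x0)))))))) (.node (.node (.node (.node (.node (.node (.node (.leaf 0xd994c) (.leaf 0xcb65bb2c)) (.node (.leaf 0x3aeb661) (.leaf 0x0))) (.node (.node (.leaf 0x2190c85b) (.leaf 0x2b2d9)) (.node (.leaf 0xeb30c959) (.leaf 0x0)))) (.node (.node (.node (.leaf 0x330c85b) (.leaf 0x56cb2d9)) (.node (.leaf 0x3acc861) (.leaf 0x0))) (.node (.node (.leaf 0x2965ba59) (.leaf 0x195b661)) (.node (.leaf 0x5d75b2eb) (.leaf 0x0))))) (.node (.node (.node (.node (.leaf 0x253256d9) (.leaf 0x330c959)) (.node (.leaf 0x1b75d6eb659)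 (.leaf 0x0))) (.node (.node (.leaf 0x365b) (.leaf 0x42eb74b)) (.node (.leaf 0x1d75b2cc) (.leaf 0x0)))) (.node (.node (.node (.leaf 0x52dbb21) (.leaf 0x14c94c2d9)) (.node (.leaf 0x12b75d321) (.leaf 0x0))) (.node (.node (.leaf 0xdd965959) (.leaf 0x0)) (.node (.leaf 0x2590c959) (.leaf 0x0)))))) (.node (.node (.node (.node (.node (.leaf 0x121861) (.leaf 0x2b6ec32c)) (.node (.leaf 0x2b321664) (.leaf 0x0))) (.node (.node (.leaf 0x8619656d9) (.leaf 0x2c2cc32c)) (.node (.leaf 0xa5d759) (.leaf 0x0)))) (.node (.node (.node (.leaf 0xdbadb32c) (.leaf 0x4a5b661)) (.node (.leaf 0xebaccad9) (.leaf 0x0))) (.node (.node (.leaf 0x5b321) (.leaf 0x0)) (.node (.leaf 0x332194b759) (.leaf 0x0))))) (.node (.node (.node (.node (.leaf 0x2b74c859) (.leaf 0x15b3256d9)) (.node (.leaf 0x2532194c) (.leaf 0x0))) (.node (.node (.leaf 0x256dd759) (.leaf 0x12c2cba59)) (.node (.leaf 0xec8616d9) (.leaf 0x0)))) (.node (.node (.node (.leaf 0xcb74b)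 (.leaf 0x3aec85b)) (.node (.leaf 0x14ba5b659) (.leaf 0x0))) (.node (.node (.leaf 0x36ec859) (.leaf 0x0)) (.node (.leaf 0x1216eb321) (.leaf 0x0))))))) (.node (.node (.node (.node (.node (.node (.leaf 0x1b30c) (.leaf 0x164b2b659)) (.node (.leaf 0x2532bad9) (.leaf 0x0))) (.node (.node (.leaf 0x964adb321) (.leaf 0xeb32c32c)) (.node (.leaf 0xec85d6d9) (.leaf 0x0)))) (.node (.node (.node (.leaf 0x195b2d9) (.leaf 0x575b65b)) (.node (.leaf 0x5861) (.leaf 0x0))) (.node (.node (.leaf 0xd9759) (.leaf 0x75ba59)) (.node (.leaf 0x24b0b759) (.leaf 0x0))))) (.node (.node (.node (.node (.leaf 0xaeb6eb659) (.leaf 0x664325659)) (.node (.leaf 0x4a5ba59) (.leaf 0x0))) (.node (.node (.leaf 0x1d74bad9) (.leaf 0x252dd759)) (.node (.leaf 0x252eb2d9) (.leaf 0x0)))) (.node (.node (.node (.leaf 0x190b2db) (.leaf 0x12594b659)) (.node (.leaf 0x52db30c) (.leaf 0x0))) (.node (.node (.leaf 0x52d9659) (.leaf 0x0)) (.node (.leaf 0x432b74b) (.leaf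 0x0)))))) (.node (.node (.node (.node (.node (.leaf 0x15d321) (.leaf 0xb65d6ec)) (.node (.leaf 0xd994b) (.leaf 0x0))) (.node (.node (.leaf 0x94b661) (.leaf 0x3b2b759)) (.node (.leaf 0x1badd2db) (.leaf 0x0)))) (.node (.node (.node (.leaf 0x36cc32c) (.leaf 0x16ccb21)) (.node (.leaf 0x1d765321) (.leaf 0x0))) (.node (.node (.leaf 0x1296dd664) (.leaf 0x0)) (.node (.leaf 0x2c85d6d9) (.leaf 0x0))))) (.node (.node (.node (.node (.leaf 0xbad9661) (.leaf 0x432c2d9)) (.node (.leaf 0xcb75d321) (.leaf 0x0))) (.node (.node (.leaf 0x642d9) (.leaf 0x94c861)) (.node (.leaf 0x216e96d9) (.leaf 0x0)))) (.node (.node (.node (.leaf 0x2cbad9) (.leaf 0x2bb25864)) (.node (.leaf 0xe995b2d9) (.leaf 0x0))) (.node (.node (.leaf 0x12974b2d9) (.leaf 0x0)) (.node (.leaf 0x566532c) (.leaf 0x0))))))))) (.node (.node (.node (.node (.node (.node (.node (.node (.leaf 0xccad9) (.leaf 0x596dd321)) (.node (.leaf 0x16592c) (.leaf 0x0))) (.node (.node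 (.leaf 0x2b30c85b) (.leaf 0x1badb)) (.node (.leaf 0x1986532c) (.leaf 0x0)))) (.node (.node (.node (.leaf 0x36cb2d9) (.leaf 0x4aeb321)) (.node (.leaf 0x3664b21) (.leaf 0x0))) (.node (.node (.leaf 0x32c861) (.leaf 0x6595b664)) (.node (.leaf 0x1d32592c) (.leaf 0x0))))) (.node (.node (.node (.node (.leaf 0x21865864) (.leaf 0x59864b2c)) (.node (.leaf 0x2995b65b) (.leaf 0x0))) (.node (.node (.leaf 0x90bad9) (.leaf 0x1965321)) (.node (.leaf 0x4b2992c) (.leaf 0x0)))) (.node (.node (.node (.leaf 0x2594b659) (.leaf 0x15d6ec859)) (.node (.leaf 0x2b659861) (.leaf 0x0))) (.node (.node (.leaf 0x374b74b) (.leaf 0x0)) (.node (.leaf 0x61759) (.leaf 0x0)))))) (.node (.node (.node (.node (.node (.leaf 0x661) (.leaf 0xb0c32b759)) (.node (.leaf 0x190ba59) (.leaf 0x0))) (.node (.node (.leaf 0x616eb321) (.leaf 0xc30b6ec)) (.node (.leaf 0x5b659) (.leaf 0x0)))) (.node (.node (.node (.leaf 0xcb2c959) (.leaf 0x5b32b759)) (.node (.leaf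 0x1965ba59) (.leaf 0x0))) (.node (.node (.leaf 0xcb0c864) (.leaf 0x0)) (.node (.leaf 0xeba59) (.leaf 0x0))))) (.node (.node (.node (.node (.leaf 0x12194c) (.leaf 0x2b74b321)) (.node (.leaf 0x75b65b) (.leaf 0x0))) (.node (.node (.leaf 0x10b2ccb21) (.leaf 0x125664)) (.node (.leaf 0x256ecb21) (.leaf 0x0)))) (.node (.node (.node (.leaf 0x121659) (.leaf 0x1965664)) (.node (.leaf 0x2b65d6d9) (.leaf 0x0))) (.node (.node (.leaf 0x594b659) (.leaf 0x0)) (.node (.leaf 0x75d665659) (.leaf 0x0))))))) (.node (.node (.node (.node (.node (.node (.leaf 0x121864) (.leaf 0x65baccad9)) (.node (.leaf 0x53216d9) (.leaf 0x0))) (.node (.node (.leaf 0xcb6ec321) (.leaf 0x2192cad9)) (.node (.leaf 0x1d74b) (.leaf 0x0)))) (.node (.node (.node (.leaf 0x32eb664) (.leaf 0x2c95d659)) (.node (.leaf 0x3adb30c) (.leaf 0x0))) (.node (.node (.leaf 0x1d6dd2d9) (.leaf 0x2cb0cb21)) (.node (.leaf 0x1b74b759) (.leaf 0x0))))) (.node (.node (.node (.node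 (.leaf 0x1d2dd664) (.leaf 0xc85d929659)) (.node (.leaf 0x496594b) (.leaf 0x0))) (.node (.node (.leaf 0x242cc) (.leaf 0x74c30c)) (.node (.leaf 0x85bb21) (.leaf 0x0)))) (.node (.node (.node (.leaf 0x16585d6d9) (.leaf 0x6dd74bad9)) (.node (.leaf 0x94c) (.leaf 0x0))) (.node (.node (.leaf 0x1859661) (.leaf 0x0)) (.node (.leaf 0xcb30c) (.leaf 0x0)))))) (.node (.node (.node (.node (.node (.leaf 0x56e9659) (.leaf 0x12c2dbad9)) (.node (.leaf 0xb21864) (.leaf 0x0))) (.node (.node (.leaf 0x90ba59) (.leaf 0x432592c)) (.node (.leaf 0x15bb2c959) (.leaf 0x0)))) (.node (.node (.node (.leaf 0x64ae9659) (.leaf 0x30b74b)) (.node (.leaf 0x92b759) (.leaf 0x0))) (.node (.node (.leaf 0x4a5badb) (.leaf 0x0)) (.node (.leaf 0x2996430c) (.leaf 0x0))))) (.node (.node (.node (.node (.leaf 0x121959) (.leaf 0x94bad9)) (.node (.leaf 0xb0cad9) (.leaf 0x0))) (.node (.node (.leaf 0x216cc321) (.leaf 0x56d992c)) (.node (.leaf 0x2ca64b21) (.leaf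 0x0)))) (.node (.node (.node (.leaf 0x574b2d9) (.leaf 0x2ba5bb0c)) (.node (.leaf 0xe992cad9) (.leaf 0x0))) (.node (.node (.leaf 0x1baccb2c) (.leaf 0x0)) (.node (.leaf 0x566592c) (.leaf 0x0)))))))) (.node (.node (.node (.node (.node (.node (.node (.leaf 0x10c2eb759) (.leaf 0x5d6eb659)) (.node (.leaf 0x92bacb321) (.leaf 0x0))) (.node (.node (.leaf 0x32dbb21) (.leaf 0x1596dd659)) (.node (.leaf 0x14b75d321) (.leaf 0x0)))) (.node (.node (.node (.leaf 0x1d92c321) (.leaf 0x95d6d9)) (.node (.leaf 0x59865959) (.leaf 0x0))) (.node (.node (.leaf 0x164325759) (.leaf 0x15b74c)) (.node (.leaf 0x24b25959) (.leaf 0x0))))) (.node (.node (.node (.node (.leaf 0x92c959) (.leaf 0x565b759)) (.node (.leaf 0x2c32192c) (.leaf 0x0))) (.node (.node (.leaf 0x1b665321) (.leaf 0xd9759661)) (.node (.leaf 0x1252d9664) (.leaf 0x0)))) (.node (.node (.node (.leaf 0xbb2c321) (.leaf 0x14baeb2d9)) (.node (.leaf 0xdd85b) (.leaf 0x0))) (.node (.node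 (.leaf 0x65929959) (.leaf 0x0)) (.node (.leaf 0x5929659) (.leaf 0x0)))))) (.node (.node (.node (.node (.node (.leaf 0x6cb661) (.leaf 0x92b74c)) (.node (.leaf 0x24adb32c) (.leaf 0x0))) (.node (.node (.leaf 0xcae96d9) (.leaf 0xc95b659)) (.node (.leaf 0x1b65bb2c) (.leaf 0x0)))) (.node (.node (.node (.leaf 0x32d9661) (.leaf 0x864a59659)) (.node (.leaf 0x1b2cb74b) (.leaf 0x0))) (.node (.node (.leaf 0x16ccb0c) (.leaf 0x0)) (.node (.leaf 0xadd2eba59) (.leaf 0x0))))) (.node (.node (.node (.node (.leaf 0xa6585b) (.leaf 0xa6190ba59)) (.node (.leaf 0xec3256d9) (.leaf 0x0))) (.node (.node (.leaf 0x616cba59) (.leaf 0x12badb30c)) (.node (.leaf 0x95b661) (.leaf 0x0)))) (.node (.node (.node (.leaf 0x1d2eb661) (.leaf 0x4b256ec)) (.node (.leaf 0x1d6d994c) (.leaf 0x0))) (.node (.node (.leaf 0x6616ebad9) (.leaf 0x0)) (.node (.leaf 0x4ad96d9) (.leaf 0x0))))))) (.node (.node (.node (.node (.node (.node (.leaf 0x12bacba59) (.leaf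 0x125759759)) (.node (.leaf 0xadb30b6ec) (.leaf 0x0))) (.node (.node (.leaf 0x65b32b759) (.leaf 0x5bb296d9)) (.node (.leaf 0x2c30c) (.leaf 0x0)))) (.node (.node (.node (.leaf 0x15bad9659) (.leaf 0x175d66192c)) (.node (.leaf 0x6175bad9) (.leaf 0x0))) (.node (.node (.leaf 0xdb30b6ec) (.leaf 0x365992c)) (.node (.leaf 0xb2badbad9) (.leaf 0x0))))) (.node (.node (.node (.node (.leaf 0x12194c861) (.leaf 0x965659)) (.node (.leaf 0x65d659) (.leaf 0x0))) (.node (.node (.leaf 0x494c861759) (.leaf 0x66594b)) (.node (.leaf 0xa6432c) (.leaf 0x0)))) (.node (.node (.node (.leaf 0x29861759) (.leaf 0x2cb0c864)) (.node (.leaf 0x195badb) (.leaf 0x0))) (.node (.node (.leaf 0x36e96d9) (.leaf 0x0)) (.node (.leaf 0x4a616d9) (.leaf 0x0)))))) (.node (.node (.node (.node (.node (.leaf 0x1864ad9) (.leaf 0x3325861)) (.node (.leaf 0x25861864) (.leaf 0x0))) (.node (.node (.leaf 0x6cc85b) (.leaf 0x495d321)) (.node (.leaf 0x3a6594c) (.leaf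 0x0)))) (.node (.node (.node (.leaf 0x619616d9) (.leaf 0x12c94c)) (.node (.leaf 0x8656dd6d9) (.leaf 0x0))) (.node (.node (.leaf 0x92c959659) (.leaf 0x0)) (.node (.leaf 0x2995b664) (.leaf 0x0))))) (.node (.node (.node (.node (.leaf 0x759861) (.leaf 0xa64b29659)) (.node (.leaf 0x12574c321) (.leaf 0x0))) (.node (.node (.leaf 0x6190c859) (.leaf 0x1992b74b659)) (.node (.leaf 0x1994cb21) (.leaf 0x0)))) (.node (.node (.node (.leaf 0xd98642d9) (.leaf 0x2bacb2d9)) (.node (.leaf 0x19861759) (.leaf 0x0))) (.node (.node (.leaf 0x95bb0c) (.leaf 0x0)) (.node (.leaf 0x5d90bad9) (.leaf 0x0))))))))))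

/-- data -/
def clsT15 : Cfsg.Agent.HN.Trie :=
  (.node (.node (.node (.node (.node (.node (.node (.node (.node (.leaf 0x85b664) (.leaf 0x25859)) (.node (.leaf 0x6574c321) (.leaf 0x0))) (.node (.node (.leaf 0x2cb2db) (.leaf 0x16592ba59)) (.node (.leaf 0x3a5d759) (.leaf 0x0)))) (.node (.node (.node (.leaf 0x5959) (.leaf 0x4b25959)) (.node (.leaf 0x19616d9) (.leaf 0x0))) (.node (.node (.leaf 0x32eb74b) (.leaf 0x194b661)) (.node (.leaf 0x24aeb759) (.leaf 0x0))))) (.node (.node (.node (.node (.leaf 0x6656d9) (.leaf 0xdd65b321)) (.node (.leaf 0x296dd864) (.leaf 0x0))) (.node (.node (.leaf 0x642d9659) (.leaf 0x216ec94b)) (.node (.leaf 0x8643256d9) (.leaf 0x0)))) (.node (.node (.node (.leaf 0x32cb0b2d9) (.leaf 0x2c30bad9)) (.node (.leaf 0x5961959) (.leaf 0x0))) (.node (.node (.leaf 0x330cb2c) (.leaf 0x0)) (.node (.leaf 0xcba59) (.leaf 0x0)))))) (.node (.node (.node (.node (.node (.leaf 0x3321864) (.leaf 0x2dd861))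 (.node (.leaf 0xb2dd759) (.leaf 0x0))) (.node (.node (.leaf 0x52dd6656d9) (.leaf 0xad965b)) (.node (.leaf 0x1992ba59) (.leaf 0x0)))) (.node (.node (.node (.leaf 0x864321) (.leaf 0x12c95b759)) (.node (.leaf 0x2165d6ec) (.leaf 0x0))) (.node (.node (.leaf 0x495b2cc) (.leaf 0x0)) (.node (.leaf 0x5992c959) (.leaf 0x0))))) (.node (.node (.node (.node (.leaf 0x5d2cb664) (.leaf 0x195b74c)) (.node (.leaf 0x2966192c) (.leaf 0x0))) (.node (.node (.leaf 0x3acb74b659) (.leaf 0x64ad9661)) (.node (.leaf 0x12baeb321) (.leaf 0x0)))) (.node (.node (.node (.leaf 0x430b659) (.leaf 0x1d2cba59)) (.node (.leaf 0x596ebad9) (.leaf 0x0))) (.node (.node (.leaf 0x92b74b659) (.leaf 0x0)) (.node (.leaf 0x43256ec) (.leaf 0x0))))))) (.node (.node (.node (.node (.node (.node (.leaf 0x19929959) (.leaf 0x2190b659)) (.node (.leaf 0xba59759) (.leaf 0x0))) (.node (.node (.leaf 0x585d659) (.leaf 0x252cb664)) (.node (.leaf 0x30b2eb659) (.leaf 0x0))))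 (.node (.node (.node (.leaf 0x6ec859) (.leaf 0x4a5b65b)) (.node (.leaf 0x4b2c2d9) (.leaf 0x0))) (.node (.node (.leaf 0x325759) (.leaf 0xa616d9)) (.node (.leaf 0x10b2dd659) (.leaf 0x0))))) (.node (.node (.node (.node (.leaf 0x565bb21) (.leaf 0xdd6dd859)) (.node (.leaf 0x15b2eb) (.leaf 0x0))) (.node (.node (.leaf 0xcca64ad9) (.leaf 0x566585b)) (.node (.leaf 0x95d6eb659) (.leaf 0x0)))) (.node (.node (.node (.leaf 0x16eb75b2cc) (.leaf 0xd96eb321)) (.node (.leaf 0xcbadb) (.leaf 0x0))) (.node (.node (.leaf 0x30c864) (.leaf 0x0)) (.node (.leaf 0x59864) (.leaf 0x0)))))) (.node (.node (.node (.node (.node (.leaf 0x121659864) (.leaf 0x12b74b)) (.node (.leaf 0x32cb759) (.leaf 0x0))) (.node (.node (.leaf 0x296ebad9) (.leaf 0x75bad9)) (.node (.leaf 0x16dd6ccad9) (.leaf 0x0)))) (.node (.node (.node (.leaf 0x16185b2d9) (.leaf 0x16ccad9)) (.node (.leaf 0x252db321) (.leaf 0x0))) (.node (.node (.leaf 0x2530b661) (.leaf 0x0))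 (.node (.leaf 0xc95d6eb659) (.leaf 0x0))))) (.node (.node (.node (.node (.leaf 0x75d861) (.leaf 0xdba5bad9)) (.node (.leaf 0x1d90c959) (.leaf 0x0))) (.node (.node (.leaf 0x5b2dd861) (.leaf 0x495d6ec)) (.node (.leaf 0x195b65b) (.leaf 0x0)))) (.node (.node (.node (.leaf 0x1296cb321) (.leaf 0x2985d6d9)) (.node (.leaf 0x19929659) (.leaf 0x0))) (.node (.node (.leaf 0x52db32c) (.leaf 0x0)) (.node (.leaf 0x56dd2db) (.leaf 0x0)))))))) (.node (.node (.node (.node (.node (.node (.node (.leaf 0x2194c) (.leaf 0x85d6eb659)) (.node (.leaf 0x10b6ec861) (.leaf 0x0))) (.node (.node (.leaf 0x1296cba59) (.leaf 0x256cc321)) (.node (.leaf 0x16e9659) (.leaf 0x0)))) (.node (.node (.node (.leaf 0xc8596d9) (.leaf 0xec85b)) (.node (.leaf 0x66432c) (.leaf 0x0))) (.node (.node (.leaf 0xcbadd6d9) (.leaf 0x10c85d759)) (.node (.leaf 0x32eb) (.leaf 0x0))))) (.node (.node (.node (.node (.leaf 0x3ae9664) (.leaf 0xc2cb74b)) (.node (.leaf 0x12b74bad9)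 (.leaf 0x0))) (.node (.node (.leaf 0xcc861) (.leaf 0x5964321)) (.node (.leaf 0x1d2cbad9) (.leaf 0x0)))) (.node (.node (.node (.leaf 0x4b2165b) (.leaf 0x2430c959)) (.node (.leaf 0x14bad9) (.leaf 0x0))) (.node (.node (.leaf 0x532c32c) (.leaf 0x0)) (.node (.leaf 0x10b75badb) (.leaf 0x0)))))) (.node (.node (.node (.node (.node (.leaf 0xb321664) (.leaf 0x92cb2c)) (.node (.leaf 0x4b0c85b) (.leaf 0x0))) (.node (.node (.leaf 0x5bb2cb21) (.leaf 0x216dd2d9)) (.node (.leaf 0x65b661) (.leaf 0x0)))) (.node (.node (.node (.leaf 0x159865321) (.leaf 0xdd6dd959)) (.node (.leaf 0x92985d659) (.leaf 0x0))) (.node (.node (.leaf 0x3661) (.leaf 0x0)) (.node (.leaf 0x2c2dbad9) (.leaf 0x0))))) (.node (.node (.node (.node (.leaf 0x375992c) (.leaf 0x2bacc2d9)) (.node (.leaf 0x6ec95b659) (.leaf 0x0))) (.node (.node (.leaf 0x14b) (.leaf 0x1642d9664)) (.node (.leaf 0x66594b659) (.leaf 0x0)))) (.node (.node (.node (.leaf 0x56ec861) (.leaf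 0x330cb21)) (.node (.leaf 0x86592c) (.leaf 0x0))) (.node (.node (.leaf 0x94b6ec864) (.leaf 0x0)) (.node (.leaf 0xb2cbad9) (.leaf 0x0))))))) (.node (.node (.node (.node (.node (.node (.leaf 0x36cb65b) (.leaf 0x2530b65b)) (.node (.leaf 0x90c959) (.leaf 0x0))) (.node (.node (.leaf 0x619656d9) (.leaf 0xccb2194c)) (.node (.leaf 0x15996532c) (.leaf 0x0)))) (.node (.node (.node (.leaf 0x2cc95b2d9) (.leaf 0x2bad9)) (.node (.leaf 0xdd90c861) (.leaf 0x0))) (.node (.node (.leaf 0x5325959) (.leaf 0x12990b659)) (.node (.leaf 0x4b2530c) (.leaf 0x0))))) (.node (.node (.node (.node (.leaf 0x24aeb) (.leaf 0x1966532c)) (.node (.leaf 0x65d2db) (.leaf 0x0))) (.node (.node (.leaf 0xdd665321) (.leaf 0x216ebad9)) (.node (.leaf 0x56596d9) (.leaf 0x0)))) (.node (.node (.node (.leaf 0x12196532c) (.leaf 0x24b2c)) (.node (.leaf 0x1253256d9) (.leaf 0x0))) (.node (.node (.leaf 0xe990c859) (.leaf 0x0)) (.node (.leaf 0x494b2cc) (.leaf 0x0))))))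 (.node (.node (.node (.node (.node (.leaf 0x5325864) (.leaf 0x15b2ccb21)) (.node (.leaf 0x6ccb0c) (.leaf 0x0))) (.node (.node (.leaf 0x12b) (.leaf 0x1ba65659)) (.node (.leaf 0x252cba59) (.leaf 0x0)))) (.node (.node (.node (.leaf 0x2c2dd6d9) (.leaf 0xe986430c)) (.node (.leaf 0x14b74b321) (.leaf 0x0))) (.node (.node (.leaf 0xacc861) (.leaf 0x0)) (.node (.leaf 0x296d9) (.leaf 0x0))))) (.node (.node (.node (.node (.leaf 0x12c2dd6d9) (.leaf 0xa5d659)) (.node (.leaf 0x7616eb659) (.leaf 0x0))) (.node (.node (.leaf 0x65b) (.leaf 0x565b74b)) (.node (.leaf 0x2cb74b) (.leaf 0x0)))) (.node (.node (.node (.leaf 0x94b2dbad9) (.leaf 0x3a5ba59)) (.node (.leaf 0x5665859) (.leaf 0x0))) (.node (.node (.leaf 0x164adbb21) (.leaf 0x0)) (.node (.leaf 0x12992c) (.leaf 0x0))))))))) (.node (.node (.node (.node (.node (.node (.node (.node (.leaf 0x10b2db) (.leaf 0x190cb21)) (.node (.leaf 0xec2dbad9) (.leaf 0x0))) (.node (.node (.leaf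 0x15965b759) (.leaf 0x4a6432c)) (.node (.leaf 0x196e9659) (.leaf 0x0)))) (.node (.node (.node (.leaf 0x2b75b2eb) (.leaf 0x764adb)) (.node (.leaf 0x14b75b759) (.leaf 0x0))) (.node (.node (.leaf 0x52ecb21) (.leaf 0xb65d664)) (.node (.leaf 0x4329659) (.leaf 0x0))))) (.node (.node (.node (.node (.leaf 0x92b659) (.leaf 0x61759759)) (.node (.leaf 0x2192bad9) (.leaf 0x0))) (.node (.node (.leaf 0x56dd92c) (.leaf 0x2eba5b759)) (.node (.leaf 0x52cc321) (.leaf 0x0)))) (.node (.node (.node (.leaf 0x15d6cb759) (.leaf 0x61964b21)) (.node (.leaf 0xaeb321) (.leaf 0x0))) (.node (.node (.leaf 0x42eb2d9) (.leaf 0x0)) (.node (.leaf 0x194cb21) (.leaf 0x0)))))) (.node (.node (.node (.node (.node (.leaf 0x32dbad9) (.leaf 0x32e9759)) (.node (.leaf 0x125964b21) (.leaf 0x0))) (.node (.node (.leaf 0x166432c) (.leaf 0x6432532c)) (.node (.leaf 0x6165d2d9) (.leaf 0x0)))) (.node (.node (.node (.leaf 0xecb0b659) (.leaf 0xdbb2cb21)) (.node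 (.leaf 0x15d94b659) (.leaf 0x0))) (.node (.node (.leaf 0x190b65b) (.leaf 0x0)) (.node (.leaf 0x21865959) (.leaf 0x0))))) (.node (.node (.node (.node (.leaf 0xbacb2db) (.leaf 0xa64b21)) (.node (.leaf 0x1256d9) (.leaf 0x0))) (.node (.node (.leaf 0x2b6ec2d9) (.leaf 0x2b6ec94c)) (.node (.leaf 0x1b2e96ec) (.leaf 0x0)))) (.node (.node (.node (.leaf 0x21859661) (.leaf 0x95ba59)) (.node (.leaf 0x3761959) (.leaf 0x0))) (.node (.node (.leaf 0x12590b2d9) (.leaf 0x0)) (.node (.leaf 0x1616dd664) (.leaf 0x0))))))) (.node (.node (.node (.node (.node (.node (.leaf 0x32cc85b) (.leaf 0x5d6656d9)) (.node (.leaf 0x92c2d9) (.leaf 0x0))) (.node (.node (.leaf 0x5baeb321) (.leaf 0xb216cb321)) (.node (.leaf 0x2c865321) (.leaf 0x0)))) (.node (.node (.node (.leaf 0x3add659) (.leaf 0x2bb2c959)) (.node (.leaf 0xc2eb759) (.leaf 0x0))) (.node (.node (.leaf 0x6642dba59) (.leaf 0xae992cad9)) (.node (.leaf 0x1b2dbb2c) (.leaf 0x0))))) (.node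 (.node (.node (.node (.leaf 0xeb659) (.leaf 0x3761659)) (.node (.leaf 0x64b2594b) (.leaf 0x0))) (.node (.node (.leaf 0xae992c) (.leaf 0x5864a59)) (.node (.leaf 0x36eb759) (.leaf 0x0)))) (.node (.node (.node (.leaf 0x186594b) (.leaf 0xcbb2c2d9)) (.node (.leaf 0x485d664) (.leaf 0x0))) (.node (.node (.leaf 0x95d759) (.leaf 0x0)) (.node (.leaf 0x2195d759) (.leaf 0x0)))))) (.node (.node (.node (.node (.node (.leaf 0x24329659) (.leaf 0x2dd659)) (.node (.leaf 0x5861864) (.leaf 0x0))) (.node (.node (.leaf 0x12ca5badb) (.leaf 0xd995b759)) (.node (.leaf 0x321659) (.leaf 0x0)))) (.node (.node (.node (.leaf 0x242cb2d9) (.leaf 0x10b66532c)) (.node (.leaf 0x242d9759) (.leaf 0x0))) (.node (.node (.leaf 0xe9865859) (.leaf 0x0)) (.node (.leaf 0x1bae992c) (.leaf 0x0))))) (.node (.node (.node (.node (.leaf 0xec) (.leaf 0x4b2c30c)) (.node (.leaf 0x1bacc861) (.leaf 0x0))) (.node (.node (.leaf 0x21659661) (.leaf 0x2cb2b759)) (.node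 (.leaf 0x10c94b659) (.leaf 0x0)))) (.node (.node (.node (.leaf 0x176432c) (.leaf 0x92c861)) (.node (.leaf 0x2165badb) (.leaf 0x0))) (.node (.node (.leaf 0x1ba5d6ec) (.leaf 0x0)) (.node (.leaf 0x3acb321) (.leaf 0x0)))))))) (.node (.node (.node (.node (.node (.node (.node (.leaf 0x85d65bb21) (.leaf 0x430cb2c)) (.node (.leaf 0x1990bad9) (.leaf 0x0))) (.node (.node (.leaf 0xb759659) (.leaf 0xeb6ec)) (.node (.leaf 0xe96ccad9) (.leaf 0x0)))) (.node (.node (.node (.leaf 0xebacc2d9) (.leaf 0x1964a59)) (.node (.leaf 0xaeb759) (.leaf 0x0))) (.node (.node (.leaf 0x3b216d9) (.leaf 0x74c94b)) (.node (.leaf 0x3ad9664) (.leaf 0x0))))) (.node (.node (.node (.node (.leaf 0x52d9664) (.leaf 0x165bb0c)) (.node (.leaf 0x5b2e9664) (.leaf 0x0))) (.node (.node (.leaf 0x2dbad9) (.leaf 0xdd2cbad9)) (.node (.leaf 0x1256cb661) (.leaf 0x0)))) (.node (.node (.node (.leaf 0x16592c321) (.leaf 0x56ccb21)) (.node (.leaf 0x2c321759) (.leaf 0x0)))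 (.node (.node (.leaf 0xaecb21) (.leaf 0x0)) (.node (.leaf 0xcb6eb659) (.leaf 0x0)))))) (.node (.node (.node (.node (.node (.leaf 0x24321) (.leaf 0x2dba5b659)) (.node (.leaf 0x19296d9) (.leaf 0x0))) (.node (.node (.leaf 0x42e992c) (.leaf 0x18652d9)) (.node (.leaf 0x4b0c861659) (.leaf 0x0)))) (.node (.node (.node (.leaf 0x175d6ec) (.leaf 0x3b0b661)) (.node (.leaf 0x15d3216d9) (.leaf 0x0))) (.node (.node (.leaf 0x1d32585b) (.leaf 0x0)) (.node (.leaf 0x164ad9661) (.leaf 0x0))))) (.node (.node (.node (.node (.leaf 0x5961759) (.leaf 0x164b21)) (.node (.leaf 0x3adbad9) (.leaf 0x0))) (.node (.node (.leaf 0x4b2b74c) (.leaf 0x75b75b659)) (.node (.leaf 0x92b74bad9) (.leaf 0x0)))) (.node (.node (.node (.leaf 0x325861) (.leaf 0x2195b2d9)) (.node (.leaf 0x24a59) (.leaf 0x0))) (.node (.node (.leaf 0x6eb6cb74c) (.leaf 0x0)) (.node (.leaf 0x2975ba59) (.leaf 0x0))))))) (.node (.node (.node (.node (.node (.node (.leaf 0x16cb6eb659)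 (.leaf 0x3764321)) (.node (.leaf 0xb764b0c) (.leaf 0x0))) (.node (.node (.leaf 0x575b32c) (.leaf 0x4ae96ec)) (.node (.leaf 0x6cb74bad9) (.leaf 0x0)))) (.node (.node (.node (.leaf 0x32cb321) (.leaf 0x65badb)) (.node (.leaf 0x374b759) (.leaf 0x0))) (.node (.node (.leaf 0xb75d2d9) (.leaf 0x619652d9)) (.node (.leaf 0x3325664) (.leaf 0x0))))) (.node (.node (.node (.node (.leaf 0x1d65b664) (.leaf 0x2caeb2d9)) (.node (.leaf 0x1865859) (.leaf 0x0))) (.node (.node (.leaf 0xb0c2d9759) (.leaf 0x5659864)) (.node (.leaf 0x1216dd759) (.leaf 0x0)))) (.node (.node (.node (.leaf 0x5b2cb2d9) (.leaf 0x652dd759)) (.node (.leaf 0x10b75b661) (.leaf 0x0))) (.node (.node (.leaf 0x15d65b659) (.leaf 0x0)) (.node (.leaf 0x4b0c2db) (.leaf 0x0)))))) (.node (.node (.node (.node (.node (.leaf 0xba59) (.leaf 0x596dd664)) (.node (.leaf 0x185d2d9) (.leaf 0x0))) (.node (.node (.leaf 0x5b2d9) (.leaf 0x2d994c)) (.node (.leaf 0x1d6ec859) (.leaf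 0x0)))) (.node (.node (.node (.leaf 0x64325759) (.leaf 0x15b2dba59)) (.node (.leaf 0x1994b6ec) (.leaf 0x0))) (.node (.node (.leaf 0x14b2dbad9) (.leaf 0x0)) (.node (.leaf 0x2cb2b659) (.leaf 0x0))))) (.node (.node (.node (.node (.leaf 0x594c321) (.leaf 0x96194b759)) (.node (.leaf 0x3b25959) (.leaf 0x0))) (.node (.node (.leaf 0x6cc861) (.leaf 0x15b2eb6ec)) (.node (.leaf 0x95d65bb21) (.leaf 0x0)))) (.node (.node (.node (.leaf 0x6616d9) (.leaf 0x2dd6eb659)) (.node (.leaf 0x129861759) (.leaf 0x0))) (.node (.node (.leaf 0x15d6d9) (.leaf 0x0)) (.node (.leaf 0x12195d2d9) (.leaf 0x0))))))))))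

/-- data -/
def clsT : Cfsg.Agent.HN.Trie :=
  (.node (.node (.node (.node clsT0 clsT8) (.node clsT4 clsT12)) (.node (.node clsT2 clsT10) (.node clsT6 clsT14))) (.node (.node (.node clsT1 clsT9) (.node clsT5 clsT13)) (.node (.node clsT3 clsT11) (.node clsT7 clsT15))))

/-- data -/
def twoBits : ℕ :=
  0x800001000000000020000000000050002000000004040000000000060000000000000000000000000000c00c018000003000800000020000000000008000010000000000000500000000000044000000800000020000090000000000000006000000c0000000000c00000000010000c00400000000000000800001000000000000000000000300110000000000c0000000000008080000000a000000000000000000000c00000030000000003000000000060000000000000000000020000000c000000020030100080804000000000000000000000006000000c0000000000c00000000010000c00400000000000000000000000000000000020000c00080000000c0c004040000000000000000001800000000000000000000000000000000000c0000000000c0000000000000000000000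0000000000000000000000000000000000000000000000000000000060000000000000000000000000000008000000300000020000c000000000000000000000000000000000000000010000000900000100000800001000000000000000000000300110000000000c00000000000080800000000000000000020000000c0000000200301000808040000000000000000000000000000000000000000000000000000000000000000000000000080000100000000002000000000005000200000000404000000000006000000180000000000000005000000300000000000300000000000000000900000000000000000000000000000000000000000000000000000000000000001800000000000000000000000000000000001000000040004100000000c0000000000000000000000000000000000000000100000009000001000000000000000000000000000000c00000000003c0000000000682900000210000000000000000000000000000000000000000000000000000000000000180000000000000000c0000000000000003000c000000000000009000000180000000000000000c0000000000000003000c000000000000009000000180000000000000000000000c00000000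a000000000000000000000600c000000a000000000000000000000000088000000003c00000000000009000001800000000002800000000000000000000000c0000003000000006000000000000000000000000000000000000000000000000000000000000000001800000000000000000000000000000000001000000040004100000000000000a000000000000000000000000088000000003c0000000000000900000000000060000000000000000000000000000009000000390000031061000000000000000000000000000000000000000000000000000000000000000000000000000000000000000000000000000000000000000000000000000000000000000000000000000000000000000000000000000000000000000000000060000000000000000000000003000c00000000d0000092000c0001800000000002800000000000000000000000c000000300000000600000000000000000000000000000c00000000003c00000000006829000002101800140000000000c000c000c000000000000030000000000000000000c000000000000000000000000000000000000000000000000000000000000000000000000000000000000000000000000000000000000000000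0000000000000000000000000000000000000000000000000000000000000000000180000000000008001050000000000000000000008080000000000080800000000000000000000000000000000000000000000000000000000000000000000000000000000000000c0000000000c00000000000003000000000000000000000000000000000000000000000000000000000000000000000000000000060000000000000000000000000000001000000090000010000000000000060000000000000000000000000000009000000390000031061000000000060000000000000000000000003000c00000000d0000092000c00000000000000000000000000c000011000000cc000030000000000000000000000000000000000000000c0000000000300000000000600000000000000000000000000000000000000000000000000000000000000000000000000000000600000000000000000000004400000000000000000000000120000000000000000000000000000000000000000000000000000000000000000000000000000000000000c000000000000000030000000300000000000000000006000000000000000000000000000000100000009000001000000000000000000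00000000000c030001100000c0010000000800000000000000000000000000000000000c00028000000000000000000000000c00000001800000000000000000000000000000000000c0000000000c000000000000000000000000000000000000000000000000000000000000000000003000000000000008001000000000000000000000000000000000000c00000000000000000000000000300000000000000000008080180000000000000000000000000000000000000c00c01800000300080000002000000000000000000000000000000020000c00080000000c0c00404000000000000000000001403000000000000030000000000000000030000000010000010000c000000000000000020000000000000002000000000000000100000100000000000000000200000000000000006001000000000000000000000010400000000000000000000000000000000000000000000000000000000000000000000000000000000000000000000000000000000000000000000000000000000000000000000000000000000000000000000000000000000000000000000000000000000000000000000000000000000000000000000000000000000000000000000000000c03000110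0000c00100000008000000000000000000000000000000000000c00000000003000000000006000000000000000000000000000000003000000000000000000080801800000000000000000000000000000000000000000000000000000000000000000000000000000000000000000000000000c000011000000cc000030000000000000000000000000000000000000000c0000000000020000000800082000000000000000000000000000000000c0000000000c00000000000003000000000000000000000020000000000000000600100000000031800000000001040c0000000000000000000000000c0000000000000000000000000000000210800001000000000000000000000000000a300000100000008006000000001800000000000080010500000000000000000000080800000000000808000000000000000000000000000000000000000000000000000000000000000000000000000000000000000c00000000000c00000000000820000000000000000000000000000000000c00000000000c0000000000082000000000000000000000000000000000000000000000000000000000000000000000180000000000000000000000c0000000000c00030302400000000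00000c000000000000000000000000000000000000000000000000000000000000060000000060000000000000000000000000000000000000000000008992000000000000000000000000000000000000000000000000000000000000c0000000000000000000000000c00000000000000000000000000000002101800000000000000000000000000018600000c00000000000000000104000000000000000000000000000000000000000000000000000000000000000000000000000000000000000c0000204f000000000000000000000003f01800140000000000c000c000c000000000000030000000000000000000c0000000000600000000000000000000204f000000000000000000000003f0180000000000000000000000c0000000000c0003030240000000000000c0180000000000000000000000c00000000a000000000000000000000600c000000000000020000000000000000600100000000031800000000001040c0000000000000000000000000c000000000000000000000000000601061080002100060020010000000000c0000010c000000000000000000000021000000a0000000000000000000c000000440000000000000000000008092000000a0000000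000000000000c000000000000000000000000000000012000000000000000000000000000000000000000000000000000000000000080000100060000000000000000000020010000000000000000000001061000020a0020000000000000300c3000000000c000000000000000000001200000000000000000000000000000000000000000000000000000000000008000010006000000000000000000000000000000000000000000000002136000c00c0000000000000000000050000000000c0000000004100000000080000100060000000000000000000020010000000000000000000001061000020a0020000000000000300c3000000000c00000000000000000000120000000000000000000000000000000000000000000000000000000000000800001000600000000000000000000000000000000000000000000000210800001000600000000000000000000000000000000000000000906000210060000000000000000000000c00000000000000000000000000900010610060000000000000000000000c00000000000000f00f0000000000000021080002100060020010000000000c0000010c000000000000000000000021000000a0000000000000000000c0000004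40000000000000000000008092000000a0000000000000000000c000000000000000000000000000000012000000000000000000000000000000000000000000000000000000000000080000100060000000000000000000000000000000000000000090600021080000100060000000000000000000000000300c0000000000000f0000210060000000000000000000000c00000000000000f00f00000000000000210060000000000000000000000c0000000000000000000000000090001061c860001000600000000000000cc000020010000000000000000090601061000000000000000000000000000000000000000000000000000000000000000000000000000000000000000000000000000000000000000000000000c860001000600000000000000cc000020010000000000000000090601060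

/-- data -/
def wu : List ℕ :=
  [0, 0, 1, 0, 0, 1, 0, 0, 1, 0, 0, 1]

/-- data -/
def sList : List (ℕ × ℕ × ℕ) :=
  [(3360, 0, 0), (4320, 148, 0), (1680, 286, 0), (6720, 189, 0), (9361, 642, 0), (5520, 458, 0), (1685, 167, 1), (3365, 421, 1), (6725, 316, 1), (9364, 911, 1), (5525, 0, 1), (4325, 286, 1), (7680, 29503, 1), (7922, 29288, 1), (8163, 15591, 1), (8162, 26414, 0), (7685, 28608, 0), (21363, 29408, 0), (7923, 15382, 0), (4224, 15466, 0), (5424, 26526, 0), (21362, 28627, 1), (25473, 29503, 0), (21633, 15591, 0), (25479, 15466, 1), (21639, 26526, 1), (5425, 15382, 1), (4225, 29408, 1), (24882, 189, 1), (25122, 642, 1), (24883, 421, 0), (25123, 167, 0), (24347, 148, 1), (23387, 458, 1), (2957, 29288, 0), (1277, 28627, 0), (2956, 28608, 1), (1276, 26414, 1), (23391, 911, 0), (24351, 316, 0)]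

/-- data -/
def sGood : ℕ :=
  3360

/-- data -/
def sBad : ℕ :=
  5525

/-- data -/
def sBadH : List ℕ :=
  [3, 4, 3, 0, 3, 3, 0, 2, 0]

/-- data -/
def reps : List ℕ :=
  [3360, 5525]

/-- data -/
def relZ : List (List ℕ × List ℕ) :=
  [([2, 0, 0, 1, 0, 0], [0, 0, 1, 0, 0, 2]), ([2, 0, 0, 0, 0, 2], [0, 2, 0, 2, 0, 3])]

/-- data -/
def zGood : List ℕ :=
  [10646, 10647]

/-- data -/
def zBad : List (ℕ × List ℕ) :=
  [(10406, [0, 2, 4, 3, 0, 4, 3, 3]), (10407, [3, 4, 3, 0, 4, 3, 4, 3])]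

/-- data -/
def pW : List (List ℕ) :=
  [[3, 3, 0, 3, 0, 3, 0, 2, 1, 2, 2, 0, 2, 2, 0, 2, 2, 2], [3, 0, 2, 2, 2, 0, 2, 1, 4, 2, 2, 4, 2, 2, 4, 2, 2, 0, 4]]

/-- data -/
def gW : List ℕ :=
  [3, 3, 0, 2, 0, 2, 2, 0, 2, 2, 1, 2, 2, 2, 0, 3, 0]

/-- data -/
def wgW : List (List ℕ) :=
  [[0, 0, 1, 0, 0, 1, 0, 0, 1, 0, 0, 1], [1], [0, 1, 0, 0, 0, 1, 0]]

/-- data -/
def backW : List (List ℕ) :=
  [[0, 1, 0, 1, 0, 1], [0, 0, 1, 0, 0, 1, 0, 0, 1, 0, 0, 1], [0, 1, 0, 1]]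

/-- data -/
def backU : List ℕ :=
  [0, 1, 0, 1, 0, 1]

/-- data -/
def n1T : List ℕ :=
  [0, 2, 0, 0, 2, 0, 0, 2, 0, 1, 2]

/-- data -/
def n2T : List ℕ :=
  [0, 2, 0, 0, 0, 1, 2, 0, 0, 2, 0, 1, 2, 0]

/-- data -/
def n1U : List ℕ :=
  [1, 2, 0, 0, 1, 2, 1, 2, 0, 0, 2, 2]

/-- data -/
def yU : List ℕ :=
  [0, 1, 0, 2, 0, 1, 0, 2, 2, 1, 0, 1]

/-- data -/
def fPow : List ℕ :=
  [13, 8, 752]

end

end Cfsg.Agent.HNRecog.Amal.Dat
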