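import Cfsg.Agent.Lib.HNRecog.Local.TableDefs
import Cfsg.Agent.Lib.HNRecog.Amal.Data

/-!
Checks for the amalgam: the elements commuting with the involution `u` are the 30720 products of a listed element
fixing the point `0` and a listed transversal element; the candidates for the images of generators under a map
interchanging `t` and `u`; the candidates for an element of order five.
-/

set_option autoImplicit false
set_option maxRecDepth 100000

namespace Cfsg.Agent.HNRecog.Amal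

open Cfsg.Agent.HN

noncomputable section

/-- A listed element fixing `0`. -/
def cw (j : ℕ) : List ℕ := unp (Dat.cwT.get j)

/-- A transversal element. -/
def rw' (k : ℕ) : List ℕ := unp (Dat.rwT.get k)

/-- The word of a code. -/
def tw (c : ℕ) : List ℕ := cw (Nat.mod c 240) ++ rw' (Nat.div c 240)

/-- The conjugating word of a member of the class. -/
def hw (k : ℕ) : List ℕ := unp (Dat.clsT.get k)

/-- A member of the class. -/
def uk (k : ℕ) : List ℕ := winv iv5 (hw k) ++ Dat.uW ++ hw k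

/-- Equality of elements. -/
def eqK (u v : List ℕ) : Bool := letOK 5 u && letOK 5 v && Nat.beq (keyW u) (keyW v)

/-- Two words commute. -/
def comK (u v : List ℕ) : Bool := eqK (u ++ v) (v ++ u)

/-- Substitution of words for letters. -/
def sub (L : List (List ℕ)) (w : List ℕ) : List ℕ := w.flatMap fun l => L.getD l []

/-- `C_j` commutes with `u` and fixes `0`. -/
def okC (j : ℕ) : Bool :=
  comK (cw j) Dat.uW && Nat.beq (big.actW (cw j) 0) 0

/-- The keys increase along the order. -/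
def okCSort (j : ℕ) : Bool :=
  Nat.blt (Dat.corder.get j) 240 &&
    (Nat.beq (Nat.succ j) 240 || Nat.blt (keyW (cw (Dat.corder.get j))) (keyW (cw (Dat.corder.get (Nat.succ j)))))

/-- A transversal element and its image. -/
def okR (k : ℕ) : Bool :=
  comK (rw' k) Dat.uW && Nat.beq (big.actW (rw' k) 0) (Dat.imgR.getD k 0) &&
    allLo (fun i => !(Nat.beq (Dat.imgR.getD i 0) (Dat.imgR.getD k 0))) k

/-- The members of the class increase. -/
def okCls (k : ℕ) : Bool :=
  letOK 5 (hw k) && (Nat.beq (Nat.succ k) 5775 || Nat.blt (keyW (uk k)) (keyW (uk (Nat.succ k))))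

/-- Marked code. -/
def bitTwo (c : ℕ) : Bool := Nat.beq (Nat.land (Nat.shiftRight Dat.twoBits c) 1) 1

/-- A code whose square is trivial is marked. -/
def okSquare (c : ℕ) : Bool :=
  bitTwo c || Nat.beq c 0 ||
    !(Nat.beq (big.actW (tw c ++ tw c) 0) 0 && Nat.beq (keyW (tw c ++ tw c)) (keyW []))

/-- The first stage: candidates for the image of `v`. -/
def okS (c : ℕ) : Bool :=
  !(bitTwo c) || !(Nat.beq (keyW (sub [Dat.fW, tw c] Dat.wu)) (keyW [0, 0])) ||
    Dat.sList.any fun e =>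
      Nat.beq e.1 c && Nat.blt e.2.1 30720 && Nat.blt e.2.2 2 &&
        comK (tw e.2.1) Dat.fW && eqK (tw e.2.1 ++ tw c) (tw (Dat.reps.getD e.2.2 0) ++ tw e.2.1)

/-- The images of the four generators. -/
def imgs (zc : ℕ) : List (List ℕ) := [Dat.fW, tw Dat.sGood, tw zc, Dat.uW]

/-- The second stage: candidates for the image of `z`. -/
def okZ (c : ℕ) : Bool :=
  !(bitTwo c) ||
    (Dat.relZ.any fun r => !(Nat.beq (keyW (sub (imgs c) r.1)) (keyW (sub (imgs c) r.2)))) ||
    (Dat.zGood.any fun e => Nat.beq e c) ||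
    (Dat.zBad.any fun e => Nat.beq e.1 c &&
      eqK (tw c) (winv iv5 e.2 ++ (Dat.uW ++ [0, 0]) ++ e.2))

/-- The generators. -/
def src : List (List ℕ) := [Dat.fW, Dat.vW, [4], [0, 0]]

/-- The generators of the group fixed by the element of order five. -/
def ugen : List (List ℕ) := [Dat.fW, Dat.vW, Dat.gW]

/-- An element of the coset of `x`. -/
def n1W : List ℕ := sub src Dat.n1T

/-- A second element of the coset of `x`. -/
def n2W : List ℕ := sub src Dat.n2T

/-- The generators and the elements built from them. -/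
def okGen : Bool :=
  comK Dat.uW [0, 0] && comK Dat.fW Dat.uW && comK Dat.vW Dat.uW && comK [4] Dat.uW && comK Dat.gW [0, 0] &&
    eqK (Dat.uW ++ Dat.uW) [] && !(Nat.beq (keyW Dat.uW) (keyW [])) &&
    eqK (Dat.fW ++ Dat.fW ++ Dat.fW ++ Dat.fW ++ Dat.fW) [] && !(Nat.beq (keyW Dat.fW) (keyW [])) &&
    eqK (Dat.vW ++ Dat.vW) [] && !(Nat.beq (keyW Dat.vW) (keyW [])) &&
    eqK Dat.aW (winv iv5 Dat.aH ++ Dat.uW ++ Dat.aH) && eqK Dat.vW (winv iv5 Dat.vH ++ Dat.uW ++ Dat.vH) &&
    eqK (sub [Dat.fW, Dat.vW] Dat.wu) Dat.uW &&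
    (Dat.relZ.all fun r => eqK (sub src r.1) (sub src r.2)) &&
    eqK (tw Dat.sBad) (winv iv5 Dat.sBadH ++ ([4] ++ Dat.uW) ++ Dat.sBadH) &&
    eqK (List.replicate 7 Dat.gW).flatten [] &&
    eqK (winv iv5 Dat.gW ++ n2W ++ Dat.gW) n1W &&
    eqK n1W (sub ugen Dat.n1U ++ [0]) && eqK [2] (sub ugen Dat.yU) &&
    eqK (winv iv5 Dat.gW ++ Dat.uW ++ Dat.gW) (sub [Dat.fW, Dat.vW] Dat.backU) &&
    Nat.beq Dat.wgW.length 3 && Nat.beq Dat.backW.length 3 &&
    allLo (fun i => eqK (winv iv5 Dat.gW ++ sub [Dat.fW, Dat.vW] (Dat.wgW.getD i []) ++ Dat.gW)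
      (sub [Dat.fW, Dat.vW] (Dat.backW.getD i []))) 3 &&
    allLo (fun k => Nat.blt (Dat.fPow.getD k 0) 30720 && eqK (tw (Dat.fPow.getD k 0) ++ Dat.fW)
      ((List.replicate (Nat.add k 2) Dat.fW).flatten ++ tw (Dat.fPow.getD k 0))) 3 &&
    Nat.blt Dat.sGood 30720 && Nat.blt Dat.sBad 30720 &&
    Dat.zGood.all (fun c => Nat.blt c 30720) && Nat.beq Dat.zGood.length 2 && Nat.beq Dat.reps.length 2 &&
    (Dat.reps.all fun c => Nat.beq c Dat.sGood || Nat.beq c Dat.sBad)

/-- The element of order five of a good pair. -/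
def okP (i : ℕ) : Bool :=
  let zc := Dat.zGood.getD i 0
  let p := Dat.pW.getD i []
  let L := imgs zc
  letOK 5 p && eqK (p ++ p ++ p ++ p ++ p) [] && !(Nat.beq (keyW p) (keyW [])) &&
    comK p Dat.fW && comK p (tw Dat.sGood) && eqK (Dat.uW ++ p ++ Dat.uW) (winv iv5 p) &&
    eqK ((tw zc ++ p) ++ (tw zc ++ p) ++ (tw zc ++ p)) [] &&
    eqK (sub L Dat.n1T ++ p) (p ++ p ++ sub L Dat.n1T)

/-- A member `r` of the class: `u r` is no candidate, or a power of the element of order five. -/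
def okQ (i k : ℕ) : Bool :=
  let zc := Dat.zGood.getD i 0
  let p := Dat.pW.getD i []
  let q := Dat.uW ++ uk k
  let w1 := sub [Dat.fW, tw Dat.sGood] (Dat.wgW.getD 1 [])
  !(Nat.beq (big.actW (q ++ w1) 0) (big.actW (w1 ++ q) 0)) ||
    !(allLo (fun j => Nat.beq (keyW (q ++ sub [Dat.fW, tw Dat.sGood] (Dat.wgW.getD j [])))
      (keyW (sub [Dat.fW, tw Dat.sGood] (Dat.wgW.getD j []) ++ q))) 3) ||
    !(Nat.beq (keyW (q ++ q ++ q ++ q ++ q)) (keyW [])) ||
    !(Nat.beq (keyW (sub (imgs zc) Dat.n2T ++ q)) (keyW (q ++ q ++ sub (imgs zc) Dat.n2T))) ||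
    Nat.beq (keyW q) (keyW []) || Nat.beq (keyW q) (keyW p) || Nat.beq (keyW q) (keyW (p ++ p)) ||
    Nat.beq (keyW q) (keyW (p ++ p ++ p)) || Nat.beq (keyW q) (keyW (p ++ p ++ p ++ p))

end

end Cfsg.Agent.HNRecog.Amal
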