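import Cfsg.Agent.Lib.HNRecog.Amal.Frame
import Cfsg.Agent.Lib.HNRecog.Local.Swap
import Cfsg.Agent.Lib.HN.Main

/-!
The presented Harada-Norton group embeds, given the fusion of the outer classes.
-/

set_option autoImplicit false
set_option maxRecDepth 100000

namespace Cfsg.Agent.HNRecog

open Cfsg.Agent.HN

attribute [local irreducible] Amal.Dat.cwT Amal.Dat.rwT Amal.Dat.clsT

noncomputable section

universe u

theorem elA_conj : ∃ h : H0, elA = h⁻¹ * Amal.uE * h := by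
  refine ⟨el Amal.Dat.aH, ?_⟩
  have h1 : Amal.eqK (wd iA) Amal.Dat.aW = true := by decide +kernel
  have h2 : Amal.eqK Amal.Dat.aW (winv iv5 Amal.Dat.aH ++ Amal.Dat.uW ++ Amal.Dat.aH) = true := by decide +kernel
  show el (wd iA) = _
  rw [Amal.eqK_spec h1, Amal.eqK_spec h2, el_append, el_append, el_winv]
  rfl

variable {G : Type u} [Group G] {t : G}

/-- **The embedding.** -/
theorem exists_embedding (ψ : H0 →* G) (hinj : Function.Injective ψ)
    (hr : ψ.range = Subgroup.centralizer ({t} : Set G)) (hsq : ψ (hx ^ 2) = t) (q : G)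
    (h1 : q * t * q⁻¹ = ψ elA) (h2 : q * ψ elA * q⁻¹ = t) (hAT : ¬IsConj t (ψ elAT))
    (hz : IsConj t (ψ hz)) (hzu : ¬IsConj t (ψ (HN.hz * Amal.uE))) :
    ∃ F : Cfsg.Spor.HN →* G, Function.Injective F ∧ F.comp psiHN = ψ := by
  obtain ⟨h, hh⟩ := elA_conj
  have hcomm : ∀ a, Commute (ψ a) t := fun a => by
    rw [← hsq]; exact Commute.map (show Commute a (hx ^ 2) from Subgroup.mem_center_iff.1 hx_sq_central a) ψ
  have eA : ψ elA = (ψ h)⁻¹ * ψ Amal.uE * ψ h := by rw [hh, map_mul, map_mul, map_inv]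
  let D : Amal.Glue G t :=
    { ψ := ψ, inj := hinj, range := hr, sq := hsq
      σ := ψ h * q * (ψ h)⁻¹
      swap_t := by
        calc ψ h * q * (ψ h)⁻¹ * t * (ψ h * q * (ψ h)⁻¹)⁻¹
            = ψ h * q * ((ψ h)⁻¹ * t * ψ h) * q⁻¹ * (ψ h)⁻¹ := by group
          _ = ψ h * (q * t * q⁻¹) * (ψ h)⁻¹ := by
            rw [mul_assoc (ψ h)⁻¹ t, ← (hcomm h).eq, inv_mul_cancel_left]; group
          _ = ψ Amal.uE := by rw [h1, eA]; group
      swap_u := by
        calc ψ h * q * (ψ h)⁻¹ * ψ Amal.uE * (ψ h * q * (ψ h)⁻¹)⁻¹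
            = ψ h * (q * ((ψ h)⁻¹ * ψ Amal.uE * ψ h) * q⁻¹) * (ψ h)⁻¹ := by group
          _ = t := by rw [← eA, h2, (hcomm h).eq, mul_inv_cancel_right]
      z_fused := hz
      zu_not := hzu
      ut_not := fun e => hAT (e.trans (by
        refine ψ.map_isConj (isConj_iff.2 ⟨h⁻¹, ?_⟩)
        rw [← elA_mul, hh, inv_inv, mul_assoc _ h (hx ^ 2),
          (Subgroup.mem_center_iff.1 hx_sq_central h : h * hx ^ 2 = hx ^ 2 * h)]
        group)) }
  obtain ⟨a, hR, ha⟩ := D.exists_rules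
  obtain ⟨e1, e2⟩ := outHN_gen hR
  refine ⟨outHN hR, ?_, e2⟩
  haveI := (HN.isHN HN.Dat.xok HN.Dat.defsOK HN.Dat.maxOK).1
  rcases Subgroup.Normal.eq_bot_or_eq_top (inferInstance : (outHN hR).ker.Normal) with hk | hk
  · exact (MonoidHom.ker_eq_bot_iff _).1 hk
  · exact absurd (by rw [← e1]; exact MonoidHom.mem_ker.1 (hk ▸ Subgroup.mem_top tHN)) ha

end

end Cfsg.Agent.HNRecog
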