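import Cfsg.Agent.Lib.HNRecog.Amal.Gluing

/-!
The element of order five: it commutes with `y`, `x` squares it and its product with `z` has order three, so the
presented Harada-Norton group maps into the group.
-/

set_option autoImplicit false
set_option maxRecDepth 100000

namespace Cfsg.Agent.HNRecog.Amal

open Cfsg.Agent.HN

attribute [local irreducible] Dat.cwT Dat.rwT Dat.clsT Dat.corder Dat.twoBits

noncomputable section

universe u

variable {G : Type u} [Group G] {t : G}

theorem eq_inv_conj {h a b : H0} (e : a = h⁻¹ * b * h) : IsConj b a := isConj_iff.2 ⟨h⁻¹, by rw [e]; group⟩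

theorem conj_of_eqK {a h b : List ℕ} (e : eqK a (winv iv5 h ++ b ++ h) = true) : IsConj (el b) (el a) := by
  have := eqK_spec e
  rw [el_append, el_append, el_winv] at this
  exact eq_inv_conj this

theorem vW_facts : Commute (el Dat.vW) uE ∧ el Dat.vW * el Dat.vW = 1 ∧ IsConj uE (el Dat.vW) := by
  refine ⟨?_, ?_, ?_⟩
  · have h : comK Dat.vW Dat.uW = true := by decide +kernel
    exact (comK_spec h).2.2
  · have h : eqK (Dat.vW ++ Dat.vW) [] = true := by decide +kernel
    have e := eqK_spec h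
    rwa [el_append, el_nil] at e
  · have h : eqK Dat.vW (winv iv5 Dat.vH ++ Dat.uW ++ Dat.vH) = true := by decide +kernel
    exact conj_of_eqK h

theorem src_letters (l : ℕ) : el (src.getD l []) = [el Dat.fW, el Dat.vW, hz, hx ^ 2].getD l 1 := by
  match l with
  | 0 | 1 => rfl
  | 2 => exact uE_facts.2.2
  | 3 => exact el_zero
  | _ + 4 => simp [src, el_nil]

theorem wu_eq : wv (fun l => [el Dat.fW, el Dat.vW].getD l 1) Dat.wu = uE := by
  have h : eqK (sub [Dat.fW, Dat.vW] Dat.wu) Dat.uW = true := by decide +kernel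
  have e := eqK_spec h
  rw [el_sub] at e
  refine (wv_congr _ fun l _ => ?_).trans e
  match l with
  | 0 | 1 => rfl
  | _ + 2 => simp [el_nil]

theorem relZ_eq : ∀ r ∈ Dat.relZ, wv (fun l => [el Dat.fW, el Dat.vW, hz, hx ^ 2].getD l 1) r.1 =
    wv (fun l => [el Dat.fW, el Dat.vW, hz, hx ^ 2].getD l 1) r.2 := by
  intro r hr
  have h : (Dat.relZ.all fun r => eqK (sub src r.1) (sub src r.2)) = true := by decide +kernel
  have e := eqK_spec (List.all_eq_true.1 h r hr)
  rw [el_sub, el_sub] at e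
  rwa [wv_congr _ fun l _ => src_letters l, wv_congr (w := r.2) _ fun l _ => src_letters l] at e

namespace Glue

variable (D : Glue G t)

theorem sw_u : D.Sw uE (hx ^ 2) := by unfold Sw; rw [D.swap_u, D.sq]

theorem sw_t : D.Sw (hx ^ 2) uE := by unfold Sw; rw [D.sq, D.swap_t]

theorem sw_inv_of {a b : H0} (h : D.Sw a b) : D.Sw a⁻¹ b⁻¹ := by
  unfold Sw at *
  rw [map_inv, map_inv, ← h]; group

/-- **The interchanging element can be chosen with known images of the generators.** -/
theorem exists_adjusted : ∃ (D' : Glue G t) (i : ℕ), i < 2 ∧ D'.ψ = D.ψ ∧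
    ∀ l, D'.Sw ([el Dat.fW, el Dat.vW, hz, hx ^ 2].getD l 1) (imE (eT (Dat.zGood.getD i 0)) l) := by
  obtain ⟨hf, hf5, hf1⟩ := fW_facts
  obtain ⟨f', hf', hf'c⟩ := D.exists_sw hf
  have hf'5 : f' ^ 5 = 1 := D.inj (by rw [map_pow, ← hf', conj_pow, ← map_pow, hf5, map_one, mul_one,
    mul_inv_cancel])
  obtain ⟨d, hd, hde⟩ := five_conj hf'c hf'5 fun e => hf1 (D.sw_eq_one hf' e)
  set E := D.adjust d hd with hE
  have eF : E.Sw (el Dat.fW) (el Dat.fW) := by
    have := D.sw_adjust hd hf'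
    rwa [hde] at this
  obtain ⟨hv, hv2, hvc⟩ := vW_facts
  obtain ⟨s, hs, hsc⟩ := E.exists_sw hv
  have hs2 : s * s = 1 := E.sw_unique (E.sw_mul hs hs) (hv2.symm ▸ E.sw_one)
  have hv1 : el Dat.vW ≠ 1 := by
    intro e
    have h : Nat.beq (keyW Dat.vW) (keyW []) = false := by decide +kernel
    rw [(keyW_eq_iff (by decide +kernel) (v := []) rfl).2 (e.trans el_nil.symm)] at h
    simp at h
  have hw : wv (fun l => [el Dat.fW, s].getD l 1) Dat.wu = hx ^ 2 := by
    refine E.sw_unique ?_ E.sw_u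
    rw [← wu_eq]
    refine E.sw_wv (fun l => ?_) _
    match l with
    | 0 => exact eF
    | 1 => exact hs
    | _ + 2 => simpa using E.sw_one
  obtain ⟨c, hc, hcf, hcs⟩ := stageS hsc hs2 (fun e => hv1 (E.sw_eq_one hs e)) hw
  set F := E.adjust c hc with hF
  have eF' : F.Sw (el Dat.fW) (el Dat.fW) := by
    have := E.sw_adjust hc eF
    rwa [hcf, mul_inv_cancel_right] at this
  have eV : F.Sw (el Dat.vW) (eT Dat.sGood) := by
    rcases hcs with h | h
    · exact h ▸ E.sw_adjust hc hs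
    · exfalso
      have h1 : F.Sw (el Dat.vW) (eT Dat.sBad) := h ▸ E.sw_adjust hc hs
      have h2 : IsConj (hz * uE) (eT Dat.sBad) := by
        have hh : eqK (tw Dat.sBad) (winv iv5 Dat.sBadH ++ ([4] ++ Dat.uW) ++ Dat.sBadH) = true := by
          decide +kernel
        have := conj_of_eqK hh
        rwa [el_append, uE_facts.2.2] at this
      exact F.zu_not ((F.u_fused.trans ((F.ψ.map_isConj hvc).trans (F.conj_psi_of h1))).trans
        (F.ψ.map_isConj h2).symm)
  have hzu : Commute hz uE := by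
    have h : comK [4] Dat.uW = true := by decide +kernel
    have := (comK_spec h).2.2
    rwa [uE_facts.2.2] at this
  obtain ⟨z', hz', hzc⟩ := F.exists_sw hzu
  have hz2 : z' * z' = 1 := F.sw_unique (F.sw_mul hz' hz') (hz_sq.symm ▸ F.sw_one)
  have hz1 : z' ≠ 1 := fun e => by
    have h : Nat.beq (keyW [4]) (keyW []) = false := by decide +kernel
    rw [(keyW_eq_iff (u := [4]) rfl (v := []) rfl).2
      (uE_facts.2.2.trans ((F.sw_eq_one hz' e).trans el_nil.symm))] at h
    simp at h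
  have hmap : ∀ l, F.Sw ([el Dat.fW, el Dat.vW, hz, hx ^ 2].getD l 1) (imE z' l) := by
    intro l
    match l with
    | 0 => exact eF'
    | 1 => exact eV
    | 2 => exact hz'
    | 3 => exact F.sw_t
    | _ + 4 => simpa [imE] using F.sw_one
  rcases stageZ hzc hz2 hz1 (fun r hr => F.sw_unique (F.sw_wv hmap r.1) (relZ_eq r hr ▸ F.sw_wv hmap r.2)) with
    ⟨i, hi, rfl⟩ | ⟨h, e⟩
  · exact ⟨F, i, hi, rfl, hmap⟩
  · exfalso
    exact F.ut_not ((F.z_fused.trans (F.conj_psi_of hz')).trans (F.ψ.map_isConj (eq_inv_conj e)).symm)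

theorem sw_sub {i : ℕ} (hmap : ∀ l, D.Sw ([el Dat.fW, el Dat.vW, hz, hx ^ 2].getD l 1)
    (imE (eT (Dat.zGood.getD i 0)) l)) (w : List ℕ) :
    D.Sw (el (sub src w)) (el (sub (imgs (Dat.zGood.getD i 0)) w)) := by
  rw [el_sub, el_sub, wv_congr _ fun l _ => src_letters l, wv_congr _ fun l _ => el_imgs _ l]
  exact D.sw_wv hmap w

theorem sw_fv {i : ℕ} (hmap : ∀ l, D.Sw ([el Dat.fW, el Dat.vW, hz, hx ^ 2].getD l 1)
    (imE (eT (Dat.zGood.getD i 0)) l)) (w : List ℕ) :
    D.Sw (el (sub [Dat.fW, Dat.vW] w)) (el (sub [Dat.fW, tw Dat.sGood] w)) := by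
  rw [el_sub, el_sub]
  refine D.sw_wv (fun l => ?_) w
  match l with
  | 0 => exact hmap 0
  | 1 => exact hmap 1
  | _ + 2 => simpa [el_nil] using D.sw_one

/-- Pulled back through the interchange. -/
def pull (p : H0) : G := D.σ⁻¹ * D.ψ p * D.σ

theorem sigma_pull (p : H0) : D.σ * D.pull p * D.σ⁻¹ = D.ψ p := by unfold pull; group

theorem pull_comm {a b p : H0} (h : D.Sw a b) (hb : Commute p b) : Commute (D.pull p) (D.ψ a) := by
  have e : D.σ⁻¹ * D.ψ b * D.σ = D.ψ a := by rw [← h]; group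
  rw [← e]
  have h' := (hb.map D.ψ).map (MulAut.conj D.σ⁻¹).toMonoidHom
  simpa [pull, MulAut.conj_apply] using h'

/-- **The further generator.** -/
theorem exists_rules : ∃ a : G, GRules D.ψ a ∧ a ≠ 1 := by
  obtain ⟨F, i, hi, hψ, hmap⟩ := D.exists_adjusted
  rw [← hψ]
  clear hψ
  have hok : okP i = true := by
    rcases (show i = 0 ∨ i = 1 by omega) with rfl | rfl
    · exact p0_ok
    · exact p1_ok
  simp only [okP, Bool.and_eq_true, Bool.not_eq_true'] at hok
  obtain ⟨⟨⟨⟨⟨⟨⟨hpl, hp5⟩, hp1⟩, hpf⟩, hps⟩, hpu⟩, hpz⟩, hpn⟩ := hok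
  set zc := Dat.zGood.getD i 0 with hzc
  set p := el (Dat.pW.getD i []) with hp
  have p5 : p ^ 5 = 1 := by
    have e := eqK_spec hp5
    simp only [el_append, el_nil] at e
    rw [← e, hp]; simp [pow_succ]
  have p1 : p ≠ 1 := fun e => by
    rw [(keyW_eq_iff hpl (v := []) rfl).2 (e.trans el_nil.symm)] at hp1
    simp at hp1
  have pinv : uE * p * uE = p⁻¹ := by
    have e := eqK_spec hpu
    rwa [el_append, el_append, el_winv] at e
  set a := F.pull p with ha
  have sa : F.σ * a * F.σ⁻¹ = F.ψ p := F.sigma_pull p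
  have a5 : a ^ 5 = 1 := by
    have e : (F.σ * a * F.σ⁻¹) ^ 5 = 1 := by rw [sa, ← map_pow, p5, map_one]
    rw [conj_pow] at e
    exact conj_eq_one_iff.1 e
  have a1 : a ≠ 1 := fun e => p1 (F.inj (by rw [← sa, e, map_one, mul_one, mul_inv_cancel]))
  have af : Commute a (F.ψ (el Dat.fW)) := F.pull_comm (hmap 0) (comK_spec hpf).2.2
  have av : Commute a (F.ψ (el Dat.vW)) := F.pull_comm (hmap 1) (comK_spec hps).2.2
  have au : Commute a (F.ψ uE) := F.pull_comm F.sw_u (sq_comm p)
  have at' : t * a * t⁻¹ = a⁻¹ := by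
    have e : F.σ * (t * a * t⁻¹) * F.σ⁻¹ = F.σ * a⁻¹ * F.σ⁻¹ := by
      calc F.σ * (t * a * t⁻¹) * F.σ⁻¹ = (F.σ * t * F.σ⁻¹) * (F.σ * a * F.σ⁻¹) * (F.σ * t * F.σ⁻¹)⁻¹ := by group
        _ = F.ψ (uE * p * uE) := by
          rw [F.swap_t, sa, ← map_inv, ← map_mul, ← map_mul,
            inv_eq_of_mul_eq_one_left uE_facts.1]
        _ = (F.σ * a * F.σ⁻¹)⁻¹ := by rw [sa, pinv, map_inv]
        _ = _ := by group
    exact mul_left_cancel (mul_right_cancel e)
  have an : F.ψ (el n1W) * a = a * a * F.ψ (el n1W) := by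
    have h : F.σ * F.ψ (el (sub src Dat.n1T)) * F.σ⁻¹ = F.ψ (el (sub (imgs zc) Dat.n1T)) := F.sw_sub hmap Dat.n1T
    have e := congrArg F.ψ (eqK_spec hpn)
    simp only [el_append, map_mul, ← hp, ← hzc, ← h, ← sa] at e
    refine mul_left_cancel (a := F.σ) (mul_right_cancel (b := F.σ⁻¹) ?_)
    rw [n1W]
    calc F.σ * (F.ψ (el (sub src Dat.n1T)) * a) * F.σ⁻¹
        = F.σ * F.ψ (el (sub src Dat.n1T)) * F.σ⁻¹ * (F.σ * a * F.σ⁻¹) := by group
      _ = _ := e
      _ = _ := by group
  -- the element `g` moving the frame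
  set g := F.ψ (el Dat.gW) with hg
  set a' := g * a * g⁻¹ with ha'
  have gen : ∀ {w : List ℕ}, Commute a (F.ψ (el (sub [Dat.fW, Dat.vW] w))) := by
    intro w
    rw [el_sub, map_wv]
    induction w with
    | nil => exact Commute.one_right a
    | cons l w ih =>
      rw [wv_cons]
      refine Commute.mul_right ?_ ih
      match l with
      | 0 => exact af
      | 1 => exact av
      | _ + 2 => simpa [el_nil] using Commute.one_right a
  have moved : ∀ {b : H0} {w : List ℕ},
      (el Dat.gW)⁻¹ * b * el Dat.gW = el (sub [Dat.fW, Dat.vW] w) → Commute a' (F.ψ b) := by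
    intro b w e
    have e' : F.ψ b = g * F.ψ (el (sub [Dat.fW, Dat.vW] w)) * g⁻¹ := by
      rw [← e, map_mul, map_mul, map_inv, ← hg]; group
    rw [e', ha']
    exact (gen (w := w)).map (MulAut.conj g).toMonoidHom
  have a'u : Commute a' (F.ψ uE) := by
    have h : eqK (winv iv5 Dat.gW ++ Dat.uW ++ Dat.gW) (sub [Dat.fW, Dat.vW] Dat.backU) = true := by decide +kernel
    have e := eqK_spec h
    rw [el_append, el_append, el_winv] at e
    exact moved e
  obtain ⟨q, hq⟩ := F.exists_pre (g := F.σ * a' * F.σ⁻¹) (by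
    have h := a'u.map (MulAut.conj F.σ).toMonoidHom
    simp only [MulEquiv.coe_toMonoidHom, MulAut.conj_apply, F.swap_u] at h
    exact h)
  have q5 : q ^ 5 = 1 := F.inj (by
    rw [map_pow, hq, conj_pow, ha', conj_pow, a5, mul_one, mul_inv_cancel, mul_one, mul_inv_cancel, map_one])
  have gt : Commute g t := F.psi_comm _
  have a't : t * a' * t⁻¹ = a'⁻¹ := by
    calc t * a' * t⁻¹ = g * (t * a * t⁻¹) * g⁻¹ := by
          rw [ha']
          calc t * (g * a * g⁻¹) * t⁻¹ = (t * g) * a * (t * g)⁻¹ := by group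
            _ = (g * t) * a * (g * t)⁻¹ := by rw [gt.eq]
            _ = _ := by group
      _ = a'⁻¹ := by rw [at', ha']; group
  have qinv : uE * q * uE = q⁻¹ := F.inj (by
    have hu : F.ψ uE = F.σ * t * F.σ⁻¹ := F.swap_t.symm
    have hu' : F.ψ uE = (F.ψ uE)⁻¹ := by rw [← map_inv, inv_eq_of_mul_eq_one_left uE_facts.1]
    rw [map_mul, map_mul, map_inv, hq]
    nth_rewrite 2 [hu']
    rw [hu]
    calc F.σ * t * F.σ⁻¹ * (F.σ * a' * F.σ⁻¹) * (F.σ * t * F.σ⁻¹)⁻¹ = F.σ * (t * a' * t⁻¹) * F.σ⁻¹ := by group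
      _ = _ := by rw [a't]; group)
  have qcom : ∀ j < 3, Commute q (el (sub [Dat.fW, tw Dat.sGood] (Dat.wgW.getD j []))) := by
    intro j hj
    have h : allLo (fun i => eqK (winv iv5 Dat.gW ++ sub [Dat.fW, Dat.vW] (Dat.wgW.getD i []) ++ Dat.gW)
      (sub [Dat.fW, Dat.vW] (Dat.backW.getD i []))) 3 = true := by decide +kernel
    have e := eqK_spec (allLo_spec h hj)
    rw [el_append, el_append, el_winv] at e
    refine F.inj ?_
    rw [map_mul, map_mul, hq, ← F.sw_fv hmap]
    exact ((moved e).map (MulAut.conj F.σ).toMonoidHom).eq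
  have a'n : F.ψ (el n2W) * a' = a' * a' * F.ψ (el n2W) := by
    have h : eqK (winv iv5 Dat.gW ++ n2W ++ Dat.gW) n1W = true := by decide +kernel
    have e := eqK_spec h
    rw [el_append, el_append, el_winv] at e
    have e' : F.ψ (el n2W) = g * F.ψ (el n1W) * g⁻¹ := by
      rw [← e, map_mul, map_mul, map_inv, ← hg]; group
    rw [e', ha']
    calc g * F.ψ (el n1W) * g⁻¹ * (g * a * g⁻¹) = g * (F.ψ (el n1W) * a) * g⁻¹ := by group
      _ = g * (a * a * F.ψ (el n1W)) * g⁻¹ := by rw [an]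
      _ = _ := by group
  have qn : el (sub (imgs zc) Dat.n2T) * q = q * q * el (sub (imgs zc) Dat.n2T) := F.inj (by
    rw [map_mul, map_mul, map_mul, hq, hzc, ← F.sw_sub hmap]
    calc F.σ * F.ψ (el (sub src Dat.n2T)) * F.σ⁻¹ * (F.σ * a' * F.σ⁻¹)
        = F.σ * (F.ψ (el n2W) * a') * F.σ⁻¹ := by rw [n2W]; group
      _ = F.σ * (a' * a' * F.ψ (el n2W)) * F.σ⁻¹ := by rw [a'n]
      _ = _ := by rw [n2W]; group)
  obtain ⟨e, he, hqe⟩ := stageQ hi q5 qinv qcom qn
  have a'e : g * a * g⁻¹ = a ^ e := by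
    rw [← ha']
    refine mul_left_cancel (a := F.σ) (mul_right_cancel (b := F.σ⁻¹) ?_)
    rw [← hq, hqe, map_pow, ← hp, ← sa, conj_pow]
  -- `g` has order seven, so it commutes with `a`
  have g7 : g ^ 7 = 1 := by
    have h : eqK (List.replicate 7 Dat.gW).flatten [] = true := by decide +kernel
    have e := congrArg F.ψ (eqK_spec h)
    simp only [List.replicate_succ, List.replicate_zero, List.flatten_cons, List.flatten_nil, el_append, el_nil,
      map_mul, map_one, mul_one] at e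
    rw [← e, hg]; simp [pow_succ, mul_assoc]
  have iter : ∀ n : ℕ, g ^ n * a * (g ^ n)⁻¹ = a ^ e ^ n := by
    intro n
    induction n with
    | zero => simp
    | succ n ih =>
      calc g ^ (n + 1) * a * (g ^ (n + 1))⁻¹ = g ^ n * (g * a * g⁻¹) * (g ^ n)⁻¹ := by rw [pow_succ]; group
        _ = _ := by rw [a'e, ← conj_pow, ih, ← pow_mul, pow_succ]
  haveI : Fact (Nat.Prime 5) := ⟨by norm_num⟩
  have he1 : e = 1 := by
    have h := iter 7
    rw [g7, one_mul, inv_one, mul_one] at h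
    have ho : orderOf a = 5 := orderOf_eq_prime a5 a1
    have hm : 1 ≡ e ^ 7 [MOD 5] := by
      rw [← ho, ← pow_eq_pow_iff_modEq, pow_one]; exact h
    interval_cases e <;> simp [Nat.ModEq] at hm ⊢
  rw [he1, pow_one] at a'e
  have ag : Commute a g := by
    show a * g = g * a
    conv_lhs => rw [← a'e]
    group
  have inU : ∀ w : List ℕ, Commute a (F.ψ (el (sub ugen w))) := by
    intro w
    rw [el_sub, map_wv]
    induction w with
    | nil => exact Commute.one_right a
    | cons l w ih =>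
      rw [wv_cons]
      refine Commute.mul_right ?_ ih
      match l with
      | 0 => exact af
      | 1 => exact av
      | 2 => exact ag
      | _ + 3 => simpa [ugen, el_nil] using Commute.one_right a
  have hy : Commute a (F.ψ hy) := by
    have h : eqK [2] (sub ugen Dat.yU) = true := by decide +kernel
    have e : el [2] = HN.hy := by simp [el, wv, g5]
    rw [← e, eqK_spec h]
    exact inU _
  have hx' : F.ψ hx * a = a * a * F.ψ hx := by
    have h : eqK n1W (sub ugen Dat.n1U ++ [0]) = true := by decide +kernel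
    have e := eqK_spec h
    rw [el_append, show el [0] = hx by simp [el, wv, g5]] at e
    rw [e, map_mul] at an
    set c := F.ψ (el (sub ugen Dat.n1U))
    have hc : Commute c (a * a) := (inU Dat.n1U).symm.mul_right (inU Dat.n1U).symm
    refine mul_left_cancel (a := c) ?_
    rw [← mul_assoc, an]
    simp only [← mul_assoc]
    rw [show a * a * c = c * a * a from by rw [mul_assoc c]; exact hc.eq.symm]
  refine ⟨a, ⟨a5, ?_, hy, ?_⟩, a1⟩
  · set b := (F.ψ hx)⁻¹ * a * F.ψ hx with hb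
    have hb2 : b * b = a := by
      have : a * a * F.ψ hx = F.ψ hx * a := hx'.symm
      rw [hb]
      calc _ = (F.ψ hx)⁻¹ * (a * a * F.ψ hx) := by group
        _ = a := by rw [this, inv_mul_cancel_left]
    have hb5 : b ^ 5 = 1 := by
      rw [hb, show (F.ψ hx)⁻¹ * a * F.ψ hx = (F.ψ hx)⁻¹ * a * ((F.ψ hx)⁻¹)⁻¹ by rw [inv_inv], conj_pow, a5]
      group
    calc b * a ^ 2 = b * (b * b) ^ 2 := by rw [hb2]
      _ = b ^ 5 := by simp [pow_succ, mul_assoc]
      _ = 1 := hb5
  · have e := congrArg F.ψ (eqK_spec hpz)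
    simp only [el_append, el_nil, map_mul, map_one, ← hp] at e
    have hz' : F.ψ (eT zc) = F.σ * F.ψ hz * F.σ⁻¹ := (hmap 2).symm
    rw [show el (tw zc) = eT zc from rfl, hz', ← sa] at e
    have e3 : F.σ * (F.ψ hz * a) ^ 3 * F.σ⁻¹ = 1 := by
      rw [← conj_pow, ← e]; simp only [pow_succ, pow_zero, one_mul]; group
    exact conj_eq_one_iff.1 e3

end Glue

end

end Cfsg.Agent.HNRecog.Amal
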