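import Cfsg.Agent.Lib.HNRecog.Amal.Candidates
import Cfsg.Agent.Lib.HN.Presentation

/-!
A group with a centraliser `C(t)` isomorphic to the group of `x, y, z`, an element interchanging `t` and `u`, and
the fusion of the outer classes contains an element satisfying the relations of the further generator of the
presented Harada-Norton group.
-/

set_option autoImplicit false
set_option maxRecDepth 100000

namespace Cfsg.Agent.HNRecog.Amal

open Cfsg.Agent.HN

attribute [local irreducible] Dat.cwT Dat.rwT Dat.clsT Dat.corder Dat.twoBits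

noncomputable section

universe u

/-- The local data. -/
structure Glue (G : Type u) [Group G] (t : G) where
  ψ : H0 →* G
  inj : Function.Injective ψ
  range : ψ.range = Subgroup.centralizer ({t} : Set G)
  sq : ψ (hx ^ 2) = t
  σ : G
  swap_t : σ * t * σ⁻¹ = ψ uE
  swap_u : σ * ψ uE * σ⁻¹ = t
  z_fused : IsConj t (ψ hz)
  zu_not : ¬IsConj t (ψ (hz * uE))
  ut_not : ¬IsConj t (ψ (uE * hx ^ 2))

variable {G : Type u} [Group G] {t : G}

theorem uE_facts : uE * uE = 1 ∧ Commute uE (hx ^ 2) ∧ el [4] = hz := by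
  refine ⟨?_, ?_, by simp [el, wv, g5]⟩
  · have h : eqK (Dat.uW ++ Dat.uW) [] = true := by decide +kernel
    have e := eqK_spec h
    rwa [el_append, el_nil] at e
  · exact Subgroup.mem_center_iff.1 hx_sq_central uE

theorem sq_comm (a : H0) : Commute a (hx ^ 2) := Subgroup.mem_center_iff.1 hx_sq_central a

theorem sigma_pow (σ a : G) (n : ℕ) : σ * a ^ n * σ⁻¹ = (σ * a * σ⁻¹) ^ n := conj_pow.symm

namespace Glue

variable (D : Glue G t)

theorem psi_comm (a : H0) : Commute (D.ψ a) t := by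
  have e := (sq_comm a).map D.ψ
  rwa [D.sq] at e

theorem exists_pre {g : G} (h : Commute g t) : ∃ a, D.ψ a = g := by
  have : g ∈ D.ψ.range := by rw [D.range]; exact Subgroup.mem_centralizer_singleton_iff.2 h.eq
  exact this

/-- `b` is the image of `a` under the interchange. -/
def Sw (a b : H0) : Prop := D.σ * D.ψ a * D.σ⁻¹ = D.ψ b

theorem sw_comm {a b : H0} (ha : Commute a uE) (h : D.Sw a b) : Commute b uE := by
  refine D.inj ?_
  rw [map_mul, map_mul, ← h, ← D.swap_t]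
  calc D.σ * D.ψ a * D.σ⁻¹ * (D.σ * t * D.σ⁻¹) = D.σ * (D.ψ a * t) * D.σ⁻¹ := by group
    _ = D.σ * (t * D.ψ a) * D.σ⁻¹ := by rw [(D.psi_comm a).eq]
    _ = _ := by group

theorem exists_sw {a : H0} (ha : Commute a uE) : ∃ b, D.Sw a b ∧ Commute b uE := by
  obtain ⟨b, hb⟩ := D.exists_pre (g := D.σ * D.ψ a * D.σ⁻¹) (by
    show _ * t = t * _
    calc D.σ * D.ψ a * D.σ⁻¹ * t = D.σ * D.ψ a * D.σ⁻¹ * (D.σ * D.ψ uE * D.σ⁻¹) := by rw [D.swap_u]
      _ = D.σ * (D.ψ a * D.ψ uE) * D.σ⁻¹ := by group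
      _ = D.σ * (D.ψ uE * D.ψ a) * D.σ⁻¹ := by rw [(ha.map D.ψ).eq]
      _ = D.σ * D.ψ uE * D.σ⁻¹ * (D.σ * D.ψ a * D.σ⁻¹) := by group
      _ = t * (D.σ * D.ψ a * D.σ⁻¹) := by rw [D.swap_u])
  exact ⟨b, hb.symm, D.sw_comm ha hb.symm⟩

theorem sw_one : D.Sw 1 1 := by simp [Sw]

theorem sw_mul {a b a' b' : H0} (h : D.Sw a b) (h' : D.Sw a' b') : D.Sw (a * a') (b * b') := by
  unfold Sw at *
  rw [map_mul, map_mul, ← h, ← h']; group

theorem sw_unique {a b b' : H0} (h : D.Sw a b) (h' : D.Sw a b') : b = b' := D.inj (h.symm.trans h')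

theorem sw_eq_one {a b : H0} (h : D.Sw a b) (hb : b = 1) : a = 1 := by
  subst hb
  refine D.inj ?_
  unfold Sw at h
  rw [map_one] at h ⊢
  exact conj_eq_one_iff.1 h

theorem sw_wv {g g' : ℕ → H0} (h : ∀ l, D.Sw (g l) (g' l)) (w : List ℕ) : D.Sw (wv g w) (wv g' w) := by
  induction w with
  | nil => exact D.sw_one
  | cons l w ih => exact D.sw_mul (h l) ih

/-- Change of the interchanging element by a coded element. -/
def adjust (d : H0) (hd : Commute d uE) : Glue G t :=
  { D with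
    σ := D.ψ d * D.σ
    swap_t := by
      calc D.ψ d * D.σ * t * (D.ψ d * D.σ)⁻¹ = D.ψ d * (D.σ * t * D.σ⁻¹) * (D.ψ d)⁻¹ := by group
        _ = D.ψ uE := by rw [D.swap_t, (hd.map D.ψ).eq, mul_inv_cancel_right]
    swap_u := by
      calc D.ψ d * D.σ * D.ψ uE * (D.ψ d * D.σ)⁻¹ = D.ψ d * (D.σ * D.ψ uE * D.σ⁻¹) * (D.ψ d)⁻¹ := by group
        _ = t := by rw [D.swap_u, (D.psi_comm d).eq, mul_inv_cancel_right] }

theorem sw_adjust {a b : H0} {d : H0} (hd : Commute d uE) (h : D.Sw a b) :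
    (D.adjust d hd).Sw a (d * b * d⁻¹) := by
  show D.ψ d * D.σ * D.ψ a * (D.ψ d * D.σ)⁻¹ = D.ψ (d * b * d⁻¹)
  rw [map_mul, map_mul, map_inv, ← h]; group

theorem conj_psi_of {a b : H0} (h : D.Sw a b) : IsConj (D.ψ a) (D.ψ b) := isConj_iff.2 ⟨D.σ, h⟩

/-- `t` is conjugate to `u`. -/
theorem u_fused : IsConj t (D.ψ uE) := isConj_iff.2 ⟨D.σ, D.swap_t⟩

end Glue

theorem fW_facts : Commute (el Dat.fW) uE ∧ el Dat.fW ^ 5 = 1 ∧ el Dat.fW ≠ 1 := by
  refine ⟨?_, ?_, ?_⟩
  · have h : comK Dat.fW Dat.uW = true := by decide +kernel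
    exact (comK_spec h).2.2
  · have h : eqK (Dat.fW ++ Dat.fW ++ Dat.fW ++ Dat.fW ++ Dat.fW) [] = true := by decide +kernel
    have e := eqK_spec h
    simp only [el_append, el_nil] at e
    rw [← e]; simp [pow_succ]
  · intro e
    have h : Nat.beq (keyW Dat.fW) (keyW []) = false := by decide +kernel
    rw [(keyW_eq_iff fW_ok (v := []) rfl).2 (e.trans el_nil.symm)] at h
    simp at h

/-- Every element of order five commuting with `u` is conjugate to `f` there. -/
theorem five_conj {a : H0} (ha : Commute a uE) (h5 : a ^ 5 = 1) (hne : a ≠ 1) :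
    ∃ d : H0, Commute d uE ∧ d * a * d⁻¹ = el Dat.fW := by
  classical
  haveI : Finite H0 := finite_H0
  haveI : Fact (Nat.Prime 5) := ⟨by norm_num⟩
  set T := Subgroup.centralizer ({uE} : Set H0) with hT
  obtain ⟨hf, hf5, hf1⟩ := fW_facts
  have card5 : ∀ b : T, b ^ 5 = 1 → b ≠ 1 → Nat.card (Subgroup.zpowers b) = 5 ^ (Nat.card T).factorization 5 := by
    intro b hb hb1
    rw [Nat.card_zpowers, orderOf_eq_prime hb hb1, both_lists.2.2,
      show Nat.factorization 30720 5 = 1 by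
        rw [show 30720 = 5 ^ 1 * 6144 by norm_num, Nat.factorization_mul (by norm_num) (by norm_num),
          Finsupp.add_apply, Nat.Prime.factorization_pow (by norm_num), Finsupp.single_eq_same,
          Nat.factorization_eq_zero_of_not_dvd (by norm_num)]]
    norm_num
  let A : T := ⟨a, Subgroup.mem_centralizer_singleton_iff.2 ha.eq⟩
  let B : T := ⟨el Dat.fW, Subgroup.mem_centralizer_singleton_iff.2 hf.eq⟩
  let P := Sylow.ofCard (Subgroup.zpowers A) (card5 A (Subtype.ext h5) fun e => hne (congrArg Subtype.val e))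
  let Q := Sylow.ofCard (Subgroup.zpowers B) (card5 B (Subtype.ext hf5) fun e => hf1 (congrArg Subtype.val e))
  obtain ⟨g, hg⟩ := MulAction.exists_smul_eq T P Q
  have hm : g * A * g⁻¹ ∈ Subgroup.zpowers B := by
    have : g * A * g⁻¹ ∈ ((g • P : Sylow 5 T) : Subgroup T) := by
      rw [Sylow.coe_subgroup_smul, Subgroup.mem_pointwise_smul_iff_inv_smul_mem]
      show (MulAut.conj g)⁻¹ (g * A * g⁻¹) ∈ Subgroup.zpowers A
      simp [MulAut.conj_inv_apply, mul_assoc]
    rw [hg] at this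
    exact this
  obtain ⟨k, hk⟩ : g * A * g⁻¹ ∈ Submonoid.powers B := mem_powers_iff_mem_zpowers.2 hm
  have hk' : (g : H0) * a * (g : H0)⁻¹ = el Dat.fW ^ (k % 5) := by
    rw [← pow_eq_pow_mod k hf5]
    exact (congrArg Subtype.val hk).symm
  have hgc : Commute (g : H0) uE := Subgroup.mem_centralizer_singleton_iff.1 g.2
  have hlt := Nat.mod_lt k (show 5 > 0 by norm_num)
  generalize k % 5 = m at hk' hlt
  have hgen : allLo (fun k => Nat.blt (Dat.fPow.getD k 0) 30720 && eqK (tw (Dat.fPow.getD k 0) ++ Dat.fW)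
      ((List.replicate (Nat.add k 2) Dat.fW).flatten ++ tw (Dat.fPow.getD k 0))) 3 = true := by
    have h := gen_ok
    simp only [okGen, Bool.and_eq_true] at h
    exact h.1.1.1.1.1.1.2
  have rep : ∀ i : ℕ, el (List.replicate i Dat.fW).flatten = el Dat.fW ^ i := by
    intro i
    induction i with
    | zero => simp [el_nil]
    | succ i ih => rw [List.replicate_succ, List.flatten_cons, el_append, ih, pow_succ']
  have pick : ∀ i < 3, ∃ c : H0, Commute c uE ∧ c * el Dat.fW * c⁻¹ = el Dat.fW ^ (i + 2) := by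
    intro i hi
    have h := allLo_spec hgen hi
    simp only [Bool.and_eq_true, Nat.blt_eq] at h
    refine ⟨eT (Dat.fPow.getD i 0), (tw_spec h.1).2, ?_⟩
    have e := eqK_spec h.2
    rw [el_append, el_append, rep] at e
    rw [eT, e, mul_inv_cancel_right]
  rcases (show m = 0 ∨ m = 1 ∨ (2 ≤ m ∧ m < 5) by omega) with rfl | rfl | ⟨hm2, hm5⟩
  · exfalso
    rw [pow_zero, conj_eq_one_iff] at hk'
    exact hne hk'
  · exact ⟨g, hgc, by rw [hk', pow_one]⟩
  · obtain ⟨c, hc, he⟩ := pick (m - 2) (by omega)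
    rw [show m - 2 + 2 = m by omega] at he
    refine ⟨c⁻¹ * g, hc.inv_left.mul_left hgc, ?_⟩
    calc c⁻¹ * (g : H0) * a * (c⁻¹ * (g : H0))⁻¹ = c⁻¹ * ((g : H0) * a * (g : H0)⁻¹) * c := by group
      _ = c⁻¹ * (c * el Dat.fW * c⁻¹) * c := by rw [hk', he]
      _ = el Dat.fW := by group

end

end Cfsg.Agent.HNRecog.Amal
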