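import Cfsg.Agent.Lib.HNRecog.Local.Table
import Cfsg.Agent.Lib.HNRecog.Amal.CheckGen
import Cfsg.Agent.Lib.HNRecog.Amal.CheckCls0
import Cfsg.Agent.Lib.HNRecog.Amal.CheckCls1
import Cfsg.Agent.Lib.HNRecog.Amal.CheckCls2
import Cfsg.Agent.Lib.HNRecog.Amal.CheckCls3
import Cfsg.Agent.Lib.HNRecog.Amal.CheckCls4
import Mathlib.GroupTheory.GroupAction.ConjAct

/-!
The elements commuting with `u` are the 30720 coded products and the conjugates of `u` are the 5775 listed ones.
-/

set_option autoImplicit false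
set_option maxRecDepth 100000

namespace Cfsg.Agent.HNRecog.Amal

open Cfsg.Agent.HN

attribute [local irreducible] Dat.cwT Dat.rwT Dat.clsT Dat.corder

noncomputable section

/-- The involution `u`. -/
def uE : H0 := el Dat.uW

theorem eqK_spec {u v : List ℕ} (h : eqK u v = true) : el u = el v := by
  simp only [eqK, Bool.and_eq_true, Nat.beq_eq] at h
  exact (keyW_eq_iff h.1.1 h.1.2).1 h.2

theorem eqK_left {u v : List ℕ} (h : eqK u v = true) : letOK 5 u = true ∧ letOK 5 v = true := by
  simp only [eqK, Bool.and_eq_true] at h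
  exact h.1

theorem letOK_append {u v : List ℕ} (h : letOK 5 (u ++ v) = true) : letOK 5 u = true ∧ letOK 5 v = true := by
  simp only [letOK, List.all_append, Bool.and_eq_true] at h
  exact h

theorem comK_spec {u v : List ℕ} (h : comK u v = true) :
    letOK 5 u = true ∧ letOK 5 v = true ∧ Commute (el u) (el v) := by
  obtain ⟨h1, h2⟩ := letOK_append (eqK_left h).1
  refine ⟨h1, h2, ?_⟩
  have e := eqK_spec h
  rwa [el_append, el_append] at e

theorem uW_ok : letOK 5 Dat.uW = true := by decide +kernel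

theorem chunk {f : ℕ → Bool} {b len n : ℕ} (h : allLo (fun i => f (Nat.add b i)) len = true) (h1 : b ≤ n)
    (h2 : n < b + len) : f n = true := by
  have := allLo_spec h (i := n - b) (by omega)
  rwa [show Nat.add b (n - b) = n from by show b + (n - b) = n; omega] at this

/-! ### The coded elements -/

theorem cw_spec {j : ℕ} (hj : j < 240) :
    letOK 5 (cw j) = true ∧ Commute (el (cw j)) uE ∧ big.actW (cw j) 0 = 0 := by
  have h := allLo_spec tableC_ok hj
  simp only [okC, Bool.and_eq_true, Nat.beq_eq] at h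
  exact ⟨(comK_spec h.1).1, (comK_spec h.1).2.2, h.2⟩

theorem rw_spec {k : ℕ} (hk : k < 128) :
    letOK 5 (rw' k) = true ∧ Commute (el (rw' k)) uE ∧ big.actW (rw' k) 0 = Dat.imgR.getD k 0 ∧
      ∀ i < k, Dat.imgR.getD i 0 ≠ Dat.imgR.getD k 0 := by
  have h := allLo_spec tableR_ok hk
  simp only [okR, Bool.and_eq_true, Nat.beq_eq] at h
  refine ⟨(comK_spec h.1.1).1, (comK_spec h.1.1).2.2, h.1.2, fun i hi => ?_⟩
  intro e
  have h3 := allLo_spec h.2 hi
  rw [e] at h3
  simp at h3

theorem cw_injective {a b : ℕ} (ha : a < 240) (hb : b < 240) (h : keyW (cw a) = keyW (cw b)) : a = b := by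
  let π : Fin 240 → Fin 240 := fun k => ⟨Dat.corder.get k, by
    have := allLo_spec sortC_ok k.2
    simp only [okCSort, Bool.and_eq_true, Nat.blt_eq] at this
    exact this.1⟩
  have hmono : StrictMono fun k : Fin 240 => keyW (cw (π k)) := by
    rw [Fin.strictMono_iff_lt_succ (n := 239)]
    intro k
    have := allLo_spec sortC_ok (i := k.1) (by omega)
    simp only [okCSort, Bool.and_eq_true, Nat.blt_eq, Bool.or_eq_true, Nat.beq_eq] at this
    exact this.2.resolve_left (by omega)
  have hπ : Function.Bijective π := Finite.injective_iff_bijective.1 fun a b e =>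
    hmono.injective (show keyW (cw (π a)) = keyW (cw (π b)) by rw [e])
  obtain ⟨i, hi⟩ := hπ.2 ⟨a, ha⟩
  obtain ⟨j, hj⟩ := hπ.2 ⟨b, hb⟩
  have : i = j := hmono.injective (show keyW (cw (π i)) = keyW (cw (π j)) by rw [hi, hj]; exact h)
  rw [this, hj] at hi
  exact (congrArg Fin.val hi).symm

/-- The element of a code. -/
def eT (c : ℕ) : H0 := el (tw c)

theorem tw_spec {c : ℕ} (hc : c < 30720) : letOK 5 (tw c) = true ∧ Commute (eT c) uE := by
  have h1 := cw_spec (j := c % 240) (Nat.mod_lt _ (by norm_num))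
  have h2 := rw_spec (k := c / 240) (by omega)
  refine ⟨letOK_cat h1.1 h2.1, ?_⟩
  show Commute (el (cw (c % 240) ++ rw' (c / 240))) uE
  rw [el_append]
  exact h1.2.1.mul_left h2.2.1

theorem eT_injective {a b : ℕ} (ha : a < 30720) (hb : b < 30720) (h : eT a = eT b) : a = b := by
  have hk : keyW (tw a) = keyW (tw b) := (keyW_eq_iff (tw_spec ha).1 (tw_spec hb).1).2 h
  have himg : ∀ {c : ℕ}, c < 30720 → fld (keyW (tw c)) 0 = Dat.imgR.getD (c / 240) 0 := by
    intro c hc
    rw [keyW, fld_pack6 (small_images (tw_spec hc).1) (by norm_num)]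
    show big.actW (cw (c % 240) ++ rw' (c / 240)) 0 = _
    rw [actW_cat, (cw_spec (Nat.mod_lt _ (by norm_num))).2.2, (rw_spec (by omega)).2.2.1]
  have e1 : Dat.imgR.getD (a / 240) 0 = Dat.imgR.getD (b / 240) 0 := by rw [← himg ha, ← himg hb, hk]
  have e2 : a / 240 = b / 240 := by
    rcases Nat.lt_trichotomy (a / 240) (b / 240) with h' | h' | h'
    · exact absurd e1 ((rw_spec (by omega)).2.2.2 _ h')
    · exact h'
    · exact absurd e1.symm ((rw_spec (by omega)).2.2.2 _ h')
  have e3 : el (cw (a % 240)) = el (cw (b % 240)) := by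
    have h' : el (cw (a % 240) ++ rw' (a / 240)) = el (cw (b % 240) ++ rw' (b / 240)) := h
    rw [el_append, el_append, e2] at h'
    exact mul_right_cancel h'
  have := cw_injective (Nat.mod_lt _ (by norm_num)) (Nat.mod_lt _ (by norm_num))
    ((keyW_eq_iff (cw_spec (Nat.mod_lt _ (by norm_num))).1 (cw_spec (Nat.mod_lt _ (by norm_num))).1).2 e3)
  omega

/-! ### The class -/

/-- A listed conjugate. -/
def eU (k : ℕ) : H0 := el (uk k)

theorem eU_eq (k : ℕ) : eU k = (el (hw k))⁻¹ * uE * el (hw k) := by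
  rw [eU, uk, el_append, el_append, el_winv, uE]

theorem cls_spec {k : ℕ} (hk : k < 5775) :
    letOK 5 (uk k) = true ∧ (k + 1 < 5775 → keyW (uk k) < keyW (uk (k + 1))) := by
  have h : okCls k = true := by
    rcases Nat.lt_or_ge k 1155 with h | h
    · exact chunk cls_ok0 (by omega) (by omega)
    rcases Nat.lt_or_ge k 2310 with h | h
    · exact chunk cls_ok1 (by omega) (by omega)
    rcases Nat.lt_or_ge k 3465 with h | h
    · exact chunk cls_ok2 (by omega) (by omega)
    rcases Nat.lt_or_ge k 4620 with h | h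
    · exact chunk cls_ok3 (by omega) (by omega)
    exact chunk cls_ok4 (by omega) (by omega)
  simp only [okCls, Bool.and_eq_true, Bool.or_eq_true, Nat.beq_eq, Nat.blt_eq] at h
  exact ⟨letOK_cat (letOK_cat (letOK_winv h.1) uW_ok) h.1,
    fun hlt => h.2.resolve_left (by omega)⟩

theorem eU_injective {a b : ℕ} (ha : a < 5775) (hb : b < 5775) (h : eU a = eU b) : a = b := by
  have hk := (keyW_eq_iff (cls_spec ha).1 (cls_spec hb).1).2 h
  have hmono : StrictMono fun k : Fin 5775 => keyW (uk k) := by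
    rw [Fin.strictMono_iff_lt_succ (n := 5774)]
    intro k
    exact (cls_spec (k := k.1) (by omega)).2 (by omega)
  exact congrArg Fin.val (hmono.injective (a₁ := ⟨a, ha⟩) (a₂ := ⟨b, hb⟩) hk)

theorem conj_card :
    Nat.card (MulAction.orbit (ConjAct H0) uE) * Nat.card (Subgroup.centralizer ({uE} : Set H0)) = 177408000 := by
  haveI : Finite H0 := finite_H0
  rw [← card_H0, Subgroup.nat_card_centralizer_nat_card_stabilizer, ← Nat.card_prod]
  exact Nat.card_congr (MulAction.orbitProdStabilizerEquivGroup (ConjAct H0) uE)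

theorem both_lists :
    (∀ a : H0, Commute a uE → ∃ c < 30720, eT c = a) ∧
      (∀ b : H0, IsConj uE b → ∃ k < 5775, eU k = b) ∧
        Nat.card (Subgroup.centralizer ({uE} : Set H0)) = 30720 := by
  haveI : Finite H0 := finite_H0
  classical
  let fT : Fin 30720 → Subgroup.centralizer ({uE} : Set H0) := fun c =>
    ⟨eT c, Subgroup.mem_centralizer_singleton_iff.2 (tw_spec c.2).2.eq⟩
  have hT : Function.Injective fT := fun a b e => Fin.ext (eT_injective a.2 b.2 (congrArg Subtype.val e))
  let fU : Fin 5775 → MulAction.orbit (ConjAct H0) uE := fun k => ⟨eU k, by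
    rw [ConjAct.mem_orbit_conjAct]
    exact IsConj.symm (isConj_iff.2 ⟨(el (hw k))⁻¹, by rw [eU_eq]; group⟩)⟩
  have hU : Function.Injective fU := fun a b e => Fin.ext (eU_injective a.2 b.2 (congrArg Subtype.val e))
  have h1 := Nat.card_le_card_of_injective fT hT
  have h2 := Nat.card_le_card_of_injective fU hU
  rw [Nat.card_fin] at h1 h2
  have hp := conj_card
  have e1 : Nat.card (Subgroup.centralizer ({uE} : Set H0)) = 30720 := by nlinarith
  have e2 : Nat.card (MulAction.orbit (ConjAct H0) uE) = 5775 := by rw [e1] at hp; omega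
  refine ⟨fun a ha => ?_, fun b hb => ?_, e1⟩
  · obtain ⟨c, hc⟩ := (hT.bijective_of_nat_card_le (by rw [e1, Nat.card_fin])).2
      ⟨a, Subgroup.mem_centralizer_singleton_iff.2 ha.eq⟩
    exact ⟨c, c.2, congrArg Subtype.val hc⟩
  · obtain ⟨k, hk⟩ := (hU.bijective_of_nat_card_le (by rw [e2, Nat.card_fin])).2
      ⟨b, by rw [ConjAct.mem_orbit_conjAct]; exact hb.symm⟩
    exact ⟨k, k.2, congrArg Subtype.val hk⟩

end

end Cfsg.Agent.HNRecog.Amal
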